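import Groth.Agent.Ega43.FlatAdic
import Mathlib.RingTheory.RingHom.Flat
import Mathlib.RingTheory.AdicCompletion.Basic
import Mathlib.LinearAlgebra.TensorProduct.Quotient
import Mathlib.LinearAlgebra.Quotient.Basic
import Mathlib.RingTheory.Nakayama

/-!
# Flatness of a map of adic rings from flatness at all levels
-/

set_option autoImplicit false

universe u

open TensorProduct

namespace K919.AlgFlat

/-- `I B + J^2 = J` and `J` in the Jacobson radical, `J` finitely generated imply `I B = J`. -/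
theorem map_eq_of_le_sup_sq {B : Type u} [CommRing B] (I J : Ideal B) (hJ : J ≤ Ideal.jacobson ⊥) (hfg : J.FG)
    (hI : I ≤ J) (h : J ≤ I ⊔ J ^ 2) : I = J := by
  refine le_antisymm hI ?_
  refine Submodule.le_of_le_smul_of_le_jacobson_bot hfg hJ ?_
  rw [smul_eq_mul, ← pow_two]
  exact h

/-- A map of Noetherian rings `A → B` such that `B` is `I B`-adically complete and all the maps
`A / I ^ (n + 1) → B / I ^ (n + 1) B` are flat is flat. -/
theorem flat_of_levels {A B : Type u} [CommRing A] [CommRing B] [IsNoetherianRing A] [IsNoetherianRing B]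
    (ρ : A →+* B) (I : Ideal A) [IsAdicComplete (I.map ρ) B]
    (A' B' : ℕ → Type u) [∀ n, CommRing (A' n)] [∀ n, CommRing (B' n)]
    (p : ∀ n, A →+* A' n) (hp : ∀ n, Function.Surjective (p n)) (hpk : ∀ n, RingHom.ker (p n) = I ^ (n + 1))
    (q : ∀ n, B →+* B' n) (hq : ∀ n, Function.Surjective (q n))
    (hqk : ∀ n, RingHom.ker (q n) = (I.map ρ) ^ (n + 1))
    (σ : ∀ n, A' n →+* B' n) (hσ : ∀ n, (σ n).comp (p n) = (q n).comp ρ) (hf : ∀ n, (σ n).Flat) : ρ.Flat := by
  algebraize [ρ]
  change Module.Flat A B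
  refine Groth.Agent.Ega43.FlatAdic.flat_of_forall_flat_quotient_pow (R := A) (S := B) (M := B) I
    (IsAdicComplete.le_jacobson_bot (I.map ρ)) ?_
  intro n
  obtain _ | k := n
  · have : Subsingleton (A ⧸ I ^ 0) := by
      rw [pow_zero, Ideal.one_eq_top]
      exact Ideal.Quotient.subsingleton_iff.2 rfl
    have : Subsingleton ((A ⧸ I ^ 0) ⊗[A] B) := inferInstance
    infer_instance
  · let e0 : (A ⧸ I ^ (k + 1)) ≃+* A' k :=
      (Ideal.quotEquivOfEq (hpk k).symm).trans (RingHom.quotientKerEquivOfSurjective (hp k))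
    let τ : (A ⧸ I ^ (k + 1)) →+* B' k := (σ k).comp e0.toRingHom
    have hτ : τ.Flat := RingHom.Flat.comp (RingHom.Flat.of_bijective e0.bijective) (hf k)
    let _ : Algebra (A ⧸ I ^ (k + 1)) (B' k) := τ.toAlgebra
    have hfl : Module.Flat (A ⧸ I ^ (k + 1)) (B' k) := hτ
    let _ : Algebra A (B' k) := ((q k).comp ρ).toAlgebra
    have hst : IsScalarTower A (A ⧸ I ^ (k + 1)) (B' k) := by
      refine IsScalarTower.of_algebraMap_eq fun a => ?_
      have h1 := congrArg (fun φ : A →+* B' k => φ a) (hσ k)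
      exact h1.symm
    -- the `A`-linear map `B → B' k`
    let ql : B →ₗ[A] B' k := { (q k).toAddMonoidHom with
      map_smul' := fun a b => by
        change (q k) (a • b) = a • (q k b)
        rw [Algebra.smul_def, map_mul, Algebra.smul_def]
        rfl }
    have hql : LinearMap.ker ql = (I ^ (k + 1)) • (⊤ : Submodule A B) := by
      rw [Ideal.smul_top_eq_map]
      ext b
      have h2 : b ∈ RingHom.ker (q k) ↔ b ∈ (I ^ (k + 1)).map (algebraMap A B) := by
        rw [hqk k, Ideal.map_pow]
        rfl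
      exact h2
    let e1 : ((A ⧸ I ^ (k + 1)) ⊗[A] B) ≃ₗ[A] B' k :=
      (TensorProduct.quotTensorEquivQuotSMul B (I ^ (k + 1))).trans
        ((Submodule.quotEquivOfEq _ _ hql.symm).trans (LinearMap.quotKerEquivOfSurjective ql (hq k)))
    exact Module.Flat.of_linearEquiv (e1.extendScalarsOfSurjective Ideal.Quotient.mk_surjective)

end K919.AlgFlat
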