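import Groth.Agent.FTors.K919.AffBasic
import Groth.Agent.FTors.K919.AlgFlat
import Mathlib.AlgebraicGeometry.Morphisms.Flat

/-!
# Sections of the structure sheaf of a locally Noetherian formal system over affine opens, II

* `rs`: restriction of sections of `O_𝔛`; compatible with the levels (`pr_rs`).
* `map_II`: `II V = (II U) O_𝔛(V)` for affine `V ≤ U`.
* `flat_rs`: `O_𝔛(U) → O_𝔛(V)` is flat for affine `V ≤ U`.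
* `Dop`: the basic open `D(a)` of `a ∈ O_𝔛(U)`.
-/

set_option autoImplicit false

universe u

open CategoryTheory CategoryTheory.Limits AlgebraicGeometry TopologicalSpace Opposite

namespace K919.AffFlat

open K919.AffBasic

variable (𝔛 : FSch.Sys.{u}) (h : 𝔛.IsFormal)

/-- Restriction of sections of `O_𝔛`. -/
noncomputable abbrev rs {U V : (𝔛.X 0).Opens} (i : V ≤ U) : OU 𝔛 h U →+* OU 𝔛 h V :=
  ((𝔛.Osh h).obj.map (homOfLE i).op).hom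

/-- Restriction of sections of `O_{X n}`. -/
noncomputable abbrev rsL (n : ℕ) {U V : (𝔛.X 0).Opens} (i : V ≤ U) : LU 𝔛 h n U →+* LU 𝔛 h n V :=
  ((𝔛.levelObj h n).obj.map (homOfLE i).op).hom

theorem pr_rs (n : ℕ) {U V : (𝔛.X 0).Opens} (i : V ≤ U) (x : OU 𝔛 h U) :
    pr 𝔛 h n V (rs 𝔛 h i x) = rsL 𝔛 h n i (pr 𝔛 h n U x) :=
  congrArg (fun φ => φ.hom x) ((𝔛.OshProj h n).hom.naturality (homOfLE i).op)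

theorem tr_rsL (n : ℕ) {U V : (𝔛.X 0).Opens} (i : V ≤ U) (x : LU 𝔛 h (n + 1) U) :
    tr 𝔛 h n V (rsL 𝔛 h (n + 1) i x) = rsL 𝔛 h n i (tr 𝔛 h n U x) :=
  congrArg (fun φ => φ.hom x) ((𝔛.levelMap h n).hom.naturality (homOfLE i).op)

theorem rsL_eq (n : ℕ) {U V : (𝔛.X 0).Opens} (i : V ≤ U) :
    rsL 𝔛 h n i = ((𝔛.X n).presheaf.map (homOfLE ((Opens.map (𝔛.gInv h n)).monotone i)).op).hom := rfl

theorem flat_rsL (h𝔛 : 𝔛.IsLocNoethFormal) {U V : (𝔛.X 0).Opens} (hU : IsAffineOpen (𝔛.lvU h𝔛.1 0 U))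
    (hV : IsAffineOpen (𝔛.lvU h𝔛.1 0 V)) (i : V ≤ U) (n : ℕ) : (rsL 𝔛 h𝔛.1 n i).Flat := by
  have e := (𝟙 (𝔛.X n) : 𝔛.X n ⟶ 𝔛.X n).flat_appLE (isAffineOpen_lvU 𝔛 h𝔛.1 hU n) (isAffineOpen_lvU 𝔛 h𝔛.1 hV n)
    ((Opens.map (𝔛.gInv h𝔛.1 n)).monotone i)
  rw [Scheme.Hom.appLE] at e
  have e2 : (𝟙 (𝔛.X n) : 𝔛.X n ⟶ 𝔛.X n).app (𝔛.lvU h𝔛.1 n U) ≫
      (𝔛.X n).presheaf.map (homOfLE ((Opens.map (𝔛.gInv h𝔛.1 n)).monotone i)).op =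
      (𝔛.X n).presheaf.map (homOfLE ((Opens.map (𝔛.gInv h𝔛.1 n)).monotone i)).op := Category.id_comp _
  rw [rsL_eq, ← e2]
  exact e

variable {𝔛} (h𝔛 : 𝔛.IsLocNoethFormal)

theorem map_II {U V : (𝔛.X 0).Opens} (hU : IsAffineOpen (𝔛.lvU h𝔛.1 0 U))
    (hV : IsAffineOpen (𝔛.lvU h𝔛.1 0 V)) (i : V ≤ U) : (II 𝔛 h𝔛.1 U).map (rs 𝔛 h𝔛.1 i) = II 𝔛 h𝔛.1 V := by
  have hc := isAdicComplete h𝔛 hV
  refine AlgFlat.map_eq_of_le_sup_sq _ _ (IsAdicComplete.le_jacobson_bot _) (main h𝔛 hV).2.2 ?_ ?_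
  · rw [Ideal.map_le_iff_le_comap]
    intro x hx
    change pr 𝔛 h𝔛.1 0 V (rs 𝔛 h𝔛.1 i x) = 0
    rw [pr_rs]
    have : pr 𝔛 h𝔛.1 0 U x = 0 := hx
    rw [this, map_zero]
  · -- at level one
    have h1 := (h𝔛.1 0).1
    have h2 := Groth.Agent.Fcompl.H545.SysBasic.isClosedImmersion_toX 𝔛 h𝔛.1 1
    have hk : ∀ {W : (𝔛.X 0).Opens} (hW : IsAffineOpen (𝔛.lvU h𝔛.1 0 W)), RingHom.ker (tr0 𝔛 h𝔛.1 1 W) =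
        (𝔛.toX 1).ker.ideal ⟨𝔛.lvU h𝔛.1 1 W, isAffineOpen_lvU 𝔛 h𝔛.1 hW 1⟩ := by
      intro W hW
      rw [Scheme.Hom.ker_apply]
      exact ker_appLE_of_eq (𝔛.toX 1) _ _ _ (by rw [toX_preimage_lvU, lvU_zero])
    have hl : (RingHom.ker (tr0 𝔛 h𝔛.1 1 U)).map (rsL 𝔛 h𝔛.1 1 i) = RingHom.ker (tr0 𝔛 h𝔛.1 1 V) := by
      rw [hk hU, hk hV]
      exact (𝔛.toX 1).ker.map_ideal (U := ⟨_, isAffineOpen_lvU 𝔛 h𝔛.1 hV 1⟩)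
        (V := ⟨_, isAffineOpen_lvU 𝔛 h𝔛.1 hU 1⟩) ((Opens.map (𝔛.gInv h𝔛.1 1)).monotone i)
    have hm : ∀ {W : (𝔛.X 0).Opens} (hW : IsAffineOpen (𝔛.lvU h𝔛.1 0 W)),
        (II 𝔛 h𝔛.1 W).map (pr 𝔛 h𝔛.1 1 W) = RingHom.ker (tr0 𝔛 h𝔛.1 1 W) := by
      intro W hW
      rw [II, ← tr0_pr 𝔛 h𝔛.1 1 W, ← RingHom.comap_ker, Ideal.map_comap_of_surjective _ (pr_surjective h𝔛 hW 1)]
    have hle : (II 𝔛 h𝔛.1 V).map (pr 𝔛 h𝔛.1 1 V) ≤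
        ((II 𝔛 h𝔛.1 U).map (rs 𝔛 h𝔛.1 i)).map (pr 𝔛 h𝔛.1 1 V) := by
      rw [hm hV, ← hl, ← hm hU, Ideal.map_map, Ideal.map_map]
      refine le_of_eq (congrArg (fun φ => Ideal.map φ _) ?_)
      ext x
      exact (pr_rs 𝔛 h𝔛.1 1 i x).symm
    have h3 := Ideal.comap_mono (f := pr 𝔛 h𝔛.1 1 V) hle
    rw [Ideal.comap_map_of_surjective _ (pr_surjective h𝔛 hV 1)] at h3
    have h4 : Ideal.comap (pr 𝔛 h𝔛.1 1 V) ⊥ = II 𝔛 h𝔛.1 V ^ 2 := ker_pr h𝔛 hV 1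
    exact (Ideal.le_comap_map).trans ((Ideal.comap_mono hle).trans (by
      rw [Ideal.comap_map_of_surjective _ (pr_surjective h𝔛 hV 1), h4]))

theorem flat_rs {U V : (𝔛.X 0).Opens} (hU : IsAffineOpen (𝔛.lvU h𝔛.1 0 U))
    (hV : IsAffineOpen (𝔛.lvU h𝔛.1 0 V)) (i : V ≤ U) : (rs 𝔛 h𝔛.1 i).Flat := by
  have h1 := isNoetherianRing_OU h𝔛 hU
  have h2 := isNoetherianRing_OU h𝔛 hV
  have h3 : IsAdicComplete ((II 𝔛 h𝔛.1 U).map (rs 𝔛 h𝔛.1 i)) (OU 𝔛 h𝔛.1 V) := by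
    rw [map_II h𝔛 hU hV i]
    exact isAdicComplete h𝔛 hV
  refine AlgFlat.flat_of_levels (rs 𝔛 h𝔛.1 i) (II 𝔛 h𝔛.1 U) (fun n => LU 𝔛 h𝔛.1 n U) (fun n => LU 𝔛 h𝔛.1 n V)
    (fun n => pr 𝔛 h𝔛.1 n U) (pr_surjective h𝔛 hU) (ker_pr h𝔛 hU) (fun n => pr 𝔛 h𝔛.1 n V)
    (pr_surjective h𝔛 hV) ?_ (fun n => rsL 𝔛 h𝔛.1 n i) ?_ (fun n => flat_rsL 𝔛 h𝔛 hU hV i n)
  · intro n
    rw [map_II h𝔛 hU hV i]
    exact ker_pr h𝔛 hV n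
  · intro n
    ext x
    exact (pr_rs 𝔛 h𝔛.1 n i x).symm

end K919.AffFlat
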