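import Groth.Prelude.Def_FSch5
import Groth.Agent.S0440
import Groth.Agent.S2292
import Groth.Agent.S3856
import Groth.Agent.Fcompl.H545.SysBasic

/-!
# Sections of the structure sheaf of a locally Noetherian formal system over affine opens, I

* `osh_ext`, `osh_lift`: sections of `O_𝔛` over an open are compatible families of sections of the levels.
* `isAffineOpen_lvU`: if the smallest level of `U` is affine, every level is.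
* `aff_main`: `OshProj n` is surjective over `U` with kernel `I ^ (n + 1)`, the ring is `I`-adically complete,
  `I` is finitely generated and the ring is Noetherian.
-/

set_option autoImplicit false

universe u

open CategoryTheory CategoryTheory.Limits AlgebraicGeometry TopologicalSpace Opposite

namespace K919.AffBasic

/-- A family in a tower of types compatible with the successor maps is a section. -/
theorem map_eq_of_succ (F : ℕᵒᵖ ⥤ Type u) (s : ∀ n : ℕ, F.obj (op n))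
    (hs : ∀ n : ℕ, F.map (homOfLE (Nat.le_add_right n 1)).op (s (n + 1)) = s n) {i j : ℕᵒᵖ} (f : i ⟶ j) :
    F.map f (s i.unop) = s j.unop := by
  obtain ⟨i⟩ := i
  obtain ⟨j⟩ := j
  have hij : j ≤ i := leOfHom f.unop
  obtain ⟨k, rfl⟩ := Nat.exists_eq_add_of_le hij
  induction k with
  | zero =>
    have : f = 𝟙 _ := Subsingleton.elim _ _
    subst this
    simp
  | succ k ih =>
    have e : f = (homOfLE (Nat.le_add_right (j + k) 1)).op ≫ (homOfLE (Nat.le_add_right j k)).op :=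
      Subsingleton.elim _ _
    rw [e, F.map_comp]
    change F.map _ (F.map _ (s (j + k + 1))) = _
    rw [hs (j + k)]
    exact ih _ (Nat.le_add_right j k)

variable (𝔛 : FSch.Sys.{u}) (h : 𝔛.IsFormal)

/-- Sections of `O_𝔛` over `U`. -/
noncomputable abbrev OU (U : (𝔛.X 0).Opens) : CommRingCat.{u} := (𝔛.Osh h).obj.obj (op U)

/-- Sections of `O_{X n}` over (the open corresponding to) `U`. -/
noncomputable abbrev LU (n : ℕ) (U : (𝔛.X 0).Opens) : CommRingCat.{u} := (𝔛.levelObj h n).obj.obj (op U)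

/-- The projection `O_𝔛(U) → O_{X n}(U)`. -/
noncomputable abbrev pr (n : ℕ) (U : (𝔛.X 0).Opens) : OU 𝔛 h U →+* LU 𝔛 h n U :=
  ((𝔛.OshProj h n).hom.app (op U)).hom

/-- The transition map `O_{X (n+1)}(U) → O_{X n}(U)`. -/
noncomputable abbrev tr (n : ℕ) (U : (𝔛.X 0).Opens) : LU 𝔛 h (n + 1) U →+* LU 𝔛 h n U :=
  ((𝔛.levelMap h n).hom.app (op U)).hom

theorem tr_comp_pr (n : ℕ) (U : (𝔛.X 0).Opens) : (tr 𝔛 h n U).comp (pr 𝔛 h (n + 1) U) = pr 𝔛 h n U :=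
  congrArg (fun φ => (φ.hom.app (op U)).hom) (𝔛.OshProj_levelMap h n)

theorem tr_pr (n : ℕ) (U : (𝔛.X 0).Opens) (x : OU 𝔛 h U) :
    tr 𝔛 h n U (pr 𝔛 h (n + 1) U x) = pr 𝔛 h n U x :=
  congrArg (fun φ => φ x) (tr_comp_pr 𝔛 h n U)

/-- Sections over `U` as a functor on sheaves of rings. -/
noncomputable abbrev secF (U : (𝔛.X 0).Opens) :
    Sheaf (Opens.grothendieckTopology (𝔛.X 0)) CommRingCat.{u} ⥤ Type u :=
  sheafToPresheaf _ _ ⋙ (evaluation _ _).obj (op U) ⋙ forget CommRingCat.{u}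

/-- The limit cone of sections. -/
noncomputable def isLimitSec (U : (𝔛.X 0).Opens) :
    IsLimit ((secF 𝔛 U).mapCone (limit.cone (𝔛.levelRing h))) :=
  isLimitOfPreserves (secF 𝔛 U) (limit.isLimit (𝔛.levelRing h))

theorem osh_ext {U : (𝔛.X 0).Opens} (x y : OU 𝔛 h U) (hxy : ∀ n, pr 𝔛 h n U x = pr 𝔛 h n U y) : x = y := by
  apply (Types.isLimitEquivSections (isLimitSec 𝔛 h U)).injective
  apply Subtype.ext
  funext j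
  exact hxy j.unop

theorem osh_lift {U : (𝔛.X 0).Opens} (y : ∀ n, LU 𝔛 h n U) (hy : ∀ n, tr 𝔛 h n U (y (n + 1)) = y n) :
    ∃ x : OU 𝔛 h U, ∀ n, pr 𝔛 h n U x = y n := by
  let F : ℕᵒᵖ ⥤ Type u := 𝔛.levelRing h ⋙ secF 𝔛 U
  have hF : ∀ n : ℕ, F.map (homOfLE (Nat.le_add_right n 1)).op (y (n + 1)) = y n := by
    intro n
    have e := 𝔛.levelRing_map_succ h n
    change ((𝔛.levelRing h).map (homOfLE (Nat.le_add_right n 1)).op).hom.app (op U) (y (n + 1)) = y n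
    rw [e]
    exact hy n
  let s : F.sections := ⟨fun j => y j.unop, fun f => map_eq_of_succ F y hF f⟩
  refine ⟨(Types.isLimitEquivSections (isLimitSec 𝔛 h U)).symm s, fun n => ?_⟩
  have e := Types.isLimitEquivSections_symm_apply (isLimitSec 𝔛 h U) s (op n)
  exact e

theorem isAffineOpen_lvU_succ (n : ℕ) (U : (𝔛.X 0).Opens) (hU : IsAffineOpen (𝔛.lvU h n U)) :
    IsAffineOpen (𝔛.lvU h (n + 1) U) := by
  have h1 := (h n).1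
  have h2 := (h n).2
  have h3 : IsAffine ((𝔛.ι n) ⁻¹ᵁ (𝔛.lvU h (n + 1) U)) := by
    rw [𝔛.lvU_succ h n U]
    exact hU
  have h4 : Surjective (𝔛.ι n) := ⟨h2⟩
  have h5 : Surjective ((𝔛.ι n) ∣_ (𝔛.lvU h (n + 1) U)) := IsZariskiLocalAtTarget.restrict h4 _
  exact Groth.Agent.S0440.result ((𝔛.ι n) ∣_ (𝔛.lvU h (n + 1) U)) h5.1

theorem isAffineOpen_lvU {U : (𝔛.X 0).Opens} (hU : IsAffineOpen (𝔛.lvU h 0 U)) (n : ℕ) :
    IsAffineOpen (𝔛.lvU h n U) := by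
  induction n with
  | zero => exact hU
  | succ n ih => exact isAffineOpen_lvU_succ 𝔛 h n U ih

theorem lvU_zero (U : (𝔛.X 0).Opens) : 𝔛.lvU h 0 U = U := by
  have e : 𝔛.gInv h 0 = 𝟙 _ := by
    have := 𝔛.toX_base_gInv h 0
    simpa [FSch.Sys.toX] using this
  change (Opens.map (𝔛.gInv h 0)).obj U = U
  rw [e]
  rfl

theorem toX_preimage_lvU (n : ℕ) (U : (𝔛.X 0).Opens) : (𝔛.toX n) ⁻¹ᵁ (𝔛.lvU h n U) = U := by
  change (Opens.map ((𝔛.toX n).base ≫ 𝔛.gInv h n)).obj U = U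
  rw [𝔛.toX_base_gInv h n]
  rfl

theorem lvU_zero_le (n : ℕ) (U : (𝔛.X 0).Opens) : 𝔛.lvU h 0 U ≤ (𝔛.toX n) ⁻¹ᵁ (𝔛.lvU h n U) := by
  rw [toX_preimage_lvU, lvU_zero]

/-- The map `O_{X n}(U) → O_{X 0}(U)`. -/
noncomputable def tr0 (n : ℕ) (U : (𝔛.X 0).Opens) : LU 𝔛 h n U →+* LU 𝔛 h 0 U :=
  ((𝔛.toX n).appLE (𝔛.lvU h n U) (𝔛.lvU h 0 U) (lvU_zero_le 𝔛 h n U)).hom

theorem tr0_zero (U : (𝔛.X 0).Opens) : tr0 𝔛 h 0 U = RingHom.id _ := by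
  have e : (𝔛.toX 0).appLE (𝔛.lvU h 0 U) (𝔛.lvU h 0 U) (lvU_zero_le 𝔛 h 0 U) = 𝟙 _ := by
    change (𝟙 (𝔛.X 0) : 𝔛.X 0 ⟶ 𝔛.X 0).appLE _ _ _ = _
    rw [Scheme.Hom.appLE]
    exact (Category.id_comp _).trans ((𝔛.X 0).presheaf.map_id _)
  exact congrArg (fun φ => φ.hom) e

theorem tr0_tr (n : ℕ) (U : (𝔛.X 0).Opens) : (tr0 𝔛 h n U).comp (tr 𝔛 h n U) = tr0 𝔛 h (n + 1) U := by
  have e : 𝔛.lvU h 0 U ≤ (𝔛.toX n ≫ 𝔛.ι n) ⁻¹ᵁ (𝔛.lvU h (n + 1) U) := lvU_zero_le 𝔛 h (n + 1) U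
  exact congrArg (fun φ => φ.hom) (FSch.appLE_comp_appLE_of_eq (𝔛.toX n) (𝔛.ι n) (𝔛.toX (n + 1)) rfl
    (𝔛.lvU h (n + 1) U) (𝔛.lvU h n U) (𝔛.lvU h 0 U) (𝔛.lvU_le h n U) (lvU_zero_le 𝔛 h n U) e)

theorem ker_appLE_of_eq {X Y : Scheme.{u}} (f : X ⟶ Y) (U : Y.Opens) (V : X.Opens) (e : V ≤ f ⁻¹ᵁ U)
    (e' : f ⁻¹ᵁ U = V) : RingHom.ker (f.appLE U V e).hom = RingHom.ker (f.app U).hom := by
  subst e'
  rw [Scheme.Hom.appLE_eq_app]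

theorem surjective_appLE_of_eq {X Y : Scheme.{u}} (f : X ⟶ Y) (U : Y.Opens) (V : X.Opens) (e : V ≤ f ⁻¹ᵁ U)
    (e' : f ⁻¹ᵁ U = V) (hs : Function.Surjective (f.app U).hom) : Function.Surjective (f.appLE U V e).hom := by
  subst e'
  rw [Scheme.Hom.appLE_eq_app]
  exact hs

theorem tr_surjective {U : (𝔛.X 0).Opens} (hU : IsAffineOpen (𝔛.lvU h 0 U)) (n : ℕ) :
    Function.Surjective (tr 𝔛 h n U) := by
  have h1 := (h n).1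
  exact surjective_appLE_of_eq (𝔛.ι n) _ _ _ (𝔛.lvU_succ h n U)
    (Scheme.Hom.app_surjective (𝔛.ι n) _ (isAffineOpen_lvU 𝔛 h hU (n + 1)))

theorem tr0_surjective {U : (𝔛.X 0).Opens} (hU : IsAffineOpen (𝔛.lvU h 0 U)) (n : ℕ) :
    Function.Surjective (tr0 𝔛 h n U) := by
  have h1 := Groth.Agent.Fcompl.H545.SysBasic.isClosedImmersion_toX 𝔛 h n
  refine surjective_appLE_of_eq (𝔛.toX n) _ _ _ ?_
    (Scheme.Hom.app_surjective (𝔛.toX n) _ (isAffineOpen_lvU 𝔛 h hU n))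
  rw [toX_preimage_lvU, lvU_zero]

theorem ker_tr (h𝔛 : 𝔛.IsLocNoethFormal) {U : (𝔛.X 0).Opens} (hU : IsAffineOpen (𝔛.lvU h𝔛.1 0 U)) (n : ℕ) :
    RingHom.ker (tr 𝔛 h𝔛.1 n U) = RingHom.ker (tr0 𝔛 h𝔛.1 (n + 1) U) ^ (n + 1) := by
  have h1 := (h𝔛.1 n).1
  have h2 := Groth.Agent.Fcompl.H545.SysBasic.isClosedImmersion_toX 𝔛 h𝔛.1 (n + 1)
  have e1 : RingHom.ker (tr 𝔛 h𝔛.1 n U) =
      (𝔛.ι n).ker.ideal ⟨𝔛.lvU h𝔛.1 (n + 1) U, isAffineOpen_lvU 𝔛 h𝔛.1 hU (n + 1)⟩ := by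
    rw [Scheme.Hom.ker_apply]
    exact ker_appLE_of_eq (𝔛.ι n) _ _ _ (𝔛.lvU_succ h𝔛.1 n U)
  have e2 : RingHom.ker (tr0 𝔛 h𝔛.1 (n + 1) U) =
      (𝔛.toX (n + 1)).ker.ideal ⟨𝔛.lvU h𝔛.1 (n + 1) U, isAffineOpen_lvU 𝔛 h𝔛.1 hU (n + 1)⟩ := by
    rw [Scheme.Hom.ker_apply]
    exact ker_appLE_of_eq (𝔛.toX (n + 1)) _ _ _ (by rw [toX_preimage_lvU, lvU_zero])
  rw [e1, e2, h𝔛.2.1 n]
  rfl

theorem isNoetherianRing_LU (h𝔛 : 𝔛.IsLocNoethFormal) {U : (𝔛.X 0).Opens}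
    (hU : IsAffineOpen (𝔛.lvU h𝔛.1 0 U)) (n : ℕ) : IsNoetherianRing (LU 𝔛 h𝔛.1 n U) := by
  have h1 := h𝔛.2.2 n
  exact IsLocallyNoetherian.component_noetherian ⟨_, isAffineOpen_lvU 𝔛 h𝔛.1 hU n⟩

/-- The ideal `ker (O_𝔛(U) → O_{X 0}(U))`. -/
noncomputable def II (U : (𝔛.X 0).Opens) : Ideal (OU 𝔛 h U) := RingHom.ker (pr 𝔛 h 0 U)

theorem tr0_pr (n : ℕ) (U : (𝔛.X 0).Opens) : (tr0 𝔛 h n U).comp (pr 𝔛 h n U) = pr 𝔛 h 0 U := by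
  induction n with
  | zero => rw [tr0_zero, RingHom.id_comp]
  | succ n ih => rw [← tr0_tr, RingHom.comp_assoc, tr_comp_pr, ih]

section Main

variable {𝔛} (h𝔛 : 𝔛.IsLocNoethFormal) {U : (𝔛.X 0).Opens} (hU : IsAffineOpen (𝔛.lvU h𝔛.1 0 U))

include hU

theorem main : IsAdicComplete (II 𝔛 h𝔛.1 U) (OU 𝔛 h𝔛.1 U) ∧
    (∀ n, Function.Surjective (pr 𝔛 h𝔛.1 n U) ∧ RingHom.ker (pr 𝔛 h𝔛.1 n U) = II 𝔛 h𝔛.1 U ^ (n + 1)) ∧
      (II 𝔛 h𝔛.1 U).FG := by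
  have hN := isNoetherianRing_LU 𝔛 h𝔛 hU 1
  refine Groth.Agent.S2292.result (fun n => LU 𝔛 h𝔛.1 n U) (fun n => tr 𝔛 h𝔛.1 n U)
    (tr_surjective 𝔛 h𝔛.1 hU) (fun n => tr0 𝔛 h𝔛.1 n U) (tr0_zero 𝔛 h𝔛.1 U) (fun n => tr0_tr 𝔛 h𝔛.1 n U)
    (ker_tr 𝔛 h𝔛 hU) (IsNoetherian.noetherian _) (OU 𝔛 h𝔛.1 U) (fun n => pr 𝔛 h𝔛.1 n U)
    (fun n => tr_comp_pr 𝔛 h𝔛.1 n U) (fun x hx => osh_ext 𝔛 h𝔛.1 x 0 fun n => by rw [hx n, map_zero])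
    (fun y hy => osh_lift 𝔛 h𝔛.1 y hy)

theorem isAdicComplete : IsAdicComplete (II 𝔛 h𝔛.1 U) (OU 𝔛 h𝔛.1 U) := (main h𝔛 hU).1

theorem pr_surjective (n : ℕ) : Function.Surjective (pr 𝔛 h𝔛.1 n U) := ((main h𝔛 hU).2.1 n).1

theorem ker_pr (n : ℕ) : RingHom.ker (pr 𝔛 h𝔛.1 n U) = II 𝔛 h𝔛.1 U ^ (n + 1) := ((main h𝔛 hU).2.1 n).2

theorem isNoetherianRing_OU : IsNoetherianRing (OU 𝔛 h𝔛.1 U) := by
  have h1 := isAdicComplete h𝔛 hU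
  have h2 := isNoetherianRing_LU 𝔛 h𝔛 hU 1
  have h3 : IsNoetherianRing (OU 𝔛 h𝔛.1 U ⧸ II 𝔛 h𝔛.1 U ^ 2) := by
    rw [← ker_pr h𝔛 hU 1]
    exact isNoetherianRing_of_ringEquiv _
      (RingHom.quotientKerEquivOfSurjective (pr_surjective h𝔛 hU 1)).symm
  exact Groth.Agent.S3856.result (OU 𝔛 h𝔛.1 U) (II 𝔛 h𝔛.1 U)

end Main

end K919.AffBasic
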