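import Groth.Agent.FTors.K919.LevelCoh

/-!
# Quasi-coherent torsion modules are filtered colimits of coherent modules

* `exists_coh_sub`: sections of quasi-coherent torsion modules lie locally in coherent submodules;
* `indCoh_of_qct`.
-/

set_option autoImplicit false
set_option linter.style.haveILetI false

universe u

open CategoryTheory CategoryTheory.Limits AlgebraicGeometry TopologicalSpace Opposite

noncomputable section

namespace K919.IndCoh

open K919.AffBasic K919.AffFlat K919.AffD K919.Kill K919.Loc K919.LocGen K919.QCT K919.QCTCart K919.SubSh K919.Level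
open K919.KSub K919.LevelQC K919.LevelCoh K29.RSec K29.RExact K29.RPull K181.Good K181.Formal

theorem ind_of_directedOn' {C : Type*} [Category.{u} C] [Abelian C] [IsGrothendieckAbelian.{u} C] {X : C}
    (Q : ObjectProperty C) (S : Set (Subobject X)) (hne : S.Nonempty) (hdir : DirectedOn (· ≤ ·) S)
    (hQ : ∀ A ∈ S, Q (A : C)) (hsup : ∀ P : Subobject X, (∀ A ∈ S, A ≤ P) → P = ⊤) : ObjectProperty.ind.{u} Q X :=
  K180.IndUnion.ind_of_directedOn Q S hne hdir hQ (hsup _ fun _ hA => le_sSup hA)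

variable {𝔛 : FSch.Sys.{u}} (h𝔛 : 𝔛.IsLocNoethFormal)

/-- Sections of quasi-coherent modules on a level lie in coherent submodules, locally. -/
theorem exists_coh_sub_level {X : Scheme.{u}} [IsLocallyNoetherian X] (N : X.Modules)
    (hN : SheafOfModules.IsQuasicoherent.{u} (R := X.ringCatSheaf) N) {W : X.Opens} (hW : IsAffineOpen W)
    (s : Γ(N, W)) : ∃ N' : Groth.Agent.Ega1.SubSheaf.Sub N, s ∈ N'.obj W ∧
      SheafOfModules.IsQuasicoherent.{u} (R := X.ringCatSheaf) N'.toModules ∧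
      SheafOfModules.IsFiniteType (R := X.ringCatSheaf) N'.toModules := by
  have hg := Groth.Agent.Ega1.SubExt.goodOn_gen (M := N) hW (Submodule.span _ {s})
    (Submodule.fg_span (Set.finite_singleton s))
  obtain ⟨N', hag, hN'⟩ := Groth.Agent.Ega1.SubExtMain.exists_extension_locNoeth (M := N) (fun x => by
    obtain ⟨U, hU, hxU, -⟩ := exists_isAffineOpen_mem_and_subset (X := X) (U := ⊤) (x := x) trivial
    have h3 : IsNoetherianRing Γ(X, U) := IsLocallyNoetherian.component_noetherian ⟨_, hU⟩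
    exact ⟨U, hxU, noetherianSpace_of_isAffineOpen _ hU⟩) (V := W) (fun x hx => ⟨W, hx, hg⟩)
  refine ⟨N', ?_, Groth.Agent.Ega1.SubExtMain.isQuasicoherent_of_good hN'⟩
  rw [hag W le_rfl]
  exact Groth.Agent.Ega1.SubExt.subset_gen (Submodule.subset_span rfl)

theorem exists_coh_sub {M : FSch.ModF 𝔛 h𝔛.1} (hM : FTors.IsQCT 𝔛 h𝔛.1 M) {V : (𝔛.X 0).Opens} (s : Sec M V)
    {x : 𝔛.X 0} (hx : x ∈ V) : ∃ (G : FSch.ModF 𝔛 h𝔛.1) (i : G ⟶ M), Mono i ∧ FSch.IsCohF 𝔛 h𝔛.1 G ∧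
      ∃ (W : (𝔛.X 0).Opens) (_ : x ∈ W) (hW : W ≤ V) (t : Sec G W), app i W t = res M hW s := by
  obtain ⟨W, hWa, hxW, hW⟩ := exists_isAffineOpen_mem_and_subset hx
  obtain ⟨n, hn⟩ := exists_kb hWa.isCompact (res M hW s) (hM.1 W _)
  have := h𝔛.2.2 n
  let K := ksub h𝔛 n M
  have hK : KL h𝔛 n K.toMod := kl_ksub h𝔛 n M
  let e := isoPush h𝔛 n hK
  have hq := isQuasicoherent_pull h𝔛 n (qct_ksub h𝔛 n M hM.2) hK
  have hWn := isAffineOpen_lvU 𝔛 h𝔛.1 ((aff_iff h𝔛).2 hWa) n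
  let t0 : Sec K.toMod W := K.elt (res M hW s) hn
  obtain ⟨N', hs, h1, h2⟩ := exists_coh_sub_level _ hq hWn (ofPush (phi h𝔛 n) (app e.hom W t0))
  have hm2 : Mono ((um h𝔛 n).push.map N'.ι) := (mono_iff_app _).2 fun V => N'.ι_app_injective _
  refine ⟨(um h𝔛 n).push.obj N'.toModules, (um h𝔛 n).push.map N'.ι ≫ e.inv ≫ K.ι, inferInstance,
    isCohF_push h𝔛 n h1 h2, W, hxW, hW, toPush (phi h𝔛 n) (N'.sec _ hs), ?_⟩
  rw [app_comp, app_comp]
  have h3 : app ((um h𝔛 n).push.map N'.ι) W (toPush (phi h𝔛 n) (N'.sec _ hs)) = app e.hom W t0 := rfl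
  rw [h3, ← app_comp e.hom e.inv, e.hom_inv_id, app_id]
  rfl

open ZeroObject in
/-- Quasi-coherent torsion modules are filtered colimits of coherent modules. -/
theorem indCoh_of_qct {M : FSch.ModF 𝔛 h𝔛.1} (hM : FTors.IsQCT 𝔛 h𝔛.1 M) : IndCoh h𝔛 M := by
  have hG : IsGrothendieckAbelian.{u} (FSch.ModF 𝔛 h𝔛.1) := inferInstance
  have hC := cohCls h𝔛
  have hiso := hC.iso
  have key : ∀ {A B : FSch.ModF 𝔛 h𝔛.1} (p : A ⟶ B) (i : B ⟶ M) [Epi p] [Mono i],
      FSch.IsCohF 𝔛 h𝔛.1 A → FSch.IsCohF 𝔛 h𝔛.1 B := by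
    intro A B p i _ _ hA
    have h1 := K180.FSchCls.isQuasicoherent_of_isCohF h𝔛.1 hA
    have h3 := isQuasicoherent_image (fcov h𝔛) (p ≫ i) h1 hM.2
    have : StrongEpi p := strongEpi_of_epi p
    let e : Abelian.image (p ≫ i) ≅ B := (Abelian.imageIsoImage (p ≫ i)) ≪≫
      (image.isoStrongEpiMono p i rfl).symm
    have h4 := K180.FSchCls.isQuasicoherent_of_iso h𝔛.1 e h3
    exact (qcFacts h𝔛).quot hA p
  refine ind_of_directedOn' _ {A : Subobject M | FSch.IsCohF 𝔛 h𝔛.1 (A : FSch.ModF 𝔛 h𝔛.1)}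
    ⟨Subobject.mk (0 : (0 : FSch.ModF 𝔛 h𝔛.1) ⟶ M), ?_⟩ ?_ (fun A hA => hA) ?_
  · exact hC.zero ((isZero_zero _).of_iso (Subobject.underlyingIso _))
  · intro A hA B hB
    obtain ⟨D, hD, h1, h2⟩ := hC.exists_ge key A B hA hB
    exact ⟨D, hD, h1, h2⟩
  · intro P hle
    have hepi : Epi P.arrow := by
      rw [epi_iff_local]
      intro V s x hx
      obtain ⟨G, i, hi, hG, W, hxW, hW, t, ht⟩ := exists_coh_sub h𝔛 hM s hx
      have h1 := hle (Subobject.mk i) (hiso.of_iso (Subobject.underlyingIso i).symm hG)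
      have h2 : P.Factors i := Subobject.factors_of_le i h1 (Subobject.mk_factors_self i)
      refine ⟨W, hxW, hW, app (P.factorThru i h2) W t, ?_⟩
      rw [← app_comp, Subobject.factorThru_arrow]
      exact ht
    have := isIso_of_mono_of_epi P.arrow
    exact (Subobject.isIso_arrow_iff_eq_top P).1 this

end K919.IndCoh
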