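import Groth.Agent.FTors.K919.QCT
import Groth.Agent.FCompl.K29.RExact
import Groth.Prelude.Def_WeakSerre

/-!
# Torsion modules form a Serre class; abstract criterion for weak Serre classes
-/

set_option autoImplicit false

universe u v w

open CategoryTheory CategoryTheory.Limits AlgebraicGeometry TopologicalSpace Opposite
open scoped ZeroObject

namespace K919.SerreTors

open K919.AffBasic K919.AffFlat K919.AffD K919.Kill K919.Loc K919.LocGen K919.QCT K29.RSec K29.RExact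

section Abstract

variable {A : Type u} [Category.{v} A] [Abelian A]

/-- Criterion for weak Serre classes. -/
theorem isWeakSerre_of (P : ObjectProperty A) [P.IsClosedUnderIsomorphisms] (h0 : ∃ Z, IsZero Z ∧ P Z)
    (hk : ∀ {X Y : A} (f : X ⟶ Y), P X → P Y → P (kernel f))
    (hq : ∀ S : ShortComplex A, S.ShortExact → P S.X₁ → P S.X₂ → P S.X₃)
    (he : ∀ S : ShortComplex A, S.ShortExact → P S.X₁ → P S.X₃ → P S.X₂) : WSerre.IsWeakSerre P := by
  have hc : ∀ {X Y : A} (f : X ⟶ Y), P X → P Y → P (cokernel f) := by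
    intro X Y f hX hY
    have h1 : P (cokernel (kernel.ι f)) :=
      hq (ShortComplex.mk (kernel.ι f) (cokernel.π (kernel.ι f)) (cokernel.condition _))
        (ShortComplex.ShortExact.mk' (ShortComplex.exact_of_g_is_cokernel _ (cokernelIsCokernel _))
          inferInstance inferInstance) (hk f hX hY) hX
    have h2 : P (kernel (cokernel.π f)) := P.prop_of_iso (Abelian.coimageIsoImage f) h1
    exact hq (ShortComplex.mk (kernel.ι (cokernel.π f)) (cokernel.π f) (kernel.condition _))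
        (ShortComplex.ShortExact.mk' (ShortComplex.exact_of_f_is_kernel _ (kernelIsKernel _))
          inferInstance inferInstance) h2 hY
  exact
    { exists_zero := by obtain ⟨Z, hZ, hPZ⟩ := h0; exact ⟨Z, hZ, hPZ⟩
      kernels_le := by
        rintro _ ⟨f, k, hk', hf⟩
        exact P.prop_of_iso ((kernelIsKernel f).conePointUniqueUpToIso hk') (hk f hf.1 hf.2)
      cokernels_le := by
        rintro _ ⟨f, k, hk', hf⟩
        exact P.prop_of_iso ((cokernelIsCokernel f).coconePointUniqueUpToIso hk') (hc f hf.1 hf.2)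
      prop_X₂_of_shortExact := fun hS h1 h3 => he _ hS h1 h3 }

/-- The five term property of weak Serre classes. -/
theorem prop_of_exact_five (P : ObjectProperty A) [WSerre.IsWeakSerre P]
    (S : ComposableArrows A 4) (hS : S.Exact) (h₀ : P (S.obj 0)) (h₁ : P (S.obj 1)) (h₃ : P (S.obj 3))
    (h₄ : P (S.obj 4)) : P (S.obj 2) := by
  let a := S.map' 0 1
  let b := S.map' 1 2
  let c := S.map' 2 3
  let d := S.map' 3 4
  have e1 : (ShortComplex.mk a b (hS.toIsComplex.zero 0)).Exact := hS.exact 0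
  have e2 : (ShortComplex.mk b c (hS.toIsComplex.zero 1)).Exact := hS.exact 1
  have e3 : (ShortComplex.mk c d (hS.toIsComplex.zero 2)).Exact := hS.exact 2
  have hab : a ≫ b = 0 := hS.toIsComplex.zero 0
  have hbc : b ≫ c = 0 := hS.toIsComplex.zero 1
  have hcd : c ≫ d = 0 := hS.toIsComplex.zero 2
  have m1 : Mono (cokernel.desc a b hab) := (ShortComplex.exact_iff_mono_cokernel_desc _).1 e1
  have m2 : Epi (kernel.lift d c hcd) := (ShortComplex.exact_iff_epi_kernel_lift _).1 e3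
  have hz : cokernel.desc a b hab ≫ kernel.lift d c hcd = 0 := by
    rw [← cancel_mono (kernel.ι d), ← cancel_epi (cokernel.π a)]
    simp [hbc]
  have hex : (ShortComplex.mk (cokernel.desc a b hab) (kernel.lift d c hcd) hz).Exact := by
    let φ : ShortComplex.mk b c hbc ⟶ ShortComplex.mk b c hbc := 𝟙 _
    have h5 : (ShortComplex.mk (cokernel.desc a b hab) c (by
        rw [← cancel_epi (cokernel.π a)]; simp [hbc])).Exact := by
      let ψ : ShortComplex.mk b c hbc ⟶ ShortComplex.mk (cokernel.desc a b hab) c (by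
        rw [← cancel_epi (cokernel.π a)]; simp [hbc]) :=
        { τ₁ := cokernel.π a
          τ₂ := 𝟙 _
          τ₃ := 𝟙 _ }
      have : Epi ψ.τ₁ := inferInstanceAs (Epi (cokernel.π a))
      have : IsIso ψ.τ₂ := inferInstanceAs (IsIso (𝟙 _))
      have : Mono ψ.τ₃ := inferInstanceAs (Mono (𝟙 _))
      exact (ShortComplex.exact_iff_of_epi_of_isIso_of_mono ψ).1 e2
    let ψ : ShortComplex.mk (cokernel.desc a b hab) (kernel.lift d c hcd) hz ⟶
      ShortComplex.mk (cokernel.desc a b hab) c (by rw [← cancel_epi (cokernel.π a)]; simp [hbc]) :=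
        { τ₁ := 𝟙 _
          τ₂ := 𝟙 _
          τ₃ := kernel.ι d }
    have : Epi ψ.τ₁ := inferInstanceAs (Epi (𝟙 _))
    have : IsIso ψ.τ₂ := inferInstanceAs (IsIso (𝟙 _))
    have : Mono ψ.τ₃ := inferInstanceAs (Mono (kernel.ι d))
    exact (ShortComplex.exact_iff_of_epi_of_isIso_of_mono ψ).2 h5
  exact P.prop_X₂_of_shortExact (ShortComplex.ShortExact.mk' hex m1 m2)
    (P.prop_cokernel a h₀ h₁) (P.prop_kernel d h₃ h₄)

end Abstract

variable {𝔛 : FSch.Sys.{u}}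

section Easy

variable {h : 𝔛.IsFormal}

theorem torsF_of_mono {M N : FSch.ModF 𝔛 h} (φ : N ⟶ M) [Mono φ] (hM : FTors.IsTorsF 𝔛 h M) :
    FTors.IsTorsF 𝔛 h N := by
  rw [isTorsF_iff] at hM ⊢
  intro V s x hx
  obtain ⟨W, hxW, hW, n, hn⟩ := hM V (app φ V s) x hx
  refine ⟨W, hxW, hW, n, fun W' hW' a ha => ?_⟩
  apply (mono_iff_app φ).1 inferInstance W'
  rw [map_smul, map_zero, app_res, app_res]
  exact hn W' hW' a ha

theorem torsF_of_epi {M N : FSch.ModF 𝔛 h} (φ : M ⟶ N) [Epi φ] (hM : FTors.IsTorsF 𝔛 h M) :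
    FTors.IsTorsF 𝔛 h N := by
  rw [isTorsF_iff] at hM ⊢
  intro V t x hx
  obtain ⟨W, hxW, hW, s, hs⟩ := (epi_iff_local φ).1 inferInstance V t x hx
  obtain ⟨W', hxW', hW', n, hn⟩ := hM W s x hxW
  refine ⟨W', hxW', hW'.trans hW, n, ?_⟩
  rw [← res_res N hW hW' t, ← hs, ← app_res]
  exact hn.app φ

theorem kb_of_mono {M N : FSch.ModF 𝔛 h} (φ : N ⟶ M) [Mono φ] {V : (𝔛.X 0).Opens} {s : Sec N V} {n : ℕ}
    (hs : KB M n (app φ V s)) : KB N n s := fun W' hW' a ha => by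
  apply (mono_iff_app φ).1 inferInstance W'
  rw [map_smul, map_zero, app_res]
  exact hs W' hW' a ha

end Easy

variable (h𝔛 : 𝔛.IsLocNoethFormal)

theorem ker_prO_add {U : (𝔛.X 0).Opens} (hU : IsAffineOpen (𝔛.lvU h𝔛.1 0 U)) (p n : ℕ) :
    RingHom.ker (prO (h := h𝔛.1) (p + n + 1) U) =
      RingHom.ker (prO (h := h𝔛.1) p U) * RingHom.ker (prO (h := h𝔛.1) n U) := by
  have e : p + n + 1 + 1 = (p + 1) + (n + 1) := by ring
  have h1 := ker_prO h𝔛 hU (p + n + 1)
  rw [e] at h1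
  refine h1.trans ((pow_add (II 𝔛 h𝔛.1 U) (p + 1) (n + 1)).trans ?_)
  exact congrArg₂ (· * ·) (ker_prO h𝔛 hU p).symm (ker_prO h𝔛 hU n).symm

theorem torsF_ext (S : ShortComplex (FSch.ModF 𝔛 h𝔛.1)) (hS : S.ShortExact) (h1 : FTors.IsTorsF 𝔛 h𝔛.1 S.X₁)
    (h3 : FTors.IsTorsF 𝔛 h𝔛.1 S.X₃) : FTors.IsTorsF 𝔛 h𝔛.1 S.X₂ := by
  have := hS.mono_f
  rw [isTorsF_iff]
  intro V s x hx
  obtain ⟨W, hxW, hW, n, hn⟩ := (isTorsF_iff S.X₃).1 h3 V (app S.g V s) x hx
  obtain ⟨U, hxU, hUW, hU⟩ := exists_affine h𝔛 hxW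
  have hN : IsNoetherianRing (O (𝔛.Osh h𝔛.1) U) := isNoetherianRing_OU h𝔛 hU
  have hn' : KB S.X₃ n (app S.g U (res S.X₂ (hUW.trans hW) s)) := by
    rw [app_res, ← res_res _ hW hUW]
    exact hn.res hUW
  obtain ⟨F, hF⟩ := (IsNoetherian.noetherian (RingHom.ker (prO (h := h𝔛.1) n U)) :
    (RingHom.ker (prO (h := h𝔛.1) n U)).FG)
  have h4 : ∀ a ∈ F, ∃ m : Sec S.X₁ U, app S.f U m = a • res S.X₂ (hUW.trans hW) s := by
    intro a ha
    apply exists_app_of_exact S hS.exact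
    rw [map_smul]
    refine (kb_iff h𝔛 hU _ n _).1 hn' a ?_
    have : a ∈ RingHom.ker (prO (h := h𝔛.1) n U) := hF ▸ Ideal.subset_span ha
    exact this
  have h5 : ∀ a ∈ F, ∃ q, KB S.X₂ q (a • res S.X₂ (hUW.trans hW) s) := by
    intro a ha
    obtain ⟨m, hm⟩ := h4 a ha
    obtain ⟨q, hq⟩ := exists_kb (isCompact_of_affine h𝔛 hU) m (h1 U m)
    exact ⟨q, hm ▸ hq.app S.f⟩
  choose! q hq using h5
  refine ⟨U, hxU, hUW.trans hW, F.sup q + n + 1, ?_⟩
  rw [kb_iff h𝔛 hU]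
  intro a ha
  have h6 : a ∈ RingHom.ker (prO (h := h𝔛.1) (F.sup q) U) * RingHom.ker (prO (h := h𝔛.1) n U) := by
    rw [← ker_prO_add h𝔛 hU]
    exact ha
  have h8 : RingHom.ker (prO (h := h𝔛.1) (F.sup q) U) * RingHom.ker (prO (h := h𝔛.1) n U) ≤
      LinearMap.ker (LinearMap.toSpanSingleton (O (𝔛.Osh h𝔛.1) U) (Sec S.X₂ U)
          (res S.X₂ (hUW.trans hW) s)) := by
    rw [← hF, Ideal.mul_le]
    intro r hr y hy
    change (r * y) • res S.X₂ (hUW.trans hW) s = 0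
    refine Submodule.span_induction (p := fun y _ => (r * y) • res S.X₂ (hUW.trans hW) s = 0) ?_ ?_ ?_ ?_ hy
    · intro y hy
      rw [mul_smul]
      exact (kb_iff h𝔛 hU _ _ _).1 ((hq y hy).mono (Finset.le_sup hy)) r hr
    · rw [mul_zero, zero_smul]
    · intro y z _ _ hy hz
      rw [mul_add, add_smul, hy, hz, add_zero]
    · intro b y _ hy
      rw [smul_eq_mul, mul_left_comm, mul_smul, hy, smul_zero]
  exact h8 h6

instance isSerreClass_torsF : (FTors.IsTorsF 𝔛 h𝔛.1).IsSerreClass where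
  exists_zero := ⟨_, isZero_zero _, by
    rw [isTorsF_iff]
    intro V s x hx
    refine ⟨V, hx, le_rfl, 0, fun W hW a _ => ?_⟩
    have h1 : ∀ y : Sec (0 : FSch.ModF 𝔛 h𝔛.1) W, y = 0 := fun y => by
      have h2 : app (𝟙 (0 : FSch.ModF 𝔛 h𝔛.1)) W y = app 0 W y := by
        rw [(isZero_zero (FSch.ModF 𝔛 h𝔛.1)).eq_of_src (𝟙 _) 0]
      exact h2
    exact h1 _⟩
  prop_of_mono φ _ hM := torsF_of_mono φ hM
  prop_of_epi φ _ hM := torsF_of_epi φ hM
  prop_X₂_of_shortExact hS h1 h3 := torsF_ext h𝔛 _ hS h1 h3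

end K919.SerreTors
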