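import Groth.Agent.FTors.K919.QCSite
import Groth.Agent.Gaga.H976.TM3

/-!
# Quasi-coherent modules on a ringed space, elementwise (arbitrary index sets)

`M` is quasi-coherent iff near every point there are generators `s : I → M(W)` and relations
`r : K → (I →₀ R(W))` with `LGen` and `LRel`.
-/

set_option autoImplicit false

universe u

open CategoryTheory CategoryTheory.Limits Opposite TopologicalSpace

namespace K919.QCElem

open Groth.Agent.Gaga.H976.TM0 Groth.Agent.Gaga.H976.TM1 Groth.Agent.Gaga.H976.TM2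
  Groth.Agent.Gaga.H976.TM3 K919.QCSite

variable {T : TopCat.{u}} {R : Sheaf (Opens.grothendieckTopology T) RingCat.{u}}

/-- Linear combinations over `V` of restrictions of sections over `W`. -/
noncomputable def lcr (N : SheafOfModules.{u} R) {W V : Opens T} (h : V ≤ W) {I : Type u}
    (s : I → N.val.obj (op W)) (c : I →₀ R.obj.obj (op V)) : N.val.obj (op V) :=
  Finsupp.linearCombination (R.obj.obj (op V)) (fun j => rs N h (s j)) c

/-- The sections `s i` over `W` generate `N` over `W`. -/
def LGenI (N : SheafOfModules.{u} R) (W : Opens T) {I : Type u} (s : I → N.val.obj (op W)) : Prop :=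
  ∀ (V : Opens T) (hV : V ≤ W) (t : N.val.obj (op V)) (x : T), x ∈ V →
    ∃ (V' : Opens T) (h' : V' ≤ V), x ∈ V' ∧ ∃ c : I →₀ R.obj.obj (op V'),
      rs N h' t = lcr N (h'.trans hV) s c

/-- The `r k` are relations between the sections `s i` over `W` and generate all relations. -/
def LRelI (N : SheafOfModules.{u} R) (W : Opens T) {I K : Type u} (s : I → N.val.obj (op W))
    (r : K → I →₀ R.obj.obj (op W)) : Prop :=
  (∀ k, lcr N le_rfl s (r k) = 0) ∧
  ∀ (V : Opens T) (hV : V ≤ W) (c : I →₀ R.obj.obj (op V)),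
    lcr N hV s c = 0 → ∀ x ∈ V, ∃ (V' : Opens T) (h' : V' ≤ V), x ∈ V' ∧
      ∃ d : K →₀ R.obj.obj (op V'), ∀ j, rr h' (c j) = d.sum fun k a => a * rr (h'.trans hV) (r k j)

lemma lcr_eq (N : SheafOfModules.{u} R) {W V : Opens T} (h : V ≤ W) {I : Type u}
    (s : I → N.val.obj (op W)) (c : I →₀ R.obj.obj (op V)) :
    lcr N h s c = c.sum fun j a => a • rs N h (s j) := rfl

lemma rs_lcr (N : SheafOfModules.{u} R) {W V V' : Opens T} (h : V ≤ W) (h' : V' ≤ V) {I : Type u}
    (s : I → N.val.obj (op W)) (c : I →₀ R.obj.obj (op V)) :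
    rs N h' (lcr N h s c) = lcr N (h'.trans h) s (c.mapRange (rr h') (map_zero _)) := by
  rw [lcr_eq, lcr_eq]
  refine Eq.trans ?_ (Finsupp.sum_mapRange_index (fun j => zero_smul _ (rs N (h'.trans h) (s j)))).symm
  rw [Finsupp.sum, Finsupp.sum, map_sum]
  refine Finset.sum_congr rfl fun j _ => ?_
  rw [rs_smul, rs_rs]

lemma lcr_rs (N : SheafOfModules.{u} R) {W V V' : Opens T} (h : V ≤ W) (h' : V' ≤ V) {I : Type u}
    (s : I → N.val.obj (op W)) (c : I →₀ R.obj.obj (op V')) :
    lcr N h' (fun j => rs N h (s j)) c = lcr N (h'.trans h) s c := by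
  simp only [lcr, rs_rs]

lemma lc_over {N : SheafOfModules.{u} R} {W : Opens T} {I : Type u}
    (σ : I → (N.over W).sections) (Y : Over W) (c : I →₀ R.obj.obj (op Y.left)) :
    lc σ Y (show I →₀ (R.over W).obj.obj (op Y) from c) =
      (show (N.over W).val.obj (op Y) from lcr N (leOfHom Y.hom) (fun j => ofSec N W (σ j)) c) := by
  rw [lc_eq, lcr_eq]
  refine Finset.sum_congr rfl fun j _ => ?_
  exact congrArg (fun z : (N.over W).val.obj (op Y) => (show (R.over W).obj.obj (op Y) from c j) • z)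
    (sec_eq N W (σ j) (op Y))

lemma lgenI_of_gen {N : SheafOfModules.{u} R} {W : Opens T} {I : Type u}
    (σ : I → (N.over W).sections) (h : QCSite.Gen σ) : LGenI N W fun j => ofSec N W (σ j) := by
  intro V hV t x hx
  obtain ⟨S, hS, hS'⟩ := h (Over.mk (homOfLE hV)) t
  rw [mem_over] at hS
  obtain ⟨V', h', hxV', hg⟩ := hS x hx
  obtain ⟨c, hc⟩ := hS' _ hg
  refine ⟨V', h', hxV', c, ?_⟩
  exact hc.trans (lc_over σ (Over.mk (homOfLE h' ≫ (Over.mk (homOfLE hV)).hom)) c)

/-- A covering sieve on `Y` in the slice site from neighbourhoods of the points of `Y`. -/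
lemma exists_sieve (W : Opens T) (Y : Over W) (P : ∀ (Z : Over W), (Z ⟶ Y) → Prop)
    (hP : ∀ (Z Z' : Over W) (g : Z ⟶ Y) (k : Z' ⟶ Z), P Z g → P Z' (k ≫ g))
    (h : ∀ x ∈ Y.left, ∃ (V : Opens T) (h : V ≤ Y.left), x ∈ V ∧
        P (Over.mk (homOfLE h ≫ Y.hom)) (Over.homMk (homOfLE h))) :
    ∃ S : Sieve Y, S ∈ ((Opens.grothendieckTopology T).over W) Y ∧
      ∀ ⦃Z : Over W⦄ (g : Z ⟶ Y), S.arrows g → P Z g := by
  refine ⟨⟨fun Z g => P Z g, fun {Z Z'} g hg k => hP Z Z' g k hg⟩, ?_, fun Z g hg => hg⟩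
  rw [mem_over]
  exact h

lemma gen_of_lgenI {N : SheafOfModules.{u} R} {W : Opens T} {I : Type u}
    (s : I → N.val.obj (op W)) (h : LGenI N W s) : QCSite.Gen (fun j => toSec N W (s j)) := by
  intro Y t
  refine exists_sieve W Y (fun Z g => ∃ c : I →₀ (R.over W).obj.obj (op Z),
    (N.over W).val.restrictₛₗ g.op t = lc (fun j => toSec N W (s j)) Z c) ?_ ?_
  · rintro Z Z' g k ⟨c, hc⟩
    refine ⟨rc k c, ?_⟩
    rw [lc_rc, ← hc]
    exact (N.over W).val.map_comp_apply g.op k.op t
  · intro x hx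
    obtain ⟨V', h', hxV', c, hc⟩ := h Y.left (leOfHom Y.hom) t x hx
    refine ⟨V', h', hxV', c, ?_⟩
    have h2 := lc_over (fun j => toSec N W (s j)) (Over.mk (homOfLE h' ≫ Y.hom)) c
    refine Eq.trans ?_ h2.symm
    have h3 : (fun j => ofSec N W (toSec N W (s j))) = s := by
      funext j
      exact rs_self N _ _
    rw [h3]
    exact hc

/-- The section of the free module over `W` with given coordinates. -/
noncomputable def freeSec (W : Opens T) {I : Type u} (r : I →₀ R.obj.obj (op W)) :
    (SheafOfModules.free (R := R.over W) I).sections :=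
  ⟨fun Y => lc (fun j : I => SheafOfModules.freeSection (R := R.over W) j) Y.unop
    (show I →₀ (R.over W).obj.obj Y from r.mapRange (rr (leOfHom Y.unop.hom)) (map_zero _)), by
    intro Y Z f
    have h := lc_rc (fun j : I => SheafOfModules.freeSection (R := R.over W) j) f.unop
      (show I →₀ (R.over W).obj.obj Y from r.mapRange (rr (leOfHom Y.unop.hom)) (map_zero _))
    refine h.symm.trans ?_
    congr 1
    ext j
    exact rr_rr _ _ _⟩

lemma sec_freeSec (W : Opens T) {I : Type u} (r : I →₀ R.obj.obj (op W)) (Y : (Over W)ᵒᵖ) :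
    sec (freeSec W r) Y = lc (fun j : I => SheafOfModules.freeSection (R := R.over W) j) Y.unop
    (show I →₀ (R.over W).obj.obj Y from r.mapRange (rr (leOfHom Y.unop.hom)) (map_zero _)) := rfl

open Classical in
lemma co_lc' {C : Type u} [SmallCategory C] {J : GrothendieckTopology C} {R : Sheaf J RingCat.{u}}
    {I K : Type u} (q : K → (SheafOfModules.free (R := R) I).sections) (X : C)
    (d : K →₀ R.obj.obj (op X)) (j : I) :
    co (lc q X d) j = d.sum fun k a => a * co (sec (q k) (op X)) j := by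
  unfold co
  rw [map_lc, lc_eq]
  rfl

lemma rel_of_lrelI {N : SheafOfModules.{u} R} {W : Opens T} {I K : Type u}
    (s : I → N.val.obj (op W)) (r : K → I →₀ R.obj.obj (op W)) (h : LRelI N W s r) :
    QCSite.Rel (fun j => toSec N W (s j)) (fun k => freeSec W (r k)) := by
  classical
  have h3 : (fun j => ofSec N W (toSec N W (s j))) = s := by
    funext j
    exact rs_self N _ _
  constructor
  · intro k Y
    rw [sec_freeSec, map_lc_free, lc_over, h3]
    have h1 := congrArg (rs N (leOfHom Y.unop.hom)) (h.1 k)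
    rw [rs_lcr, map_zero] at h1
    exact h1
  · intro Y c hc
    rw [show c = (show I →₀ (R.over W).obj.obj (op Y) from c) from rfl, lc_over, h3] at hc
    refine exists_sieve W Y (fun Z g => ∃ d : K →₀ (R.over W).obj.obj (op Z),
      lc (fun j : I => SheafOfModules.freeSection (R := R.over W) j) Z (rc g c) =
        lc (fun k => freeSec W (r k)) Z d) ?_ ?_
    · rintro Z Z' g k ⟨d, hd⟩
      refine ⟨rc k d, ?_⟩
      rw [lc_rc, lc_rc, ← hd, lc_rc]
      exact (SheafOfModules.free (R := R.over W) I).val.map_comp_apply g.op k.op _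
    · intro x hx
      obtain ⟨V', h', hxV', d, hd⟩ := h.2 Y.left (leOfHom Y.hom) c hc x hx
      refine ⟨V', h', hxV', d, ?_⟩
      apply ext_co
      intro j
      rw [co_lc, co_lc']
      refine (hd j).trans ?_
      refine Finset.sum_congr rfl fun k _ => ?_
      refine congrArg (fun z : (R.over W).obj.obj (op (Over.mk (homOfLE h' ≫ Y.hom))) =>
        (show (R.over W).obj.obj (op (Over.mk (homOfLE h' ≫ Y.hom))) from d k) * z) ?_
      rw [sec_freeSec, co_lc]
      rfl

/-- Ring sections vanishing near every point vanish. -/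
lemma ring_eq_zero {V : Opens T} (r : R.obj.obj (op V))
    (h : ∀ x ∈ V, ∃ (V' : Opens T) (h' : V' ≤ V), x ∈ V' ∧ rr h' r = 0) : r = 0 := by
  have hsep := (isSheaf_iff_isSheaf_of_type _ _).1
    ((Presheaf.isSheaf_iff_isSheaf_forget _ (SheafOfModules.unit R).val.presheaf (forget Ab.{u})).1
      (SheafOfModules.unit R).isSheaf)
  choose V' h' hx hr using h
  refine (hsep.isSeparated (Sieve.generate (Presieve.ofArrows (fun x : V => V' x.1 x.2)
    (fun x => homOfLE (h' x.1 x.2)))) ?_).ext ?_
  · intro x hxV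
    exact ⟨_, homOfLE (h' x hxV), Sieve.le_generate _ _ _ (Presieve.ofArrows.mk (⟨x, hxV⟩ : V)), hx x hxV⟩
  · rintro Z g ⟨V0, a, b, ⟨x⟩, rfl⟩
    have h5 := congrArg (rr (leOfHom a)) (hr x.1 x.2)
    rw [rr_rr, map_zero] at h5
    refine Eq.trans h5 ?_
    exact (map_zero (R.obj.map (a ≫ homOfLE (h' x.1 x.2)).op).hom).symm

/-- Coordinates of a section of the free module over an open of the slice, as ring elements. -/
noncomputable def cof {W : Opens T} {I : Type u} (Y : Over W)
    (t : (SheafOfModules.free (R := R.over W) I).val.obj (op Y)) (j : I) : R.obj.obj (op Y.left) := by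
  classical
  exact co (R := R.over W) t j

lemma cof_lc {W : Opens T} {I : Type u} (Y : Over W) (c : I →₀ R.obj.obj (op Y.left)) (j : I) :
    cof Y (lc (fun j : I => SheafOfModules.freeSection (R := R.over W) j) Y
      (show I →₀ (R.over W).obj.obj (op Y) from c)) j = c j := co_lc (R := R.over W) Y _ j

lemma cof_lc' {W : Opens T} {I K : Type u} (q : K → (SheafOfModules.free (R := R.over W) I).sections)
    (Y : Over W) (d : K →₀ R.obj.obj (op Y.left)) (j : I) :
    cof Y (lc q Y (show K →₀ (R.over W).obj.obj (op Y) from d)) j =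
      d.sum fun k a => a * cof Y (sec (q k) (op Y)) j := co_lc' (R := R.over W) q Y _ j

lemma cof_map {W : Opens T} {I : Type u} {Y Z : Over W} (g : Z ⟶ Y)
    (t : (SheafOfModules.free (R := R.over W) I).val.obj (op Y)) (j : I) :
    cof Z ((SheafOfModules.free (R := R.over W) I).val.restrictₛₗ g.op t) j =
      rr (leOfHom g.left) (cof Y t j) := by
  classical
  exact co_map (R := R.over W) g.op t j

/-- A section of the free module over `W` restricted to a quasi-compact open has finitely
many nonzero coordinates. -/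
lemma exists_finsupp {W V : Opens T} (hV : V ≤ W) (hc : IsCompact (V : Set T)) {I : Type u}
    (q : (SheafOfModules.free (R := R.over W) I).sections) :
    ∃ r : I →₀ R.obj.obj (op V), sec q (op (Over.mk (homOfLE hV))) =
      lc (fun j : I => SheafOfModules.freeSection (R := R.over W) j) (Over.mk (homOfLE hV)) r := by
  classical
  let Y : Over W := Over.mk (homOfLE hV)
  obtain ⟨S, hS, h⟩ := gen_free (R := R.over W) I Y (sec q (op Y))
  rw [mem_over] at hS
  choose V' h' hx hS' using hS
  have h2 := fun (x : T) (hx : x ∈ V) => h _ (hS' x hx)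
  choose c hc' using h2
  obtain ⟨t, ht⟩ := hc.elim_finite_subcover (fun x : V => ((V' x.1 x.2 : Opens T) : Set T))
    (fun x => (V' x.1 x.2).isOpen) (fun x hxV => Set.mem_iUnion.2 ⟨⟨x, hxV⟩, hx x hxV⟩)
  let F : Finset I := t.biUnion fun x => (c x.1 x.2).support
  have key : ∀ j, j ∉ F → cof Y (sec q (op Y)) j = 0 := by
    intro j hj
    apply ring_eq_zero
    intro x hxV
    obtain ⟨y, hy⟩ := Set.mem_iUnion.1 (ht hxV)
    obtain ⟨hy1, hy2⟩ := Set.mem_iUnion.1 hy
    refine ⟨V' y.1 y.2, h' y.1 y.2, hy2, ?_⟩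
    have h4 := congrArg (fun z => cof _ z j) (hc' y.1 y.2)
    refine (cof_map _ _ _).symm.trans (h4.trans ?_)
    refine (cof_lc (Over.mk (homOfLE (h' y.1 y.2) ≫ Y.hom)) (c y.1 y.2) j).trans ?_
    by_contra h5
    exact hj (Finset.mem_biUnion.2 ⟨y, hy1, Finsupp.mem_support_iff.2 h5⟩)
  let r : I →₀ R.obj.obj (op V) := Finsupp.onFinset F (fun j => cof Y (sec q (op Y)) j) (fun j hj => by
    by_contra h6
    exact hj (key j h6))
  refine ⟨r, ?_⟩
  apply ext_co
  intro j
  exact (cof_lc Y r j).symm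

theorem exists_gen_rel {N : SheafOfModules.{u} R} {W : Opens T} (P : (N.over W).Presentation)
    {V : Opens T} (hV : V ≤ W) (hc : IsCompact (V : Set T)) :
    ∃ (I K : Type u) (s : I → N.val.obj (op V)) (r : K → I →₀ R.obj.obj (op V)),
      LGenI N V s ∧ LRelI N V s r := by
  classical
  obtain ⟨q, hq⟩ := QCSite.exists_rel P
  choose r hr using fun k => exists_finsupp hV hc (q k)
  have hgen := lgenI_of_gen _ ((QCSite.epi_iff_gen _).1 P.generators.epi)
  have hq1 : ∀ k, lcr N hV (fun j => ofSec N W (P.generators.s j)) (r k) = 0 := by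
    intro k
    have h1 := hq.1 k (op (Over.mk (homOfLE hV)))
    rw [hr k, map_lc_free, lc_over] at h1
    exact h1
  refine ⟨P.generators.I, P.relations.I, fun j => rs N hV (ofSec N W (P.generators.s j)), r, ?_, ?_, ?_⟩
  · intro V0 hV0 t x hx
    obtain ⟨V', h', hxV', c, hc⟩ := hgen V0 (hV0.trans hV) t x hx
    exact ⟨V', h', hxV', c, by rw [lcr_rs]; exact hc⟩
  · intro k
    rw [lcr_rs]
    exact hq1 k
  · intro V0 hV0 c hc x hx
    rw [lcr_rs] at hc
    have h1 : lc P.generators.s (Over.mk (homOfLE (hV0.trans hV)))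
        (show P.generators.I →₀ (R.over W).obj.obj (op (Over.mk (homOfLE (hV0.trans hV)))) from c) = 0 := by
      rw [lc_over]
      exact hc
    obtain ⟨S, hS, hS'⟩ := hq.2 (Over.mk (homOfLE (hV0.trans hV))) c h1
    rw [mem_over] at hS
    obtain ⟨V', h', hxV', hg⟩ := hS x hx
    obtain ⟨d, hd⟩ := hS' _ hg
    refine ⟨V', h', hxV', d, fun j => ?_⟩
    let Z : Over W := Over.mk (homOfLE h' ≫ (Over.mk (homOfLE (hV0.trans hV))).hom)
    have h2 := (cof_lc Z _ j).symm.trans ((congrArg (fun z => cof Z z j) hd).trans (cof_lc' q Z d j))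
    refine Eq.trans h2 ?_
    refine Finset.sum_congr rfl fun k _ => ?_
    refine congrArg (fun z : R.obj.obj (op V') => (show R.obj.obj (op V') from d k) * z) ?_
    have h3 := (congrArg (fun z => cof (Over.mk (homOfLE hV)) z j) (hr k)).trans
      (cof_lc (Over.mk (homOfLE hV)) (r k) j)
    have h4 := sec_map (q k) (Over.homMk (homOfLE (h'.trans hV0)) : Z ⟶ Over.mk (homOfLE hV)).op
    rw [← h4, cof_map]
    exact congrArg (rr (h'.trans hV0)) h3

/-- A quasi-coherent module has generators and relations over all small enough quasi-compact opens. -/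
theorem exists_of_isQuasicoherent (N : SheafOfModules.{u} R) (h : SheafOfModules.IsQuasicoherent.{u} N)
    (x : T) : ∃ (W : Opens T) (_ : x ∈ W), ∀ (V : Opens T), V ≤ W → IsCompact (V : Set T) →
      ∃ (I K : Type u) (s : I → N.val.obj (op V)) (r : K → I →₀ R.obj.obj (op V)),
        LGenI N V s ∧ LRelI N V s r := by
  obtain ⟨⟨σ⟩⟩ := h
  have hc := σ.coversTop
  rw [Opens.coversTop_iff, IsOpenCover] at hc
  have hx : x ∈ ⨆ i, σ.X i := by rw [hc]; trivial
  rw [Opens.mem_iSup] at hx
  obtain ⟨i, hi⟩ := hx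
  exact ⟨σ.X i, hi, fun V hV hVc => exists_gen_rel (σ.presentation i) hV hVc⟩

/-- Conversely, generators and relations near every point make a module quasi-coherent. -/
theorem isQuasicoherent_of (N : SheafOfModules.{u} R)
    (h : ∀ x : T, ∃ (W : Opens T) (_ : x ∈ W) (I K : Type u) (s : I → N.val.obj (op W))
      (r : K → I →₀ R.obj.obj (op W)), LGenI N W s ∧ LRelI N W s r) :
    SheafOfModules.IsQuasicoherent.{u} N := by
  choose U hU I K s r hg hr using h
  have hP := fun x => presentation_of_gen_rel _ _ (gen_of_lgenI (s x) (hg x))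
    (rel_of_lrelI (s x) (r x) (hr x))
  have hc : (Opens.grothendieckTopology T).CoversTop U := by
    rw [Opens.coversTop_iff, IsOpenCover]
    exact eq_top_iff.mpr fun x _ => Opens.mem_iSup.mpr ⟨x, hU x⟩
  exact SheafOfModules.QuasicoherentData.isQuasicoherent.{u, u, u, u}
    (SheafOfModules.QuasicoherentData.mk.{u, u, u, u} (I := ↥T) U hc (fun x => (hP x).some))

end K919.QCElem
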