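import Groth.Agent.FTors.K919.H1

/-!
# Quasi-coherent torsion modules form a weak Serre class
-/

set_option autoImplicit false

universe u v w

open CategoryTheory CategoryTheory.Limits AlgebraicGeometry TopologicalSpace Opposite
open scoped ZeroObject

namespace K919.SerreQCT

open K919.AffBasic K919.AffFlat K919.AffD K919.Kill K919.Loc K919.LocGen K919.QCT K919.SerreTors K919.H1
  K29.RSec K29.RExact

variable {𝔛 : FSch.Sys.{u}} (h𝔛 : 𝔛.IsLocNoethFormal)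

theorem sec_zero {M : FSch.ModF 𝔛 h𝔛.1} (hM : IsZero M) {V : (𝔛.X 0).Opens} (s : Sec M V) : s = 0 := by
  have h2 : app (𝟙 M) V s = app (0 : M ⟶ M) V s := by rw [hM.eq_of_src (𝟙 _) 0]
  exact h2

theorem lc_kernel {X Y : FSch.ModF 𝔛 h𝔛.1} (f : X ⟶ Y) {U : (𝔛.X 0).Opens} (hX : LC h𝔛 X U)
    (hY : LC h𝔛 Y U) : LC h𝔛 (kernel f) U := by
  have hinj := fun V => (mono_iff_app (kernel.ι f)).1 inferInstance V
  have hz : ∀ (V : (𝔛.X 0).Opens) (s : Sec (kernel f) V), app f V (app (kernel.ι f) V s) = 0 := fun V s => by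
    rw [← app_comp, kernel.condition]; rfl
  intro V hV hVa a
  constructor
  · intro s hs
    obtain ⟨n, hn⟩ := (hX V hV hVa a).1 (app (kernel.ι f) V s) (by rw [← app_res, hs, map_zero])
    exact ⟨n, hinj V (by rw [map_smul, hn, map_zero])⟩
  · intro t
    obtain ⟨n, s, hs⟩ := (hX V hV hVa a).2 (app (kernel.ι f) _ t)
    obtain ⟨m, hm⟩ := (hY V hV hVa a).1 (app f V s) (by
      rw [← app_res, hs, map_smul, hz, smul_zero])
    obtain ⟨k, hk⟩ := exists_kernel f V (a ^ m • s) (by rw [map_smul, hm])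
    refine ⟨m + n, k, hinj _ ?_⟩
    rw [app_res, hk, res_smul, hs, map_smul, map_pow, pow_add, mul_smul]

theorem lc_X₃ (S : ShortComplex (FSch.ModF 𝔛 h𝔛.1)) (hS : S.ShortExact) {U : (𝔛.X 0).Opens}
    (h1 : LC h𝔛 S.X₁ U) (h2 : LC h𝔛 S.X₂ U) : LC h𝔛 S.X₃ U := by
  have := hS.mono_f
  have hfg : ∀ (V : (𝔛.X 0).Opens) (m : Sec S.X₁ V), app S.g V (app S.f V m) = 0 := fun V m => by
    rw [← app_comp, S.zero]; rfl
  intro V hV hVa a
  have hDV : Do h𝔛 a ≤ U := (Do_le h𝔛 a).trans hV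
  have hs1 := surjective_app h𝔛 S hS hVa (h1.mono h𝔛 hV)
  have hs2 := surjective_app h𝔛 S hS (isAffineOpen_Do h𝔛 hVa a) (h1.mono h𝔛 hDV)
  constructor
  · intro s hs
    obtain ⟨s, rfl⟩ := hs1 s
    rw [← app_res] at hs
    obtain ⟨m, hm⟩ := exists_app_of_exact S hS.exact _ _ hs
    obtain ⟨n, m', hm'⟩ := (h1 V hV hVa a).2 m
    obtain ⟨k, hk⟩ := (h2 V hV hVa a).1 (a ^ n • s - app S.f V m') (by
      rw [map_sub, res_smul, ← app_res, hm', map_smul, hm, map_pow, sub_self])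
    refine ⟨k + n, ?_⟩
    rw [smul_sub, sub_eq_zero] at hk
    rw [pow_add, mul_smul, ← map_smul, ← map_smul, hk, map_smul, hfg, smul_zero]
  · intro t
    obtain ⟨t, rfl⟩ := hs2 t
    obtain ⟨n, s, hs⟩ := (h2 V hV hVa a).2 t
    exact ⟨n, app S.g V s, by rw [← app_res, hs, map_smul]⟩

theorem lc_X₂ (S : ShortComplex (FSch.ModF 𝔛 h𝔛.1)) (hS : S.ShortExact) {U : (𝔛.X 0).Opens}
    (h1 : LC h𝔛 S.X₁ U) (h3 : LC h𝔛 S.X₃ U) : LC h𝔛 S.X₂ U := by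
  have := hS.mono_f
  have hinj := fun V => (mono_iff_app S.f).1 inferInstance V
  intro V hV hVa a
  have hs1 := surjective_app h𝔛 S hS hVa (h1.mono h𝔛 hV)
  constructor
  · intro s hs
    obtain ⟨n, hn⟩ := (h3 V hV hVa a).1 (app S.g V s) (by rw [← app_res, hs, map_zero])
    rw [← map_smul] at hn
    obtain ⟨m, hm⟩ := exists_app_of_exact S hS.exact _ _ hn
    obtain ⟨k, hk⟩ := (h1 V hV hVa a).1 m (hinj _ (by
      rw [app_res, hm, res_smul, hs, smul_zero, map_zero]))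
    exact ⟨k + n, by rw [pow_add, mul_smul, ← hm, ← map_smul, hk, map_zero]⟩
  · intro t
    obtain ⟨n, s3, hs3⟩ := (h3 V hV hVa a).2 (app S.g _ t)
    obtain ⟨s, rfl⟩ := hs1 s3
    rw [← app_res, ← map_smul, ← sub_eq_zero, ← map_sub] at hs3
    obtain ⟨m, hm⟩ := exists_app_of_exact S hS.exact _ _ hs3
    obtain ⟨k, m', hm'⟩ := (h1 V hV hVa a).2 m
    refine ⟨k + n, a ^ k • s - app S.f V m', ?_⟩
    rw [map_sub, res_smul, ← app_res, hm', map_smul, hm, map_pow, smul_sub, sub_sub_cancel, pow_add, mul_smul]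

theorem isClosedUnderIso : (FTors.IsQCT 𝔛 h𝔛.1).IsClosedUnderIsomorphisms where
  of_iso {X Y} e hX := by
    rw [isQCT_iff_local h𝔛] at hX ⊢
    refine ⟨torsF_of_epi e.hom hX.1, fun x => ?_⟩
    obtain ⟨U, hxU, hU⟩ := hX.2 x
    refine ⟨U, hxU, fun V hV hVa a => ⟨fun s hs => ?_, fun t => ?_⟩⟩
    · obtain ⟨n, hn⟩ := (hU V hV hVa a).1 (app e.inv V s) (by rw [← app_res, hs, map_zero])
      refine ⟨n, ?_⟩
      have h3 : app e.hom V (app e.inv V s) = s := by rw [← app_comp, e.inv_hom_id, app_id]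
      rw [← h3, ← map_smul, hn, map_zero]
    · obtain ⟨n, s, hs⟩ := (hU V hV hVa a).2 (app e.inv _ t)
      refine ⟨n, app e.hom V s, ?_⟩
      rw [← app_res, hs, map_smul, ← app_comp, e.inv_hom_id, app_id]

/-- Quasi-coherent torsion modules form a weak Serre class. -/
theorem isWeakSerre_QCT : WSerre.IsWeakSerre (FTors.IsQCT 𝔛 h𝔛.1) := by
  have := isClosedUnderIso h𝔛
  have := isSerreClass_torsF h𝔛
  refine isWeakSerre_of _ ⟨0, isZero_zero _, ?_⟩ ?_ ?_ ?_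
  · rw [isQCT_iff_local h𝔛]
    refine ⟨ObjectProperty.prop_zero _, fun x => ⟨⊤, trivial, fun V _ _ a => ⟨fun s _ => ⟨0, ?_⟩, fun t => ⟨0, 0, ?_⟩⟩⟩⟩
    · exact sec_zero h𝔛 (isZero_zero _) _
    · rw [sec_zero h𝔛 (isZero_zero _) t, map_zero, smul_zero]
  · intro X Y f hX hY
    rw [isQCT_iff_local h𝔛] at hX hY ⊢
    refine ⟨torsF_of_mono (kernel.ι f) hX.1, fun x => ?_⟩
    obtain ⟨U, hxU, hU⟩ := hX.2 x
    obtain ⟨U', hxU', hU'⟩ := hY.2 x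
    exact ⟨U ⊓ U', ⟨hxU, hxU'⟩, lc_kernel h𝔛 f (hU.mono h𝔛 inf_le_left) (hU'.mono h𝔛 inf_le_right)⟩
  · intro S hS h1 h2
    rw [isQCT_iff_local h𝔛] at h1 h2 ⊢
    have := hS.epi_g
    refine ⟨torsF_of_epi S.g h2.1, fun x => ?_⟩
    obtain ⟨U, hxU, hU⟩ := h1.2 x
    obtain ⟨U', hxU', hU'⟩ := h2.2 x
    exact ⟨U ⊓ U', ⟨hxU, hxU'⟩, lc_X₃ h𝔛 S hS (hU.mono h𝔛 inf_le_left) (hU'.mono h𝔛 inf_le_right)⟩
  · intro S hS h1 h3
    rw [isQCT_iff_local h𝔛] at h1 h3 ⊢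
    refine ⟨torsF_ext h𝔛 S hS h1.1 h3.1, fun x => ?_⟩
    obtain ⟨U, hxU, hU⟩ := h1.2 x
    obtain ⟨U', hxU', hU'⟩ := h3.2 x
    exact ⟨U ⊓ U', ⟨hxU, hxU'⟩, lc_X₂ h𝔛 S hS (hU.mono h𝔛 inf_le_left) (hU'.mono h𝔛 inf_le_right)⟩

end K919.SerreQCT
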