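import Groth.Agent.FCompl.K29.RExact

/-!
# Subsheaves of modules given by submodules of sections; sections of colimits

`T : TopCat.{u}`, `R` a sheaf of commutative rings on `T`.
* `SubSh M`: a family of submodules of sections, stable under restriction and local; `toMod`, `ι`, `lift`.
* `mem_iSup_of_isColimit`: sections of a colimit are locally finite sums of images of sections of the terms.
-/

set_option autoImplicit false
set_option linter.style.haveILetI false
universe u v w

open CategoryTheory TopologicalSpace Opposite CategoryTheory.Limits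

noncomputable section

namespace K919.SubSh

open K29.RSec K29.RExact

variable {T : TopCat.{u}} {R : Sheaf (Opens.grothendieckTopology T) CommRingCat.{u}}

/-- A subsheaf of modules, by submodules of sections. -/
structure Sub (M : Mod R) where
  /-- sections -/
  S : ∀ V : Opens T, Submodule (O R V) (Sec M V)
  res_mem : ∀ {V W : Opens T} (h : W ≤ V) {s : Sec M V}, s ∈ S V → res M h s ∈ S W
  loc : ∀ {V : Opens T} (s : Sec M V), (∀ x ∈ V, ∃ (W : Opens T) (_ : x ∈ W) (h : W ≤ V), res M h s ∈ S W) → s ∈ S V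

namespace Sub

variable {M : Mod R} (N : Sub M)

/-- The data of the subsheaf. -/
def data : Data R where
  S V := N.S V
  r {V W} h := ((res M h).comp (N.S V).subtype.toAddMonoidHom).codRestrict (N.S W).toAddSubgroup
    (fun s => N.res_mem h s.2)
  r_self h s := Subtype.ext (res_self M h s.1)
  r_r h h' s := Subtype.ext (res_res M h h' s.1)
  r_smul h a s := Subtype.ext (res_smul M h a s.1)
  ext {ι} U s t hst := Subtype.ext (eq_of_locally M U (⨆ i, U i) le_rfl (le_iSup U) s.1 t.1
    fun i => congrArg Subtype.val (hst i))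
  glue {ι} U s hs := by
    obtain ⟨t, ht⟩ := exists_glue M U (⨆ i, U i) le_rfl (le_iSup U) (fun i => (s i).1) (fun i j W hi hj => by
      have h1 := congrArg (fun z => res M (le_inf hi hj) (Subtype.val z)) (hs i j)
      have h2 : res M (le_inf hi hj) (res M inf_le_left (s i).1) =
        res M (le_inf hi hj) (res M inf_le_right (s j).1) := h1
      rwa [res_res, res_res] at h2)
    refine ⟨⟨t, N.loc t fun x hx => ?_⟩, fun i => Subtype.ext (ht i)⟩
    obtain ⟨i, hi⟩ := Opens.mem_iSup.1 hx
    exact ⟨U i, hi, le_iSup U i, by rw [ht i]; exact (s i).2⟩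

/-- The subsheaf as a sheaf of modules. -/
def toMod : Mod R := N.data.toMod

/-- The inclusion. -/
def ι : N.toMod ⟶ M :=
  homMk (fun V => (N.S V).subtype.toAddMonoidHom) (fun _ _ _ => rfl) (fun _ _ _ _ => rfl)

/-- The underlying section. -/
def val {V : Opens T} (s : Sec N.toMod V) : Sec M V := app N.ι V s

theorem val_mem {V : Opens T} (s : Sec N.toMod V) : N.val s ∈ N.S V :=
  (show N.S V from s).2

/-- Sections of the subsheaf. -/
def elt {V : Opens T} (s : Sec M V) (hs : s ∈ N.S V) : Sec N.toMod V := (⟨s, hs⟩ : N.S V)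

theorem val_elt {V : Opens T} (s : Sec M V) (hs : s ∈ N.S V) : N.val (N.elt s hs) = s := rfl

theorem app_ι_elt {V : Opens T} (s : Sec M V) (hs : s ∈ N.S V) : app N.ι V (N.elt s hs) = s := rfl

theorem injective_ι (V : Opens T) : Function.Injective (app N.ι V) := fun _ _ h => Subtype.ext h

instance mono_ι : Mono N.ι := (mono_iff_app _).2 N.injective_ι

theorem res_elt {V W : Opens T} (h : W ≤ V) (s : Sec M V) (hs : s ∈ N.S V) :
    res N.toMod h (N.elt s hs) = N.elt (res M h s) (N.res_mem h hs) := rfl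

/-- Factorization of a morphism through a subsheaf. -/
def lift {P : Mod R} (f : P ⟶ M) (hf : ∀ V s, app f V s ∈ N.S V) : P ⟶ N.toMod :=
  homMk (fun V => (app f V).toAddMonoidHom.codRestrict (N.S V).toAddSubgroup (fun s => hf V s))
    (fun V r m => Subtype.ext ((app f V).map_smul r m))
    (fun _ _ h m => Subtype.ext (app_res f h m))

theorem lift_ι {P : Mod R} (f : P ⟶ M) (hf : ∀ V s, app f V s ∈ N.S V) : N.lift f hf ≫ N.ι = f :=
  hom_ext fun _ _ => rfl

/-- Inclusion of subsheaves. -/
def incl {N N' : Sub M} (h : ∀ V, N.S V ≤ N'.S V) : N.toMod ⟶ N'.toMod :=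
  N'.lift N.ι (fun V s => h V (N.val_mem s))

theorem incl_ι {N N' : Sub M} (h : ∀ V, N.S V ≤ N'.S V) : incl h ≫ N'.ι = N.ι := lift_ι _ _ _

/-- The subsheaf generated by submodules of sections stable under restriction. -/
def locally (M : Mod R) (P : ∀ V : Opens T, Submodule (O R V) (Sec M V))
    (hP : ∀ {V W : Opens T} (h : W ≤ V) (s : Sec M V), s ∈ P V → res M h s ∈ P W) : Sub M where
  S V :=
    { carrier := {s | ∀ x ∈ V, ∃ (W : Opens T) (_ : x ∈ W) (h : W ≤ V), res M h s ∈ P W}
      zero_mem' := fun x hx => ⟨V, hx, le_rfl, by rw [map_zero]; exact (P V).zero_mem⟩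
      add_mem' := by
        intro a b ha hb x hx
        obtain ⟨W, hxW, hW, h1⟩ := ha x hx
        obtain ⟨W', hxW', hW', h1'⟩ := hb x hx
        refine ⟨W ⊓ W', ⟨hxW, hxW'⟩, inf_le_left.trans hW, ?_⟩
        rw [map_add, ← res_res M hW inf_le_left a, ← res_res M hW' inf_le_right b]
        exact (P _).add_mem (hP _ _ h1) (hP _ _ h1')
      smul_mem' := by
        intro r a ha x hx
        obtain ⟨W, hxW, hW, h1⟩ := ha x hx
        exact ⟨W, hxW, hW, by rw [res_smul]; exact (P W).smul_mem _ h1⟩ }
  res_mem {V W} h s hs x hx := by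
    obtain ⟨W', hxW', hW', h1⟩ := hs x (h hx)
    refine ⟨W' ⊓ W, ⟨hxW', hx⟩, inf_le_right, ?_⟩
    rw [res_res, ← res_res M hW' inf_le_left]
    exact hP _ _ h1
  loc {V} s hs x hx := by
    obtain ⟨W, hxW, hW, h1⟩ := hs x hx
    obtain ⟨W', hxW', hW', h2⟩ := h1 x hxW
    rw [res_res] at h2
    exact ⟨W', hxW', hW'.trans hW, h2⟩

theorem mem_locally (M : Mod R) (P : ∀ V : Opens T, Submodule (O R V) (Sec M V))
    (hP : ∀ {V W : Opens T} (h : W ≤ V) (s : Sec M V), s ∈ P V → res M h s ∈ P W) {V : Opens T} (s : Sec M V) :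
    s ∈ (locally M P hP).S V ↔ ∀ x ∈ V, ∃ (W : Opens T) (_ : x ∈ W) (h : W ≤ V), res M h s ∈ P W := Iff.rfl

theorem mem_locally_of_mem (M : Mod R) (P : ∀ V : Opens T, Submodule (O R V) (Sec M V))
    (hP : ∀ {V W : Opens T} (h : W ≤ V) (s : Sec M V), s ∈ P V → res M h s ∈ P W) {V : Opens T} {s : Sec M V}
    (hs : s ∈ P V) : s ∈ (locally M P hP).S V :=
  fun x hx => ⟨V, hx, le_rfl, by rwa [res_self]⟩

end Sub

/-- The submodule spanned by the images of the sections of the terms of a cocone. -/
def imSpan {J : Type w} [Category.{v} J] {K : J ⥤ Mod R} (c : Cocone K) (V : Opens T) :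
    Submodule (O R V) (Sec c.pt V) :=
  Submodule.span (O R V) {s | ∃ (j : J) (y : Sec (K.obj j) V), app (c.ι.app j) V y = s}

theorem imSpan_res {J : Type w} [Category.{v} J] {K : J ⥤ Mod R} (c : Cocone K) {V W : Opens T} (h : W ≤ V)
    (s : Sec c.pt V) (hs : s ∈ imSpan c V) : res c.pt h s ∈ imSpan c W := by
  refine Submodule.span_induction (p := fun s _ => res c.pt h s ∈ imSpan c W) ?_ ?_ ?_ ?_ hs
  · rintro _ ⟨j, y, rfl⟩
    exact Submodule.subset_span ⟨j, res _ h y, app_res _ _ _⟩
  · rw [map_zero]; exact (imSpan c W).zero_mem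
  · intro a b _ _ ha hb
    rw [map_add]; exact (imSpan c W).add_mem ha hb
  · intro r a _ ha
    rw [res_smul]; exact (imSpan c W).smul_mem _ ha

/-- Sections of a colimit are locally finite sums of images of sections. -/
theorem mem_imSpan_of_isColimit {J : Type w} [Category.{v} J] {K : J ⥤ Mod R} (c : Cocone K) (hc : IsColimit c)
    {V : Opens T} (t : Sec c.pt V) {x : T} (hx : x ∈ V) :
    ∃ (W : Opens T) (_ : x ∈ W) (h : W ≤ V), res c.pt h t ∈ imSpan c W := by
  let N : Sub c.pt := Sub.locally c.pt (imSpan c) (imSpan_res c)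
  let g : ∀ j, K.obj j ⟶ N.toMod := fun j => N.lift (c.ι.app j) (fun V s => Sub.mem_locally_of_mem _ _ _
            (Submodule.subset_span ⟨j, s, rfl⟩))
  have hg : ∀ j, g j ≫ N.ι = c.ι.app j := fun j => Sub.lift_ι N _ _
  let d : Cocone K :=
    { pt := N.toMod
      ι := 
        { app := g
          naturality := fun i j f => by
            rw [← cancel_mono N.ι, Category.assoc, hg, Category.assoc]
            dsimp only [Functor.const_obj_obj, Functor.const_obj_map]
            rw [Category.id_comp, hg, c.w] } }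
  have h1 : hc.desc d ≫ N.ι = 𝟙 _ := hc.hom_ext fun j => by
    rw [← Category.assoc, hc.fac, Category.comp_id]
    exact hg j
  have h2 : app N.ι V (app (hc.desc d) V t) = t := by
    rw [← app_comp, h1, app_id]
  have h3 := N.val_mem (app (hc.desc d) V t)
  have h4 : N.val (app (hc.desc d) V t) = t := h2
  rw [h4] at h3
  exact h3 x hx

end K919.SubSh
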