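import Groth.Agent.FTors.K919.Level
import Groth.Agent.FTors.K919.SubSh

/-!
# The submodule of sections killed by the `n`-th open ideal

`ksub h𝔛 n M`: the subsheaf of `M` of the sections killed by the `n`-th open ideal; `kl_ksub`; `lc_ksub`, `qct_ksub`.
-/

set_option autoImplicit false
set_option linter.style.haveILetI false

universe u

open CategoryTheory CategoryTheory.Limits AlgebraicGeometry TopologicalSpace Opposite

noncomputable section

namespace K919.KSub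

open K919.AffBasic K919.AffFlat K919.AffD K919.Kill K919.Loc K919.LocGen K919.QCT K919.QCTCart K919.SubSh K919.Level
open K29.RSec K29.RExact K181.Good K181.Formal

variable {𝔛 : FSch.Sys.{u}} (h𝔛 : 𝔛.IsLocNoethFormal) (n : ℕ) (M : FSch.ModF 𝔛 h𝔛.1)

/-- The sections killed by the `n`-th open ideal. -/
def ksub : Sub M where
  S V :=
    { carrier := {s | KB M n s}
      zero_mem' := kb_zero M n V
      add_mem' := KB.add
      smul_mem' := fun r _ hs => KB.smul hs r }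
  res_mem h _ hs := KB.res hs h
  loc _ hs := kb_of_local hs

theorem mem_ksub {V : (𝔛.X 0).Opens} (s : Sec M V) : s ∈ (ksub h𝔛 n M).S V ↔ KB M n s := Iff.rfl

/-- Sections of a submodule killed by an ideal. -/
theorem kb_of_injective {N M : FSch.ModF 𝔛 h𝔛.1} (φ : N ⟶ M) [Mono φ] {V : (𝔛.X 0).Opens} {s : Sec N V}
    (hs : KB M n (app φ V s)) : KB N n s := by
  intro W hW a ha
  refine (mono_iff_app φ).1 inferInstance W ?_
  rw [map_smul, app_res, map_zero]
  exact hs W hW a ha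

theorem kl_ksub : KL h𝔛 n (ksub h𝔛 n M).toMod := fun _ s =>
  kb_of_injective h𝔛 n (ksub h𝔛 n M).ι ((ksub h𝔛 n M).val_mem s)

theorem isTorsF_of_kl {N : FSch.ModF 𝔛 h𝔛.1} (hN : KL h𝔛 n N) : FTors.IsTorsF 𝔛 h𝔛.1 N := fun V s =>
  FTors.IsTorsSect.of_killedBy ((kb_iff_killedBy N n s).1 (hN V s))

theorem lc_ksub {U : (𝔛.X 0).Opens} (hM : Cart (fcov h𝔛) M U) : LC h𝔛 (ksub h𝔛 n M).toMod U := by
  intro V hV hVa a
  have hVa' := (aff_iff h𝔛).1 hVa
  have hMV := hM.mono hVa' hV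
  constructor
  · intro s hs
    have h0 : res M (Do_le h𝔛 a) (app (ksub h𝔛 n M).ι V s) = 0 := by
      have := congrArg (app (ksub h𝔛 n M).ι (Do h𝔛 a)) hs
      rw [app_res, map_zero] at this
      exact this
    obtain ⟨k, hk⟩ := Gam.kill h𝔛 hVa' hMV a ((ksub h𝔛 n M).val_mem s) h0
    refine ⟨k, (ksub h𝔛 n M).injective_ι V ?_⟩
    rw [map_smul, map_zero]
    exact hk
  · intro t
    obtain ⟨k, s, hs, h⟩ := Gam.ext h𝔛 hVa' hMV a ((ksub h𝔛 n M).val_mem t)
    refine ⟨k, (ksub h𝔛 n M).elt s hs, (ksub h𝔛 n M).injective_ι _ ?_⟩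
    rw [app_res, map_smul]
    exact h

/-- `M[J_n]` is quasi-coherent torsion for `M` quasi-coherent. -/
theorem qct_ksub (hM : SheafOfModules.IsQuasicoherent.{u} M) :
    FTors.IsQCT 𝔛 h𝔛.1 (ksub h𝔛 n M).toMod := by
  rw [isQCT_iff_local h𝔛]
  refine ⟨isTorsF_of_kl h𝔛 n (kl_ksub h𝔛 n M), fun x => ?_⟩
  obtain ⟨U, hxU, hU⟩ := (qc_iff (fcov h𝔛) M).1 hM x
  exact ⟨U, hxU, lc_ksub h𝔛 n M hU⟩

end K919.KSub
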