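import Mathlib.CategoryTheory.ObjectProperty.ColimitsOfShape
import Mathlib.CategoryTheory.Limits.Constructions.LimitsOfProductsAndEqualizers
import Mathlib.CategoryTheory.Abelian.Basic

/-!
# Classes closed under coproducts and cokernels are closed under colimits
-/

set_option autoImplicit false

universe w v u

open CategoryTheory CategoryTheory.Limits

namespace K919.ColimAbs

variable {A : Type u} [Category.{v} A] [Abelian A] [HasColimitsOfSize.{w, w} A]

theorem isClosedUnderColimits_of (P : ObjectProperty A) [P.IsClosedUnderIsomorphisms]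
    (hcok : ∀ {X Y : A} (f : X ⟶ Y), P X → P Y → P (cokernel f))
    (hcop : ∀ {ι : Type w} (f : ι → A), (∀ i, P (f i)) → P (∐ f)) (J : Type w) [SmallCategory J] :
    P.IsClosedUnderColimitsOfShape J := by
  refine ObjectProperty.IsClosedUnderColimitsOfShape.mk' ?_
  rintro _ ⟨F, hF⟩
  let c := colimitCoconeOfCoequalizerAndCoproduct F
  let s : (∐ fun f : Σ p : J × J, p.1 ⟶ p.2 => F.obj f.1.1) ⟶ ∐ F.obj :=
    Sigma.desc fun f => F.map f.2 ≫ colimit.ι (Discrete.functor F.obj) ⟨f.1.2⟩
  let t : (∐ fun f : Σ p : J × J, p.1 ⟶ p.2 => F.obj f.1.1) ⟶ ∐ F.obj :=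
    Sigma.desc fun f => colimit.ι (Discrete.functor F.obj) ⟨f.1.1⟩
  have h1 : P (coequalizer s t) := by
    have e : cokernel (s - t) ≅ coequalizer s t :=
      (cokernelIsCokernel (s - t)).coconePointUniqueUpToIso
        (Preadditive.isColimitCokernelCoforkOfCofork (coequalizerIsCoequalizer s t))
    exact P.prop_of_iso e (hcok _ (hcop _ fun f => hF _) (hcop _ hF))
  have e2 : coequalizer s t ≅ colimit F := c.isColimit.coconePointUniqueUpToIso (colimit.isColimit F)
  exact P.prop_of_iso e2 h1

end K919.ColimAbs
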