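import Groth.Agent.FTors.K919.SubSh

/-!
# Sections of coproducts of sheaves of modules over quasi-compact opens
-/

set_option autoImplicit false
set_option linter.style.haveILetI false
universe u v w

open CategoryTheory TopologicalSpace Opposite CategoryTheory.Limits

noncomputable section

namespace K919.Cop

open K29.RSec K29.RExact K919.SubSh

variable {T : TopCat.{u}} {R : Sheaf (Opens.grothendieckTopology T) CommRingCat.{u}}
  {ι : Type w} (f : ι → Mod R) {c : Cofan f} (hc : IsColimit c)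

open Classical in
/-- The projections of a coproduct. -/
def pj (i : ι) : c.pt ⟶ f i :=
  Cofan.IsColimit.desc hc (fun j => if h : j = i then eqToHom (by rw [h]) else 0)

theorem inj_pj_self (i : ι) : c.inj i ≫ pj f hc i = 𝟙 _ := by
  rw [pj, Cofan.IsColimit.fac, dif_pos rfl, eqToHom_refl]

theorem inj_pj_ne {i j : ι} (h : j ≠ i) : c.inj j ≫ pj f hc i = 0 := by
  rw [pj, Cofan.IsColimit.fac, dif_neg h]

theorem app_pj_self {V : Opens T} (i : ι) (s : Sec (f i) V) : app (pj f hc i) V (app (c.inj i) V s) = s := by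
  rw [← app_comp, inj_pj_self, app_id]

theorem app_pj_ne {V : Opens T} {i j : ι} (h : j ≠ i) (s : Sec (f j) V) :
    app (pj f hc i) V (app (c.inj j) V s) = 0 := by
  rw [← app_comp, inj_pj_ne f hc h]; rfl

/-- Elements of the span of the images are the finite sums of their components. -/
theorem exists_finset {V : Opens T} (t : Sec c.pt V) (ht : t ∈ imSpan c V) :
    ∃ F : Finset ι, ∀ F' : Finset ι, F ⊆ F' → t = ∑ i ∈ F', app (c.inj i) V (app (pj f hc i) V t) := by
  classical
  refine Submodule.span_induction (p := fun t _ => ∃ F : Finset ι, ∀ F' : Finset ι, F ⊆ F' →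
    t = ∑ i ∈ F', app (c.inj i) V (app (pj f hc i) V t)) ?_ ?_ ?_ ?_ ht
  · rintro _ ⟨⟨j⟩, y, rfl⟩
    refine ⟨{j}, fun F' hF' => ?_⟩
    have hj : j ∈ F' := hF' (Finset.mem_singleton_self j)
    change app (c.inj j) V y = ∑ i ∈ F', app (c.inj i) V (app (pj f hc i) V (app (c.inj j) V y))
    rw [Finset.sum_eq_single_of_mem j hj, app_pj_self]
    intro i _ hij
    rw [app_pj_ne f hc (Ne.symm hij), map_zero]
  · exact ⟨∅, fun F' _ => by simp only [map_zero, Finset.sum_const_zero]⟩
  · rintro a b _ _ ⟨F1, h1⟩ ⟨F2, h2⟩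
    refine ⟨F1 ∪ F2, fun F' hF' => ?_⟩
    have e1 := h1 F' (Finset.subset_union_left.trans hF')
    have e2 := h2 F' (Finset.subset_union_right.trans hF')
    simp only [map_add, Finset.sum_add_distrib]
    rw [← e1, ← e2]
  · rintro r a _ ⟨F1, h1⟩
    refine ⟨F1, fun F' hF' => ?_⟩
    have e1 := h1 F' hF'
    simp only [map_smul]
    rw [← Finset.smul_sum, ← e1]

/-- Sections over a quasi-compact open of a coproduct are the finite sums of their components. -/
theorem exists_sum {V : Opens T} (hV : IsCompact (V : Set T)) (t : Sec c.pt V) :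
    ∃ F : Finset ι, t = ∑ i ∈ F, app (c.inj i) V (app (pj f hc i) V t) := by
  classical
  have h1 : ∀ x ∈ V, ∃ (W : Opens T) (_ : x ∈ W) (h : W ≤ V) (F : Finset ι), ∀ F' : Finset ι, F ⊆ F' →
      res c.pt h t = ∑ i ∈ F', app (c.inj i) W (app (pj f hc i) W (res c.pt h t)) := by
    intro x hx
    obtain ⟨W, hxW, hW, hm⟩ := mem_imSpan_of_isColimit c hc t hx
    obtain ⟨F, hF⟩ := exists_finset f hc _ hm
    exact ⟨W, hxW, hW, F, hF⟩
  choose W hx hW F hF using h1
  obtain ⟨s, hs⟩ := hV.elim_finite_subcover (fun x : V => ((W x.1 x.2 : Opens T) : Set T))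
    (fun x => (W x.1 x.2).isOpen) (fun x hxV => Set.mem_iUnion.2 ⟨⟨x, hxV⟩, hx x hxV⟩)
  refine ⟨s.biUnion fun x => F x.1 x.2, ?_⟩
  refine eq_of_locally c.pt (fun x : s => W x.1.1 x.1.2) V ?_ (fun x => hW _ _) _ _ fun x => ?_
  · intro x hxV
    obtain ⟨y, hy⟩ := Set.mem_iUnion.1 (hs hxV)
    obtain ⟨hy1, hy2⟩ := Set.mem_iUnion.1 hy
    exact Opens.mem_iSup.2 ⟨⟨y, hy1⟩, hy2⟩
  · have e := hF x.1.1 x.1.2 (s.biUnion fun x => F x.1 x.2) (Finset.subset_biUnion_of_mem
      (fun x : V => F x.1 x.2) x.2)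
    rw [map_sum]
    simp only [← app_res]
    exact e

theorem eq_zero_of_pj {V : Opens T} (t : Sec c.pt V) (ht : ∀ i, app (pj f hc i) V t = 0) : t = 0 := by
  refine eq_of_forall_nhds c.pt _ _ fun x hx => ?_
  obtain ⟨W, hxW, hW, hm⟩ := mem_imSpan_of_isColimit c hc t hx
  obtain ⟨F, hF⟩ := exists_finset f hc _ hm
  refine ⟨W, hxW, hW, ?_⟩
  rw [hF F (Finset.Subset.refl F), map_zero]
  exact Finset.sum_eq_zero fun i _ => by rw [app_res, ht, map_zero, map_zero]

end K919.Cop
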