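import Groth.Agent.FTors.K919.SerreQCT
import Groth.Agent.FTors.K919.Cop
import Groth.Agent.FTors.K919.ColimAbs

/-!
# Quasi-coherent torsion modules are closed under colimits
-/

set_option autoImplicit false

universe u v w

open CategoryTheory CategoryTheory.Limits AlgebraicGeometry TopologicalSpace Opposite

namespace K919.QCTColim

open K919.AffBasic K919.AffFlat K919.AffD K919.Kill K919.Loc K919.LocGen K919.QCT K919.SerreTors K919.H1
  K919.SerreQCT K919.Cop K29.RSec K29.RExact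

variable {𝔛 : FSch.Sys.{u}} (h𝔛 : 𝔛.IsLocNoethFormal)

theorem torsF_coproduct {ι : Type w} (f : ι → FSch.ModF 𝔛 h𝔛.1) {c : Cofan f} (hc : IsColimit c)
    (hf : ∀ i, FTors.IsTorsF 𝔛 h𝔛.1 (f i)) : FTors.IsTorsF 𝔛 h𝔛.1 c.pt := by
  classical
  rw [isTorsF_iff]
  intro V t x hx
  obtain ⟨U, hxU, hUV, hU⟩ := exists_affine h𝔛 hx
  obtain ⟨F, hF⟩ := exists_sum f hc (isCompact_of_affine h𝔛 hU) (res c.pt hUV t)
  choose n hn using fun i => exists_kb (isCompact_of_affine h𝔛 hU) (app (pj f hc i) U (res c.pt hUV t))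
    (hf i U _)
  refine ⟨U, hxU, hUV, F.sup n, ?_⟩
  rw [hF]
  have h1 : ∀ F' : Finset ι, F' ⊆ F →
      KB c.pt (F.sup n) (∑ i ∈ F', app (c.inj i) U (app (pj f hc i) U (res c.pt hUV t))) := by
    intro F'
    induction F' using Finset.induction_on with
    | empty => intro _; rw [Finset.sum_empty]; exact kb_zero _ _ _
    | insert i F' hi ih =>
      intro h2
      rw [Finset.sum_insert hi]
      refine KB.add ?_ (ih ((Finset.subset_insert _ _).trans h2))
      exact ((hn i).mono (Finset.le_sup (h2 (Finset.mem_insert_self _ _)))).app _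
  exact h1 F (Finset.Subset.refl _)

theorem locOn_coproduct {ι : Type w} (f : ι → FSch.ModF 𝔛 h𝔛.1) {c : Cofan f} (hc : IsColimit c)
    {V W : (𝔛.X 0).Opens} (hV : IsCompact (V : Set (𝔛.X 0))) (hWc : IsCompact (W : Set (𝔛.X 0)))
    (a : O (𝔛.Osh h𝔛.1) V) (hW : W ≤ V) (hf : ∀ i, LocOn (f i) a W hW) : LocOn c.pt a W hW := by
  classical
  constructor
  · intro s hs
    obtain ⟨F, hF⟩ := exists_sum f hc hV s
    choose n hn using fun i => (hf i).1 (app (pj f hc i) V s) (by rw [← app_res, hs, map_zero])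
    refine ⟨F.sup n, ?_⟩
    rw [hF, Finset.smul_sum]
    refine Finset.sum_eq_zero fun i hi => ?_
    rw [← map_smul, pow_smul_eq_zero_of_le (Finset.le_sup hi) (hn i), map_zero]
  · intro t
    obtain ⟨F, hF⟩ := exists_sum f hc hWc t
    choose n s hs using fun i => (hf i).2 (app (pj f hc i) W t)
    refine ⟨F.sup n, ∑ i ∈ F, app (c.inj i) V (a ^ (F.sup n - n i) • s i), ?_⟩
    conv_rhs => rw [hF]
    rw [map_sum, Finset.smul_sum]
    refine Finset.sum_congr rfl fun i hi => ?_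
    rw [← app_res, res_smul, hs, ← mul_smul, map_pow, ← pow_add, Nat.sub_add_cancel (Finset.le_sup hi),
      map_smul]

theorem qct_coproduct {ι : Type w} (f : ι → FSch.ModF 𝔛 h𝔛.1) {c : Cofan f} (hc : IsColimit c)
    (hf : ∀ i, FTors.IsQCT 𝔛 h𝔛.1 (f i)) : FTors.IsQCT 𝔛 h𝔛.1 c.pt := by
  rw [isQCT_iff h𝔛]
  refine ⟨torsF_coproduct h𝔛 f hc fun i => (hf i).1, fun V hV a => ?_⟩
  exact locOn_coproduct h𝔛 f hc hV (isCompact_of_le h𝔛 hV (Do_le h𝔛 a)) a _
    fun i => ((isQCT_iff h𝔛 _).1 (hf i)).2 V hV a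

theorem isClosedUnderColimits_QCT (J : Type u) [SmallCategory J] :
    (FTors.IsQCT 𝔛 h𝔛.1).IsClosedUnderColimitsOfShape J := by
  have := isWeakSerre_QCT h𝔛
  exact ColimAbs.isClosedUnderColimits_of _ (fun f hX hY => ObjectProperty.prop_cokernel _ f hX hY)
    (fun f hf => qct_coproduct h𝔛 f (colimit.isColimit _) hf) J

theorem isClosedUnderColimits_torsF (J : Type u) [SmallCategory J] :
    (FTors.IsTorsF 𝔛 h𝔛.1).IsClosedUnderColimitsOfShape J := by
  have := isSerreClass_torsF h𝔛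
  exact ColimAbs.isClosedUnderColimits_of _ (fun f hX hY => ObjectProperty.prop_cokernel _ f hX hY)
    (fun f hf => torsF_coproduct h𝔛 f (colimit.isColimit _) hf) J

end K919.QCTColim
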