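import Groth.Agent.FTors.K919.LevelQC

/-!
# Coherent modules on the levels

* `isCohF_push`: `(u_n)_* N` is coherent for `N` coherent;
* `isCoh_pull`: `(u_n)^* M` is coherent for `M` coherent killed by the `n`-th open ideal;
* `exists_coh_sub`: sections of quasi-coherent torsion modules lie locally in coherent submodules.
-/

set_option autoImplicit false
set_option linter.style.haveILetI false

universe u

open CategoryTheory CategoryTheory.Limits AlgebraicGeometry TopologicalSpace Opposite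

noncomputable section

namespace K919.LevelCoh

open K919.AffBasic K919.AffFlat K919.AffD K919.Kill K919.Loc K919.LocGen K919.QCT K919.QCTCart K919.SubSh K919.Level
open K919.KSub K919.LevelQC K29.RSec K29.RExact K29.RPull K181.Good K181.Formal

variable {𝔛 : FSch.Sys.{u}} (h𝔛 : 𝔛.IsLocNoethFormal) (n : ℕ)

theorem finite_iff_of_surjective {A B P Q : Type*} [CommRing A] [CommRing B] [AddCommGroup P] [Module B P]
    [AddCommGroup Q] [Module A Q] (σ : A →+* B) (hσ : Function.Surjective σ) (e : P ≃+ Q)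
    (he : ∀ a x, e (σ a • x) = a • e x) : Module.Finite B P ↔ Module.Finite A Q := by
  let _ : Module A P := Module.compHom P σ
  let _ := σ.toAlgebra
  have : IsScalarTower A B P := IsScalarTower.of_algebraMap_smul fun _ _ => rfl
  let e' : P ≃ₗ[A] Q := { e with map_smul' := fun a x => he a x }
  constructor
  · intro h
    have h2 : Module.Finite A B := Module.Finite.of_surjective (Algebra.linearMap A B) hσ
    have h1 : Module.Finite A P := Module.Finite.trans B P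
    exact Module.Finite.equiv e'
  · intro h
    have h1 : Module.Finite A P := Module.Finite.equiv e'.symm
    exact Module.Finite.of_restrictScalars_finite A B P

/-- Sections of the direct image are finite iff the sections are. -/
theorem finite_push_iff (N : (𝔛.X n).Modules) {V : (𝔛.X 0).Opens} (hV : IsAffineOpen V) :
    Module.Finite Γ(𝔛.X n, 𝔛.lvU h𝔛.1 n V) Γ(N, 𝔛.lvU h𝔛.1 n V) ↔
      Module.Finite (O (𝔛.Osh h𝔛.1) V) (Sec ((um h𝔛 n).push.obj N) V) :=
  finite_iff_of_surjective (prO (h := h𝔛.1) n V) (pr_surjective h𝔛 ((aff_iff h𝔛).2 hV) n)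
    { toFun := fun s => s
      invFun := fun s => s
      left_inv := fun _ => rfl
      right_inv := fun _ => rfl
      map_add' := fun _ _ => rfl } (fun _ _ => rfl)

theorem isCohF_of_qct {M : FSch.ModF 𝔛 h𝔛.1} (hM : FTors.IsQCT 𝔛 h𝔛.1 M)
    (hf : ∀ x : 𝔛.X 0, ∃ V : (𝔛.X 0).Opens, x ∈ V ∧ IsAffineOpen V ∧ Module.Finite (O (𝔛.Osh h𝔛.1) V) (Sec M V)) :
    FSch.IsCohF 𝔛 h𝔛.1 M :=
  (isCohF_iff h𝔛).2 fun x => by
    obtain ⟨V, hxV, hV, h⟩ := hf x
    exact ⟨V, hxV, cart_of_qct h𝔛 hM hV, h⟩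

/-- `(u_n)_* N` is coherent for `N` coherent. -/
theorem isCohF_push {N : (𝔛.X n).Modules} (hN : SheafOfModules.IsQuasicoherent.{u} (R := (𝔛.X n).ringCatSheaf) N)
    (hN' : SheafOfModules.IsFiniteType (R := (𝔛.X n).ringCatSheaf) N) :
    FSch.IsCohF 𝔛 h𝔛.1 ((um h𝔛 n).push.obj N) := by
  refine isCohF_of_qct h𝔛 (qct_push h𝔛 n hN) fun x => ?_
  obtain ⟨V, hV, hxV, -⟩ := Opens.isBasis_iff_nbhd.mp (𝔛.X 0).isBasis_affineOpens
    (show x ∈ (⊤ : (𝔛.X 0).Opens) from trivial)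
  refine ⟨V, hxV, hV, (finite_push_iff h𝔛 n N hV).1 ?_⟩
  exact Groth.Agent.Ega1.QCohFinite.finite_sections N hN' (isAffineOpen_lvU 𝔛 h𝔛.1 ((aff_iff h𝔛).2 hV) n)

/-- A module on a level with coherent direct image is coherent. -/
theorem isFiniteType_of_push {N : (𝔛.X n).Modules} (hN : FTors.IsQCT 𝔛 h𝔛.1 ((um h𝔛 n).push.obj N))
    (hN' : FSch.IsCohF 𝔛 h𝔛.1 ((um h𝔛 n).push.obj N)) :
    SheafOfModules.IsFiniteType (R := (𝔛.X n).ringCatSheaf) N := by
  have hq := isQuasicoherent_of_push h𝔛 n hN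
  refine Groth.Agent.Ega1.QCohOfLoc.isFiniteType_of_finite N fun x => ?_
  obtain ⟨V, hV, hxV⟩ := exists_affine_lvU h𝔛 n x
  have hVn := isAffineOpen_lvU 𝔛 h𝔛.1 ((aff_iff h𝔛).2 hV) n
  refine ⟨_, hxV, hVn, Groth.Agent.Ega1.LocMod.loc_of_isQuasicoherent N hVn, ?_⟩
  exact (finite_push_iff h𝔛 n N hV).2 (cartF_of_coh h𝔛 hN' hV).2

/-- `(u_n)^* M` is coherent for `M` coherent killed by the `n`-th open ideal. -/
theorem isFiniteType_pull {M : FSch.ModF 𝔛 h𝔛.1} (hM : FTors.IsQCT 𝔛 h𝔛.1 M) (hk : KL h𝔛 n M)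
    (hM' : FSch.IsCohF 𝔛 h𝔛.1 M) :
    SheafOfModules.IsFiniteType (R := (𝔛.X n).ringCatSheaf) ((um h𝔛 n).pull.obj M) := by
  have := K919.SerreQCT.isClosedUnderIso h𝔛
  exact isFiniteType_of_push h𝔛 n ((FTors.IsQCT 𝔛 h𝔛.1).prop_of_iso (isoPush h𝔛 n hk) hM)
    (K180.FSchCls.isCohF_of_iso h𝔛.1 (isoPush h𝔛 n hk) hM')

end K919.LevelCoh
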