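import Groth.Agent.FTors.K919.AffFlat
import Groth.Agent.FCompl.K29.RSec

/-!
# Basic opens of a formal system

`D V a` is the locus where the section `a ∈ O_𝔛(V)` is invertible.
-/

set_option autoImplicit false

universe u

open CategoryTheory CategoryTheory.Limits AlgebraicGeometry TopologicalSpace Opposite

namespace K919.AffD

open K919.AffBasic K919.AffFlat

variable (𝔛 : FSch.Sys.{u}) (h : 𝔛.IsFormal)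

/-- The basic open of a section of `O_𝔛`. -/
noncomputable def D {V : (𝔛.X 0).Opens} (a : OU 𝔛 h V) : (𝔛.X 0).Opens :=
  (𝔛.X 0).basicOpen (U := 𝔛.lvU h 0 V) (pr 𝔛 h 0 V a)

theorem D_le {V : (𝔛.X 0).Opens} (a : OU 𝔛 h V) : D 𝔛 h a ≤ V :=
  ((𝔛.X 0).basicOpen_le _).trans (lvU_zero 𝔛 h V).le

theorem D_rs {V W : (𝔛.X 0).Opens} (i : W ≤ V) (a : OU 𝔛 h V) :
    D 𝔛 h (rs 𝔛 h i a) = W ⊓ D 𝔛 h a := by
  rw [D, pr_rs, rsL_eq]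
  have h1 := (𝔛.X 0).basicOpen_res (pr 𝔛 h 0 V a) (homOfLE ((Opens.map (𝔛.gInv h 0)).monotone i)).op
  refine h1.trans ?_
  change 𝔛.lvU h 0 W ⊓ D 𝔛 h a = _
  rw [lvU_zero]

theorem D_mul {V : (𝔛.X 0).Opens} (a b : OU 𝔛 h V) : D 𝔛 h (a * b) = D 𝔛 h a ⊓ D 𝔛 h b := by
  rw [D, map_mul]
  exact (𝔛.X 0).basicOpen_mul _ _

theorem D_one (V : (𝔛.X 0).Opens) : D 𝔛 h (1 : OU 𝔛 h V) = V := by
  rw [D, map_one]
  exact ((𝔛.X 0).basicOpen_of_isUnit isUnit_one).trans (lvU_zero 𝔛 h V)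

theorem D_eq_of_isUnit {V : (𝔛.X 0).Opens} {a : OU 𝔛 h V} (ha : IsUnit a) : D 𝔛 h a = V :=
  ((𝔛.X 0).basicOpen_of_isUnit (ha.map (pr 𝔛 h 0 V))).trans (lvU_zero 𝔛 h V)

theorem lvU_injective {U V : (𝔛.X 0).Opens} (n : ℕ) (e : 𝔛.lvU h n U = 𝔛.lvU h n V) : U = V := by
  rw [← toX_preimage_lvU 𝔛 h n U, e, toX_preimage_lvU]

theorem exists_lvU (n : ℕ) (W : (𝔛.X n).Opens) : ∃ U, 𝔛.lvU h n U = W := by
  refine ⟨(𝔛.toX n) ⁻¹ᵁ W, ?_⟩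
  change (Opens.map (𝔛.gInv h n ≫ (𝔛.toX n).base)).obj W = W
  have e : 𝔛.gInv h n ≫ (𝔛.toX n).base = 𝟙 _ := by
    have : IsIso (𝔛.toX n).base :=
      inferInstanceAs (IsIso (TopCat.isoOfHomeo (𝔛.levelHomeo h n)).hom)
    rw [← cancel_epi (𝔛.toX n).base, 𝔛.toX_base_gInv_assoc h n, Category.comp_id]
  rw [e]
  rfl

theorem lvU_D (n : ℕ) {V : (𝔛.X 0).Opens} (a : OU 𝔛 h V) :
    𝔛.lvU h n (D 𝔛 h a) = (𝔛.X n).basicOpen (U := 𝔛.lvU h n V) (pr 𝔛 h n V a) := by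
  obtain ⟨U, hU⟩ := exists_lvU 𝔛 h n ((𝔛.X n).basicOpen (U := 𝔛.lvU h n V) (pr 𝔛 h n V a))
  rw [← hU]
  congr 1
  rw [← toX_preimage_lvU 𝔛 h n U, hU, Scheme.preimage_basicOpen]
  have h1 : (𝔛.X 0).basicOpen (tr0 𝔛 h n V (pr 𝔛 h n V a)) =
      (𝔛.X 0).basicOpen (((𝔛.toX n).app (𝔛.lvU h n V)).hom (pr 𝔛 h n V a)) := by
    have h2 := (𝔛.X 0).basicOpen_res (((𝔛.toX n).app (𝔛.lvU h n V)).hom (pr 𝔛 h n V a))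
      (homOfLE (lvU_zero_le 𝔛 h n V)).op
    refine h2.trans (inf_eq_right.2 ?_)
    exact ((𝔛.X 0).basicOpen_le _).trans (by rw [toX_preimage_lvU, lvU_zero])
  rw [← h1]
  have h3 := congrArg (fun φ => φ a) (tr0_pr 𝔛 h n V)
  have h4 : tr0 𝔛 h n V (pr 𝔛 h n V a) = pr 𝔛 h 0 V a := h3
  rw [h4]
  rfl

theorem isUnit_of_levels {V : (𝔛.X 0).Opens} (a : OU 𝔛 h V) (ha : ∀ n, IsUnit (pr 𝔛 h n V a)) :
    IsUnit a := by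
  choose b hb using fun n => (ha n).exists_right_inv
  obtain ⟨x, hx⟩ := osh_lift 𝔛 h b (fun n => by
    have h1 : tr 𝔛 h n V (pr 𝔛 h (n + 1) V a * b (n + 1)) = 1 := by rw [hb, map_one]
    rw [map_mul, tr_pr] at h1
    exact (ha n).mul_left_cancel (h1.trans (hb n).symm))
  exact IsUnit.of_mul_eq_one x (osh_ext 𝔛 h _ _ fun n => by rw [map_mul, hx, hb, map_one])

theorem isUnit_rs_D {V : (𝔛.X 0).Opens} (a : OU 𝔛 h V) : IsUnit (rs 𝔛 h (D_le 𝔛 h a) a) := by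
  apply isUnit_of_levels
  intro n
  rw [pr_rs]
  have h1 := (𝔛.X n).toRingedSpace.isUnit_res_basicOpen (U := 𝔛.lvU h n V) (pr 𝔛 h n V a)
  have h2 : ∀ (W : (𝔛.X n).Opens) (hW : W ≤ 𝔛.lvU h n V) (e : W = (𝔛.X n).basicOpen (U := 𝔛.lvU h n V) (pr 𝔛 h n V a)),
      IsUnit ((𝔛.X n).presheaf.map (homOfLE hW).op (pr 𝔛 h n V a)) := by
    intro W hW e
    subst e
    exact h1
  exact h2 _ _ (lvU_D 𝔛 h n a)

theorem isUnit_rs_of_le {V W : (𝔛.X 0).Opens} (a : OU 𝔛 h V) (hW : W ≤ V) (hW' : W ≤ D 𝔛 h a) :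
    IsUnit (rs 𝔛 h hW a) := by
  have h1 := (isUnit_rs_D 𝔛 h a).map (rs 𝔛 h hW')
  have h2 : rs 𝔛 h hW' (rs 𝔛 h (D_le 𝔛 h a) a) = rs 𝔛 h hW a :=
    K29.RSec.resO_resO (R := 𝔛.Osh h) (D_le 𝔛 h a) hW' a
  rw [h2] at h1
  exact h1

theorem isUnit_rs_iff {V W : (𝔛.X 0).Opens} (a : OU 𝔛 h V) (hW : W ≤ V) :
    IsUnit (rs 𝔛 h hW a) ↔ W ≤ D 𝔛 h a := by
  refine ⟨fun h1 => ?_, isUnit_rs_of_le 𝔛 h a hW⟩
  have h2 := D_eq_of_isUnit 𝔛 h h1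
  rw [D_rs] at h2
  exact inf_eq_left.1 h2

variable {𝔛} (h𝔛 : 𝔛.IsLocNoethFormal) {U : (𝔛.X 0).Opens} (hU : IsAffineOpen (𝔛.lvU h𝔛.1 0 U))

include hU

theorem isAffineOpen_D (a : OU 𝔛 h𝔛.1 U) : IsAffineOpen (𝔛.lvU h𝔛.1 0 (D 𝔛 h𝔛.1 a)) := by
  rw [lvU_D]
  exact hU.basicOpen _

/-- Basic opens form a basis of an affine open. -/
theorem exists_D {V : (𝔛.X 0).Opens} (hV : V ≤ U) {x : 𝔛.X 0} (hx : x ∈ V) :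
    ∃ a : OU 𝔛 h𝔛.1 U, x ∈ D 𝔛 h𝔛.1 a ∧ D 𝔛 h𝔛.1 a ≤ V := by
  have hx' : x ∈ 𝔛.lvU h𝔛.1 0 U := by
    rw [lvU_zero]; exact hV hx
  obtain ⟨f, hf, hxf⟩ := hU.exists_basicOpen_le (V := V) ⟨x, hx⟩ hx'
  obtain ⟨a, ha⟩ := pr_surjective h𝔛 hU 0 f
  subst ha
  exact ⟨a, hxf, hf⟩

/-- Elements generating the unit ideal locally generate it. -/
theorem span_eq_top_of_cover {ι : Type*} (a : ι → OU 𝔛 h𝔛.1 U) (hc : U ≤ ⨆ i, D 𝔛 h𝔛.1 (a i)) :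
    Ideal.span (Set.range a) = ⊤ := by
  have hcpl := isAdicComplete h𝔛 hU
  have h1 : Ideal.span (Set.range fun i => pr 𝔛 h𝔛.1 0 U (a i)) = ⊤ := by
    have h2 := (hU.self_le_iSup_basicOpen_iff (s := Set.range fun i => pr 𝔛 h𝔛.1 0 U (a i))).1
      ((lvU_zero 𝔛 h𝔛.1 U).le.trans (hc.trans (iSup_le fun i => le_iSup
        (fun f : Set.range fun i => pr 𝔛 h𝔛.1 0 U (a i) => (𝔛.X 0).basicOpen f.1) ⟨_, i, rfl⟩)))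
    exact h2
  have h3 : Ideal.map (pr 𝔛 h𝔛.1 0 U) (Ideal.span (Set.range a)) = ⊤ := by
    rw [Ideal.map_span, ← Set.range_comp]
    exact h1
  have h4 := congrArg (Ideal.comap (pr 𝔛 h𝔛.1 0 U)) h3
  rw [Ideal.comap_map_of_surjective _ (pr_surjective h𝔛 hU 0), Ideal.comap_top] at h4
  have h5 : Ideal.comap (pr 𝔛 h𝔛.1 0 U) ⊥ = II 𝔛 h𝔛.1 U := rfl
  rw [h5] at h4
  by_contra h6
  obtain ⟨m, hm, hle⟩ := Ideal.exists_le_maximal _ h6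
  have h7 : II 𝔛 h𝔛.1 U ≤ m := by
    refine (IsAdicComplete.le_jacobson_bot (II 𝔛 h𝔛.1 U)).trans ?_
    exact sInf_le ⟨bot_le, hm⟩
  exact hm.ne_top (top_le_iff.1 (h4 ▸ sup_le hle h7))

/-- The level rings of a basic open are localizations. -/
theorem isLocalization_D (a : OU 𝔛 h𝔛.1 U) (n : ℕ) :
    @IsLocalization.Away _ _ (pr 𝔛 h𝔛.1 n U a) (LU 𝔛 h𝔛.1 n (D 𝔛 h𝔛.1 a)) _
      (rsL 𝔛 h𝔛.1 n (D_le 𝔛 h𝔛.1 a)).toAlgebra := by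
  have h1 := (isAffineOpen_lvU 𝔛 h𝔛.1 hU n).isLocalization_basicOpen (pr 𝔛 h𝔛.1 n U a)
  have h2 : ∀ (W : (𝔛.X n).Opens) (hW : W ≤ 𝔛.lvU h𝔛.1 n U)
      (e : W = (𝔛.X n).basicOpen (U := 𝔛.lvU h𝔛.1 n U) (pr 𝔛 h𝔛.1 n U a)),
      @IsLocalization.Away _ _ (pr 𝔛 h𝔛.1 n U a) Γ(𝔛.X n, W) _
        ((𝔛.X n).presheaf.map (homOfLE hW).op).hom.toAlgebra := by
    intro W hW e
    subst e
    exact h1
  exact h2 _ _ (lvU_D 𝔛 h𝔛.1 n a)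

end K919.AffD
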