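import Groth.Prelude.Def_FTors
import Groth.Agent.Sga4A.ModShriek
import Groth.Agent.Ega3B.InjMod
import Mathlib.Algebra.Category.ModuleCat.Presheaf.Submodule

/-!
# A Baer type property of injective sheaves of modules on a ringed site

`baer`: for `M` injective in `Mod(O)`, an object `X` of the site, a presheaf of ideals `𝔟` of `O|X` (a family of ideals
on the objects over `X`, stable under restriction) and a compatible family of linear maps `𝔟 → M|X`, there is a section
`s` of `M` over `X` such that the family is multiplication with `s`.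
-/

set_option autoImplicit false

universe u

open CategoryTheory CategoryTheory.Limits Opposite

namespace K919.Baer

open Groth.Agent.Sga4A.ModShriek

variable {C : Type u} [SmallCategory C] {J : GrothendieckTopology C}

/-- Restriction of presheaves of modules to `Over X` preserves injective objects. -/
theorem injective_restr {R : Cᵒᵖ ⥤ RingCat.{u}} (X : C) (I : PresheafOfModules.{u} R) [Injective I] :
    Injective ((Groth.Agent.Sga4A.ModShriek.restr R X).obj I) := by
  have : (shriek R X).PreservesMonomorphisms := by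
    refine ⟨fun {M N} φ hφ => ?_⟩
    apply PresheafOfModules.mono_of_injective
    intro U
    exact shMapApp_injective φ (fun Y => PresheafOfModules.injective_of_mono φ Y) U
  exact (adj R X).map_injective I ‹_›

section

variable (O : Sheaf J CommRingCat.{u}) (M : ModSite.Mod O)

/-- A presheaf of ideals of `O` on the objects over `X`. -/
structure OverIdeal (X : C) where
  /-- the ideal -/
  ideal : ∀ Y : Over X, Ideal (O.obj.obj (op Y.left))
  /-- stability under restriction -/
  map_mem : ∀ {Y Z : Over X} (g : Z ⟶ Y) (a : O.obj.obj (op Y.left)), a ∈ ideal Y →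
    (O.obj.map g.left.op).hom a ∈ ideal Z

variable {O} {X : C} (𝔟 : OverIdeal O X)

/-- A compatible family of linear maps from a presheaf of ideals to `M`. -/
structure OverHom where
  /-- the map -/
  toFun : ∀ (Y : Over X) (a : O.obj.obj (op Y.left)), a ∈ 𝔟.ideal Y → ModSite.sect M Y.left
  add : ∀ (Y : Over X) (a b : O.obj.obj (op Y.left)) (ha : a ∈ 𝔟.ideal Y) (hb : b ∈ 𝔟.ideal Y),
    toFun Y (a + b) (add_mem ha hb) = toFun Y a ha + toFun Y b hb
  smul : ∀ (Y : Over X) (c a : O.obj.obj (op Y.left)) (ha : a ∈ 𝔟.ideal Y),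
    toFun Y (c * a) (Ideal.mul_mem_left _ _ ha) = c • toFun Y a ha
  map : ∀ {Y Z : Over X} (g : Z ⟶ Y) (a : O.obj.obj (op Y.left)) (ha : a ∈ 𝔟.ideal Y),
    toFun Z ((O.obj.map g.left.op).hom a) (𝔟.map_mem g a ha) = FTors.res M g.left (toFun Y a ha)

/-- The presheaf of modules on `Over X` given by a presheaf of ideals, as a submodule of the unit. -/
noncomputable def toSub : ((Groth.Agent.Sga4A.ModShriek.restr (ModSite.ringSh O).obj X).obj
    (PresheafOfModules.unit (ModSite.ringSh O).obj)).Submodule where
  obj Y := 𝔟.ideal Y.unop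
  map g := fun a ha => 𝔟.map_mem g.unop a ha

variable {M} (φ : OverHom M 𝔟)

/-- The morphism of presheaves of modules on `Over X` of a compatible family. -/
noncomputable def toHom : (toSub 𝔟).toPresheafOfModules ⟶
    (Groth.Agent.Sga4A.ModShriek.restr (ModSite.ringSh O).obj X).obj M.val :=
  PresheafOfModules.homMk
    { app := fun Y => AddCommGrpCat.ofHom
        { toFun := fun a => φ.toFun Y.unop a.1 a.2
          map_zero' := by
            have h1 := φ.smul Y.unop 0 0 (Ideal.zero_mem _)
            rw [zero_smul] at h1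
            have h2 : (0 : O.obj.obj (op Y.unop.left)) * 0 = 0 := mul_zero _
            simp only [h2] at h1
            exact h1
          map_add' := fun a b => φ.add Y.unop a.1 b.1 a.2 b.2 }
      naturality := fun Y Z g => by
        ext a
        exact φ.map g.unop a.1 a.2 }
    (fun Y r a => φ.smul Y.unop r a.1 a.2)

theorem baer [Injective M] : ∃ s : ModSite.sect M X, ∀ (Y : Over X) (a : O.obj.obj (op Y.left))
    (ha : a ∈ 𝔟.ideal Y), φ.toFun Y a ha = a • FTors.res M Y.hom s := by
  have h1 : Injective M.val := Groth.Agent.Ega3B.InjMod.injective_val_site (ModSite.ringSh O) M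
  have h2 := injective_restr X M.val
  obtain ⟨η, hη⟩ := Injective.factors (toHom 𝔟 φ) (toSub 𝔟).ι
  let s : ModSite.sect M X := (η.app (op (Over.mk (𝟙 X)))).hom (1 : O.obj.obj (op X))
  refine ⟨s, fun Y a ha => ?_⟩
  have h3 : φ.toFun Y a ha = (η.app (op Y)).hom a := by
    let b : (toSub 𝔟).obj (op Y) := ⟨a, ha⟩
    have := congrArg (fun ψ : (toSub 𝔟).toPresheafOfModules ⟶
      (Groth.Agent.Sga4A.ModShriek.restr (ModSite.ringSh O).obj X).obj M.val => (ψ.app (op Y)).hom b) hη
    exact this.symm
  have h4 : (η.app (op Y)).hom (1 : O.obj.obj (op Y.left)) = FTors.res M Y.hom s := by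
    have h5 := PresheafOfModules.naturality_apply η (Over.homMk Y.hom : Y ⟶ Over.mk (𝟙 X)).op
      (1 : O.obj.obj (op X))
    have h6 : ((Groth.Agent.Sga4A.ModShriek.restr (ModSite.ringSh O).obj X).obj
        (PresheafOfModules.unit (ModSite.ringSh O).obj)).map (Over.homMk Y.hom : Y ⟶ Over.mk (𝟙 X)).op
        (1 : O.obj.obj (op X)) = (1 : O.obj.obj (op Y.left)) := map_one (O.obj.map Y.hom.op).hom
    rw [h6] at h5
    exact h5
  rw [h3, ← h4]
  have h7 := (η.app (op Y)).hom.map_smul a (1 : O.obj.obj (op Y.left))
  refine Eq.trans ?_ h7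
  congr 1
  exact (mul_one a).symm

end

end K919.Baer
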