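import Groth.Agent.FTors.K919.QCTColim

/-!
# Direct images of quasi-coherent torsion modules
-/

set_option autoImplicit false

universe u v w

open CategoryTheory CategoryTheory.Limits AlgebraicGeometry TopologicalSpace Opposite

namespace K919.Push

open K919.AffBasic K919.AffFlat K919.AffD K919.Kill K919.Loc K919.LocGen K919.QCT K29.RSec K29.RExact

variable {𝔛 𝔜 : FSch.Sys.{u}} (f : 𝔛 ⟶ 𝔜)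

/-- Preimages of opens. -/
noncomputable abbrev pre (V : (𝔜.X 0).Opens) : (𝔛.X 0).Opens := (f : FSch.Hom 𝔛 𝔜).app 0 ⁻¹ᵁ V

theorem pre_mono {V W : (𝔜.X 0).Opens} (h : W ≤ V) : pre f W ≤ pre f V := fun _ hx => h hx

variable (h𝔛 : 𝔛.IsFormal) (h𝔜 : 𝔜.IsFormal)

/-- The comorphism on sections. -/
noncomputable def shO (V : (𝔜.X 0).Opens) : O (𝔜.Osh h𝔜) V →+* O (𝔛.Osh h𝔛) (pre f V) :=
  ((FSch.Hom.sharp f h𝔛 h𝔜).hom.app (op V)).hom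

theorem shO_resO {V W : (𝔜.X 0).Opens} (h : W ≤ V) (r : O (𝔜.Osh h𝔜) V) :
    shO f h𝔛 h𝔜 W (resO h r) = resO (pre_mono f h) (shO f h𝔛 h𝔜 V r) :=
  congr($((FSch.Hom.sharp f h𝔛 h𝔜).hom.naturality (homOfLE h).op) r)

theorem prO_shO (n : ℕ) (V : (𝔜.X 0).Opens) (a : O (𝔜.Osh h𝔜) V) :
    prO n (pre f V) (shO f h𝔛 h𝔜 V a) =
      ((FSch.Hom.levelPush f h𝔛 h𝔜 n).hom.app (op V)).hom (prO n V a) :=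
  congrArg (fun φ => (φ.hom.app (op V)).hom a) (FSch.Hom.sharp_proj f h𝔛 h𝔜 n)

theorem D_shO (V : (𝔜.X 0).Opens) (a : O (𝔜.Osh h𝔜) V) :
    D 𝔛 h𝔛 (V := pre f V) (shO f h𝔛 h𝔜 V a) = pre f (D 𝔜 h𝔜 (V := V) a) := by
  have h1 := prO_shO f h𝔛 h𝔜 0 V a
  have h2 : D 𝔛 h𝔛 (V := pre f V) (shO f h𝔛 h𝔜 V a) =
      (𝔛.X 0).basicOpen (U := 𝔛.lvU h𝔛 0 (pre f V)) (prO 0 (pre f V) (shO f h𝔛 h𝔜 V a)) := rfl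
  rw [h2, h1]
  have h3 : (((FSch.Hom.levelPush f h𝔛 h𝔜 0).hom.app (op V)).hom (prO 0 V a)) =
      (((f : FSch.Hom 𝔛 𝔜).app 0).appLE (𝔜.lvU h𝔜 0 V) (𝔛.lvU h𝔛 0 (pre f V))
        (FSch.Hom.lvU_preimage f h𝔛 h𝔜 0 V).ge).hom (pr 𝔜 h𝔜 0 V a) := rfl
  rw [h3]
  have h4 : ∀ (W : (𝔛.X 0).Opens) (e : W = (f : FSch.Hom 𝔛 𝔜).app 0 ⁻¹ᵁ (𝔜.lvU h𝔜 0 V)),
      (𝔛.X 0).basicOpen ((((f : FSch.Hom 𝔛 𝔜).app 0).appLE (𝔜.lvU h𝔜 0 V) W e.le).hom (pr 𝔜 h𝔜 0 V a)) =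
        (f : FSch.Hom 𝔛 𝔜).app 0 ⁻¹ᵁ (𝔜.X 0).basicOpen (U := 𝔜.lvU h𝔜 0 V) (pr 𝔜 h𝔜 0 V a) := by
    intro W e
    subst e
    rw [Scheme.preimage_basicOpen, Scheme.Hom.appLE_eq_app]
  exact h4 _ (FSch.Hom.lvU_preimage f h𝔛 h𝔜 0 V).symm

/-- Sections of the direct image. -/
noncomputable def ofP {M : FSch.ModF 𝔛 h𝔛} {V : (𝔜.X 0).Opens} :
    Sec ((FSch.pushF f h𝔛 h𝔜).obj M) V ≃+ Sec M (pre f V) where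
  toFun s := s
  invFun s := s
  left_inv _ := rfl
  right_inv _ := rfl
  map_add' _ _ := rfl

theorem ofP_smul {M : FSch.ModF 𝔛 h𝔛} {V : (𝔜.X 0).Opens} (r : O (𝔜.Osh h𝔜) V)
    (s : Sec ((FSch.pushF f h𝔛 h𝔜).obj M) V) :
    ofP f h𝔛 h𝔜 (r • s) = shO f h𝔛 h𝔜 V r • ofP f h𝔛 h𝔜 s := rfl

theorem ofP_res {M : FSch.ModF 𝔛 h𝔛} {V W : (𝔜.X 0).Opens} (h : W ≤ V)
    (s : Sec ((FSch.pushF f h𝔛 h𝔜).obj M) V) :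
    ofP f h𝔛 h𝔜 (res _ h s) = res M (pre_mono f h) (ofP f h𝔛 h𝔜 s) := rfl

theorem kb_push {M : FSch.ModF 𝔛 h𝔛} {V : (𝔜.X 0).Opens} {s : Sec ((FSch.pushF f h𝔛 h𝔜).obj M) V} {n : ℕ}
    (hs : KB M n (ofP f h𝔛 h𝔜 s)) : KB ((FSch.pushF f h𝔛 h𝔜).obj M) n s := by
  intro W hW a ha
  apply (ofP f h𝔛 h𝔜).injective
  rw [ofP_smul, ofP_res, map_zero]
  exact hs _ _ _ (by rw [prO_shO, ha]; exact map_zero _)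

theorem locOn_push {M : FSch.ModF 𝔛 h𝔛} {V W : (𝔜.X 0).Opens} (hW : W ≤ V) (a : O (𝔜.Osh h𝔜) V)
    (hl : LocOn M (shO f h𝔛 h𝔜 V a) (pre f W) (pre_mono f hW)) :
    LocOn ((FSch.pushF f h𝔛 h𝔜).obj M) a W hW := by
  constructor
  · intro s hs
    obtain ⟨n, hn⟩ := hl.1 (ofP f h𝔛 h𝔜 s) (by rw [← ofP_res f h𝔛 h𝔜 hW, hs, map_zero])
    refine ⟨n, (ofP f h𝔛 h𝔜).injective ?_⟩
    rw [ofP_smul, map_pow, hn, map_zero]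
  · intro t
    obtain ⟨n, s, hs⟩ := hl.2 (ofP f h𝔛 h𝔜 t)
    refine ⟨n, (ofP f h𝔛 h𝔜).symm s, (ofP f h𝔛 h𝔜).injective ?_⟩
    rw [ofP_res, AddEquiv.apply_symm_apply, hs, ofP_smul, map_pow, shO_resO]

end K919.Push

namespace K919.Push

open K919.AffBasic K919.AffFlat K919.AffD K919.Kill K919.Loc K919.LocGen K919.QCT K29.RSec K29.RExact

variable {𝔛 𝔜 : FSch.Sys.{u}} (f : 𝔛 ⟶ 𝔜) (h𝔛 : 𝔛.IsLocNoethFormal) (h𝔜 : 𝔜.IsLocNoethFormal)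
  [CompactSpace (𝔛.X 0)]

include h𝔛 in
theorem isCompact_open (V : (𝔛.X 0).Opens) : IsCompact (V : Set (𝔛.X 0)) :=
  isCompact_of_le h𝔛 (V := ⊤) (by simpa using isCompact_univ) le_top

theorem torsF_push {M : FSch.ModF 𝔛 h𝔛.1} (hM : FTors.IsTorsF 𝔛 h𝔛.1 M) :
    FTors.IsTorsF 𝔜 h𝔜.1 ((FSch.pushF f h𝔛.1 h𝔜.1).obj M) := by
  rw [isTorsF_iff]
  intro V s x hx
  obtain ⟨n, hn⟩ := exists_kb (isCompact_open h𝔛 (pre f V)) (ofP f h𝔛.1 h𝔜.1 s) (hM _ _)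
  refine ⟨V, hx, le_rfl, n, ?_⟩
  rw [res_self]
  exact kb_push f h𝔛.1 h𝔜.1 hn

theorem qct_push {M : FSch.ModF 𝔛 h𝔛.1} (hM : FTors.IsQCT 𝔛 h𝔛.1 M) :
    FTors.IsQCT 𝔜 h𝔜.1 ((FSch.pushF f h𝔛.1 h𝔜.1).obj M) := by
  rw [isQCT_iff h𝔜]
  refine ⟨torsF_push f h𝔛 h𝔜 hM.1, fun V _ a => locOn_push f h𝔛.1 h𝔜.1 _ a ?_⟩
  exact locOn_congr h𝔛 _ _ _ (D_shO f h𝔛.1 h𝔜.1 V a) (((isQCT_iff h𝔛 M).1 hM).2 (pre f V)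
    (isCompact_open h𝔛 _) _)

end K919.Push
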