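import Mathlib.AlgebraicGeometry.Morphisms.Proper
import Mathlib.AlgebraicGeometry.Morphisms.Immersion
import Mathlib.AlgebraicGeometry.Noetherian
import Mathlib.AlgebraicGeometry.Morphisms.QuasiCompact
import Mathlib.RingTheory.Noetherian.Nilpotent

/-!
# Properness and thickenings

`i : X₀ ⟶ X` a surjective closed immersion, `X` locally Noetherian: if `i ≫ f` is proper then so is `f`.
-/

set_option autoImplicit false

universe u

open CategoryTheory CategoryTheory.Limits AlgebraicGeometry TopologicalSpace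

namespace K919.ThickProper

theorem isSeparated_of_surjective {X0 X Y : Scheme.{u}} (i : X0 ⟶ X) [IsClosedImmersion i] [Surjective i]
    (f : X ⟶ Y) [IsSeparated (i ≫ f)] : IsSeparated f := by
  refine ⟨?_⟩
  let p : pullback (i ≫ f) (i ≫ f) ⟶ pullback f f :=
    pullback.map (i ≫ f) (i ≫ f) f f i i (𝟙 Y) (by simp) (by simp)
  have hp : IsClosedImmersion p :=
    MorphismProperty.pullbackMap (P := @IsClosedImmersion) (f := i ≫ f) (g := i ≫ f) (f' := f) (g' := f)
      (i₁ := i) (i₂ := i) inferInstance inferInstance rfl rfl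
  have hc : pullback.diagonal (i ≫ f) ≫ p = i ≫ pullback.diagonal f := by
    apply pullback.hom_ext
    · rw [Category.assoc, Category.assoc, pullback.diagonal_fst, Category.comp_id]
      erw [pullback.lift_fst]
      rw [← Category.assoc, pullback.diagonal_fst, Category.id_comp]
    · rw [Category.assoc, Category.assoc, pullback.diagonal_snd, Category.comp_id]
      erw [pullback.lift_snd]
      rw [← Category.assoc, pullback.diagonal_snd, Category.id_comp]
  refine IsClosedImmersion.of_isPreimmersion _ ?_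
  have h1 : Set.range (pullback.diagonal f) = p '' (Set.range (pullback.diagonal (i ≫ f))) := by
    rw [← Set.range_comp]
    have h2 : (⇑p ∘ ⇑(pullback.diagonal (i ≫ f))) = ⇑(pullback.diagonal f) ∘ ⇑i := by
      funext x
      have := congrArg (fun φ : X0 ⟶ pullback f f => φ x) hc
      rw [Scheme.Hom.comp_apply, Scheme.Hom.comp_apply] at this
      exact this
    rw [h2, Set.range_comp, (Surjective.surj (f := i)).range_eq, Set.image_univ]
  rw [h1]
  exact p.isClosedEmbedding.isClosedMap _ (pullback.diagonal (i ≫ f)).isClosedEmbedding.isClosed_range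

section Alg

variable {A B : Type*} [CommRing A] [CommRing B] [Algebra A B] (D : Subalgebra A B) (J : Ideal B)

theorem exists_sub_mem (h0 : ∀ b : B, ∃ d ∈ D, b - d ∈ J) (K : Set B) (hK : Ideal.span K = J) (hKD : K ⊆ D)
    (n : ℕ) : ∀ z ∈ J ^ n, ∃ d ∈ D, d ∈ J ^ n ∧ z - d ∈ J ^ (n + 1) := by
  have h1 : ∀ z ∈ J, ∃ d ∈ D, d ∈ J ∧ z - d ∈ J ^ 2 := by
    intro z hz
    rw [← hK] at hz
    induction hz using Submodule.span_induction with
    | mem x hx =>
      refine ⟨x, hKD hx, ?_, by rw [sub_self]; exact zero_mem _⟩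
      rw [← hK]
      exact Ideal.subset_span hx
    | zero => exact ⟨0, zero_mem _, zero_mem _, by rw [sub_zero]; exact zero_mem _⟩
    | add x y _ _ hx hy =>
      obtain ⟨d, hd, hd', h⟩ := hx
      obtain ⟨e, he, he', h'⟩ := hy
      refine ⟨d + e, add_mem hd he, add_mem hd' he', ?_⟩
      have : x + y - (d + e) = (x - d) + (y - e) := by ring
      rw [this]
      exact add_mem h h'
    | smul b x hx' hx =>
      obtain ⟨d, hd, hd', h⟩ := hx
      obtain ⟨c, hc, hbc⟩ := h0 b
      refine ⟨c * d, mul_mem hc hd, Ideal.mul_mem_left _ _ hd', ?_⟩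
      have : b • x - c * d = b * (x - d) + (b - c) * d := by rw [smul_eq_mul]; ring
      rw [this]
      refine add_mem (Ideal.mul_mem_left _ _ h) ?_
      rw [pow_two]
      exact Ideal.mul_mem_mul hbc hd'
  induction n with
  | zero =>
    intro z _
    obtain ⟨d, hd, h⟩ := h0 z
    exact ⟨d, hd, by rw [pow_zero, Ideal.one_eq_top]; trivial, by rw [zero_add, pow_one]; exact h⟩
  | succ n ih =>
    intro z hz
    rw [pow_succ] at hz
    refine Submodule.mul_induction_on hz (fun y hy w hw => ?_) (fun x y hx hy => ?_)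
    · obtain ⟨e, he, he', h'⟩ := ih y hy
      obtain ⟨d, hd, hd', h⟩ := h1 w hw
      refine ⟨e * d, mul_mem he hd, ?_, ?_⟩
      · rw [pow_succ]
        exact Ideal.mul_mem_mul he' hd'
      · have : y * w - e * d = (y - e) * w + e * (w - d) := by ring
        rw [this]
        refine add_mem ?_ ?_
        · rw [pow_succ (n := n + 1)]
          exact Ideal.mul_mem_mul h' hw
        · have e1 : J ^ (n + 1 + 1) = J ^ n * J ^ 2 := by rw [← pow_add]
          rw [e1]
          exact Ideal.mul_mem_mul he' h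
    · obtain ⟨d, hd, hd', h⟩ := hx
      obtain ⟨e, he, he', h'⟩ := hy
      refine ⟨d + e, add_mem hd he, add_mem hd' he', ?_⟩
      have : x + y - (d + e) = (x - d) + (y - e) := by ring
      rw [this]
      exact add_mem h h'

theorem eq_top_of_nilpotent (h0 : ∀ b : B, ∃ d ∈ D, b - d ∈ J) (K : Set B) (hK : Ideal.span K = J) (hKD : K ⊆ D)
    (hn : IsNilpotent J) : D = ⊤ := by
  obtain ⟨n, hn⟩ := hn
  have h1 : ∀ (n : ℕ) (b : B), ∃ d ∈ D, b - d ∈ J ^ n := by
    intro n
    induction n with
    | zero => exact fun b => ⟨0, zero_mem _, by rw [pow_zero, Ideal.one_eq_top]; trivial⟩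
    | succ n ih =>
      intro b
      obtain ⟨d, hd, h⟩ := ih b
      obtain ⟨e, he, -, h'⟩ := exists_sub_mem D J h0 K hK hKD n _ h
      exact ⟨d + e, add_mem hd he, by rwa [← sub_sub]⟩
  rw [eq_top_iff]
  intro b _
  obtain ⟨d, hd, h⟩ := h1 n b
  rw [hn] at h
  have : b = d := sub_eq_zero.1 h
  rw [this]
  exact hd

end Alg

/-- Finite type along nilpotent thickenings. -/
theorem finiteType_of_nilpotent {A B C : Type*} [CommRing A] [CommRing B] [CommRing C] (f : A →+* B)
    (g : B →+* C) (hg : Function.Surjective g) (hfg : (RingHom.ker g).FG) (hn : IsNilpotent (RingHom.ker g))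
    (h : (g.comp f).FiniteType) : f.FiniteType := by
  classical
  let _ := f.toAlgebra
  let _ := (g.comp f).toAlgebra
  let g' : B →ₐ[A] C := { g with commutes' := fun _ => rfl }
  obtain ⟨S, hS⟩ := (show Algebra.FiniteType A C from h).out
  obtain ⟨K, hK⟩ := hfg
  choose s hs using fun c : C => hg c
  have hS' : Algebra.adjoin A (g' '' (s '' (S : Set C))) = ⊤ := by
    rw [← hS, ← Set.image_comp]
    congr 1
    have : (⇑g' ∘ s) = id := funext fun c => hs c
    rw [this, Set.image_id]
  let D : Subalgebra A B := Algebra.adjoin A (s '' (S : Set C) ∪ (K : Set B))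
  have h0 : ∀ b : B, ∃ d ∈ D, b - d ∈ RingHom.ker g := by
    intro b
    have h1 : g' b ∈ Algebra.adjoin A (g' '' (s '' (S : Set C))) := by rw [hS']; trivial
    rw [Algebra.adjoin_image] at h1
    obtain ⟨d, hd, hdb⟩ := h1
    refine ⟨d, Algebra.adjoin_mono Set.subset_union_left hd, ?_⟩
    rw [RingHom.mem_ker, map_sub, sub_eq_zero]
    exact hdb.symm
  have h1 := eq_top_of_nilpotent D (RingHom.ker g) h0 K hK
    (fun x hx => Algebra.subset_adjoin (Set.mem_union_right _ hx)) hn
  refine (show Algebra.FiniteType A B from ⟨⟨S.image s ∪ K, ?_⟩⟩)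
  rw [Finset.coe_union, Finset.coe_image]
  exact h1

/-- The kernel of the restriction to a surjective closed subscheme is nilpotent, over affine opens. -/
theorem isNilpotent_ker {X0 X : Scheme.{u}} [IsLocallyNoetherian X] (i : X0 ⟶ X) [IsClosedImmersion i]
    [Surjective i] {U : X.Opens} (hU : IsAffineOpen U) : IsNilpotent (RingHom.ker (i.app U).hom) := by
  have h3 : IsNoetherianRing Γ(X, U) := IsLocallyNoetherian.component_noetherian ⟨_, hU⟩
  have h4 : (RingHom.ker (i.app U).hom).FG := IsNoetherian.noetherian _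
  rw [Ideal.FG.isNilpotent_iff_le_nilradical h4]
  intro s hs
  rw [mem_nilradical, Scheme.isNilpotent_iff_basicOpen_eq_bot_of_isCompact hU.isCompact]
  have h5 : i ⁻¹ᵁ (X.basicOpen s) = ⊥ := by
    rw [Scheme.preimage_basicOpen]
    have : i.app U s = 0 := hs
    rw [this, Scheme.basicOpen_zero]
  rw [eq_bot_iff]
  intro x hx
  obtain ⟨y, rfl⟩ := Surjective.surj (f := i) x
  have : y ∈ i ⁻¹ᵁ (X.basicOpen s) := hx
  rw [h5] at this
  exact this.elim

theorem locallyOfFiniteType_of_thick {X0 X Y : Scheme.{u}} [IsLocallyNoetherian X] (i : X0 ⟶ X)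
    [IsClosedImmersion i] [Surjective i] (f : X ⟶ Y) [LocallyOfFiniteType (i ≫ f)] : LocallyOfFiniteType f := by
  rw [HasRingHomProperty.iff_appLE (P := @LocallyOfFiniteType)]
  intro V U e
  have h3 : IsNoetherianRing Γ(X, U) := IsLocallyNoetherian.component_noetherian U
  have hU0 : IsAffineOpen (i ⁻¹ᵁ U.1) := U.2.preimage i
  refine finiteType_of_nilpotent (f.appLE V U e).hom (i.app U).hom (Scheme.Hom.app_surjective i _ U.2)
    (IsNoetherian.noetherian _) (isNilpotent_ker i U.2) ?_
  have h6 := HasRingHomProperty.appLE (P := @LocallyOfFiniteType) (i ≫ f) inferInstance V ⟨_, hU0⟩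
    (by
      rw [Scheme.Hom.comp_preimage]
      exact i.preimage_mono e)
  have h7 : f.appLE V U e ≫ i.app U = (i ≫ f).appLE V (i ⁻¹ᵁ U.1) (by
      rw [Scheme.Hom.comp_preimage]
      exact i.preimage_mono e) := by
    rw [i.app_eq_appLE, Scheme.Hom.appLE_comp_appLE]
  have h8 := congrArg (fun φ => φ.hom) h7
  have h9 : (i.app U).hom.comp (f.appLE V U e).hom = ((i ≫ f).appLE V (i ⁻¹ᵁ U.1) (by
      rw [Scheme.Hom.comp_preimage]
      exact i.preimage_mono e)).hom := h8
  rw [h9]
  exact h6

theorem isProper_of_thick {X0 X Y : Scheme.{u}} [IsLocallyNoetherian X] (i : X0 ⟶ X)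
    [IsClosedImmersion i] [Surjective i] (f : X ⟶ Y) [IsProper (i ≫ f)] : IsProper f := by
  have := isSeparated_of_surjective i f
  have := locallyOfFiniteType_of_thick i f
  have := UniversallyClosed.of_comp_surjective i f
  exact { }

end K919.ThickProper
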