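import Groth.Agent.FTors.K919.IndCoh
import Groth.Agent.FTors.K919.Push
import Groth.Agent.FTors.K919.ThickProper
import Groth.Agent.Pic13.H504.Push

/-!
# Direct images of coherent torsion modules along pseudo-proper morphisms

* `exists_kl`: a coherent torsion module on a Noetherian formal scheme is killed by an open ideal;
* `finite_of_level`: finiteness of the sections of `f_* M` from that of `(f_n)_* (u_n)^* M`;
* `isCohF_push`: `f_* M` is coherent for `f` pseudo-proper, `M` coherent torsion.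
-/

set_option autoImplicit false
set_option linter.style.haveILetI false

universe u

open CategoryTheory CategoryTheory.Limits AlgebraicGeometry TopologicalSpace Opposite

noncomputable section

namespace K919.CohPush

open K919.AffBasic K919.AffFlat K919.AffD K919.Kill K919.Loc K919.LocGen K919.QCT K919.QCTCart K919.SubSh K919.Level
open K919.KSub K919.LevelQC K919.LevelCoh K29.RSec K29.RExact K181.Good K181.Formal

section Level

variable {𝔛 : FSch.Sys.{u}} (h𝔛 : 𝔛.IsLocNoethFormal)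

theorem kb_of_cartF {M : FSch.ModF 𝔛 h𝔛.1} {V : (𝔛.X 0).Opens} (hV : IsAffineOpen V) (hM : CartF (fcov h𝔛) M V)
    (hT : FTors.IsTorsF 𝔛 h𝔛.1 M) : ∃ n, ∀ (W : (𝔛.X 0).Opens) (_ : W ≤ V) (s : Sec M W), KB M n s := by
  obtain ⟨hc, hf⟩ := hM
  obtain ⟨k, g, hg⟩ := Module.Finite.exists_fin (R := O (𝔛.Osh h𝔛.1) V) (M := Sec M V)
  choose n hn using fun i => exists_kb hV.isCompact (g i) (hT V (g i))
  have h1 : ∀ s : Sec M V, KB M (Finset.univ.sup n) s := by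
    intro s
    have hs : s ∈ Submodule.span (O (𝔛.Osh h𝔛.1) V) (Set.range g) := by rw [hg]; trivial
    induction hs using Submodule.span_induction with
    | mem x hx =>
      obtain ⟨i, rfl⟩ := hx
      exact (hn i).mono (Finset.le_sup (Finset.mem_univ i))
    | zero => exact kb_zero M _ V
    | add x y _ _ hx hy => exact hx.add hy
    | smul a x _ hx => exact hx.smul a
  refine ⟨Finset.univ.sup n, fun W hW s => kb_of_local fun x hx => ?_⟩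
  obtain ⟨W', hW'a, hxW', hW'⟩ := exists_isAffineOpen_mem_and_subset hx
  refine ⟨W', hxW', hW', ?_⟩
  have hs := (Cart.isBC hc hc.mem le_rfl hW'a (hW'.trans hW)).mem_span (res M hW' s)
  generalize res M hW' s = t at hs ⊢
  induction hs using Submodule.span_induction with
  | mem x hx =>
    obtain ⟨y, rfl⟩ := hx
    exact (h1 y).res _
  | zero => exact kb_zero M _ _
  | add x y _ _ hx hy => exact hx.add hy
  | smul a x _ hx => exact hx.smul a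

/-- A coherent torsion module on a Noetherian formal scheme is killed by an open ideal. -/
theorem exists_kl [CompactSpace (𝔛.X 0)] {M : FSch.ModF 𝔛 h𝔛.1} (hM : FSch.IsCohF 𝔛 h𝔛.1 M)
    (hT : FTors.IsTorsF 𝔛 h𝔛.1 M) : ∃ n, KL h𝔛 n M := by
  have h1 : ∀ x : 𝔛.X 0, ∃ (V : (𝔛.X 0).Opens) (_ : x ∈ V) (n : ℕ), 
      ∀ (W : (𝔛.X 0).Opens) (_ : W ≤ V) (s : Sec M W), KB M n s := by
    intro x
    obtain ⟨V, hV, hxV, -⟩ := exists_isAffineOpen_mem_and_subset (X := 𝔛.X 0) (U := ⊤) (x := x) trivial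
    obtain ⟨n, hn⟩ := kb_of_cartF h𝔛 hV (cartF_of_coh h𝔛 hM hV) hT
    exact ⟨V, hxV, n, hn⟩
  choose V hxV n hn using h1
  obtain ⟨t, ht⟩ := isCompact_univ.elim_finite_subcover (fun x : 𝔛.X 0 => ((V x : (𝔛.X 0).Opens) : Set (𝔛.X 0)))
    (fun x => (V x).isOpen) (fun x _ => Set.mem_iUnion.2 ⟨x, hxV x⟩)
  refine ⟨t.sup n, fun W s => kb_of_local fun x hx => ?_⟩
  obtain ⟨y, hy⟩ := Set.mem_iUnion.1 (ht (Set.mem_univ x))
  obtain ⟨hy1, hy2⟩ := Set.mem_iUnion.1 hy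
  exact ⟨W ⊓ V y, ⟨hx, hy2⟩, inf_le_left, (hn y _ inf_le_right _).mono (Finset.le_sup hy1)⟩

end Level

theorem exists_equiv {X Y : Scheme.{u}} (N : X.Modules) (g : X ⟶ Y) (W : Y.Opens) (W' : X.Opens)
    (e : g ⁻¹ᵁ W = W') : ∃ φ : Γ((Scheme.Modules.pushforward g).obj N, W) ≃+ Γ(N, W'),
      ∀ (a : Γ(Y, W)) x, φ (a • x) = (g.appLE W W' e.ge).hom a • φ x := by
  subst e
  refine ⟨AddEquiv.refl _, fun a x => ?_⟩
  rw [Scheme.Hom.appLE_eq_app]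
  rfl

/-- Sections of isomorphic modules. -/
def secIso {T : TopCat.{u}} {R : Sheaf (Opens.grothendieckTopology T) CommRingCat.{u}} {M N : Mod R} (i : M ≅ N)
    (V : Opens T) : Sec M V ≃ₗ[O R V] Sec N V where
  toFun := app i.hom V
  invFun := app i.inv V
  left_inv s := by rw [← app_comp, i.hom_inv_id, app_id]
  right_inv s := by rw [← app_comp, i.inv_hom_id, app_id]
  map_add' := map_add _
  map_smul' := (app i.hom V).map_smul

section Push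

variable {𝔛 𝔜 : FSch.Sys.{u}} (f : 𝔛 ⟶ 𝔜) (h𝔛 : 𝔛.IsLocNoethFormal) (h𝔜 : 𝔜.IsLocNoethFormal)

/-- Sections of the direct image of a level. -/
def pushSec (n : ℕ) (N : (𝔛.X n).Modules) (U : (𝔛.X 0).Opens) :
    Γ(N, 𝔛.lvU h𝔛.1 n U) ≃+ Sec ((um h𝔛 n).push.obj N) U where
  toFun s := s
  invFun s := s
  left_inv _ := rfl
  right_inv _ := rfl
  map_add' _ _ := rfl

/-- The projection to sections of the level. -/
def prG (n : ℕ) (U : (𝔛.X 0).Opens) : O (𝔛.Osh h𝔛.1) U →+* Γ(𝔛.X n, 𝔛.lvU h𝔛.1 n U) := pr 𝔛 h𝔛.1 n U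

theorem pushSec_smul (n : ℕ) (N : (𝔛.X n).Modules) (U : (𝔛.X 0).Opens) (a : O (𝔛.Osh h𝔛.1) U)
    (s : Γ(N, 𝔛.lvU h𝔛.1 n U)) : pushSec h𝔛 n N U (prG h𝔛 n U a • s) = a • pushSec h𝔛 n N U s := rfl

theorem prG_shO (n : ℕ) (V : (𝔜.X 0).Opens) (a : O (𝔜.Osh h𝔜.1) V) :
    prG h𝔛 n (Push.pre f V) (Push.shO f h𝔛.1 h𝔜.1 V a) =
      (((f : FSch.Hom 𝔛 𝔜).app n).appLE (𝔜.lvU h𝔜.1 n V) (𝔛.lvU h𝔛.1 n (Push.pre f V))
        (FSch.Hom.lvU_preimage f h𝔛.1 h𝔜.1 n V).ge).hom (prG h𝔜 n V a) := Push.prO_shO f h𝔛.1 h𝔜.1 n V a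

/-- Finiteness of the sections of `f_* M` from that of `(f_n)_* (u_n)^* M`. -/
theorem finite_of_level (n : ℕ) {M : FSch.ModF 𝔛 h𝔛.1} (hM : KL h𝔛 n M) {V : (𝔜.X 0).Opens} (hV : IsAffineOpen V)
    (hf : Module.Finite Γ(𝔜.X n, 𝔜.lvU h𝔜.1 n V)
      Γ((Scheme.Modules.pushforward ((f : FSch.Hom 𝔛 𝔜).app n)).obj ((um h𝔛 n).pull.obj M), 𝔜.lvU h𝔜.1 n V)) :
    Module.Finite (O (𝔜.Osh h𝔜.1) V) (Sec ((FSch.pushF f h𝔛.1 h𝔜.1).obj M) V) := by
  obtain ⟨φ, hφ⟩ := exists_equiv ((um h𝔛 n).pull.obj M) ((f : FSch.Hom 𝔛 𝔜).app n) (𝔜.lvU h𝔜.1 n V)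
    (𝔛.lvU h𝔛.1 n (Push.pre f V)) (FSch.Hom.lvU_preimage f h𝔛.1 h𝔜.1 n V)
  refine (finite_iff_of_surjective (prG h𝔜 n V) (pr_surjective h𝔜 ((aff_iff h𝔜).2 hV) n)
    (((φ.trans (pushSec h𝔛 n _ _)).trans (secIso (isoPush h𝔛 n hM) _).symm.toAddEquiv).trans
      (Push.ofP f h𝔛.1 h𝔜.1).symm) fun a x => ?_).1 hf
  have h1 : pushSec h𝔛 n _ _ (φ (prG h𝔜 n V a • x)) =
      Push.shO f h𝔛.1 h𝔜.1 V a • pushSec h𝔛 n _ _ (φ x) := by
    rw [hφ, ← pushSec_smul, prG_shO]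
  have h2 : (secIso (isoPush h𝔛 n hM) (Push.pre f V)).symm (pushSec h𝔛 n _ _ (φ (prG h𝔜 n V a • x))) =
      Push.shO f h𝔛.1 h𝔜.1 V a • (secIso (isoPush h𝔛 n hM) (Push.pre f V)).symm (pushSec h𝔛 n _ _ (φ x)) := by
    rw [h1, LinearEquiv.map_smul]
  exact congrArg (Push.ofP f h𝔛.1 h𝔜.1).symm h2

include h𝔛 h𝔜 in
/-- `f_n` is proper if `f_0` is. -/
theorem isProper_level [IsProper ((f : FSch.Hom 𝔛 𝔜).app 0)] (n : ℕ) : IsProper ((f : FSch.Hom 𝔛 𝔜).app n) := by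
  have h1 := 𝔛.toX_isClosedImmersion h𝔛.1 n
  have h2 : Surjective (𝔛.toX n) := ⟨𝔛.toX_surjective h𝔛.1 n⟩
  have h3 := 𝔜.toX_isClosedImmersion h𝔜.1 n
  have h4 := h𝔛.2.2 n
  have h5 : IsProper (𝔛.toX n ≫ (f : FSch.Hom 𝔛 𝔜).app n) := by
    rw [FSch.Hom.toX_comm f n]
    infer_instance
  exact K919.ThickProper.isProper_of_thick (𝔛.toX n) _

/-- The direct image of a coherent torsion module along a pseudo-proper morphism is coherent. -/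
theorem isCohF_push [CompactSpace (𝔛.X 0)] [IsProper ((f : FSch.Hom 𝔛 𝔜).app 0)] {M : FSch.ModF 𝔛 h𝔛.1}
    (hM : FTors.IsQCT 𝔛 h𝔛.1 M) (hM' : FSch.IsCohF 𝔛 h𝔛.1 M) :
    FSch.IsCohF 𝔜 h𝔜.1 ((FSch.pushF f h𝔛.1 h𝔜.1).obj M) := by
  obtain ⟨n, hn⟩ := exists_kl h𝔛 hM' hM.1
  have h1 := isProper_level f h𝔛 h𝔜 n
  have h2 := h𝔜.2.2 n
  have h3 : Coh.IsCoh ((um h𝔛 n).pull.obj M : (𝔛.X n).Modules) :=
    ⟨isQuasicoherent_pull h𝔛 n hM hn, isFiniteType_pull h𝔛 n hM hn hM'⟩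
  have h4 := Groth.Agent.Pic13.H504.Push.isCoh_pushforward ((f : FSch.Hom 𝔛 𝔜).app n) _ h3
  have h5 := h4.1
  refine isCohF_of_qct h𝔜 (Push.qct_push f h𝔛 h𝔜 hM) fun x => ?_
  obtain ⟨V, hV, hxV, -⟩ := exists_isAffineOpen_mem_and_subset (X := 𝔜.X 0) (U := ⊤) (x := x) trivial
  refine ⟨V, hxV, hV, finite_of_level f h𝔛 h𝔜 n hn hV ?_⟩
  exact Groth.Agent.Ega1.QCohFinite.finite_sections _ h4.2 (isAffineOpen_lvU 𝔜 h𝔜.1 ((aff_iff h𝔜).2 hV) n)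

end Push

end K919.CohPush
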