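import Groth.Agent.FTors.K919.QCTCart
import Groth.Agent.FTors.K920.TorsMod
import Groth.Agent.Localalg.Frob2

/-!
# The torsion submodule of a quasi-coherent module is quasi-coherent

`qct_gamma`: for `M` quasi-coherent, `Γ' M` is a quasi-coherent torsion module.
-/

set_option autoImplicit false
set_option linter.style.haveILetI false

universe u

open CategoryTheory CategoryTheory.Limits AlgebraicGeometry TopologicalSpace Opposite TensorProduct

namespace K919.Gam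

open K919.AffBasic K919.AffFlat K919.AffD K919.Kill K919.Loc K919.LocGen K919.QCT K919.QCTCart K29.RSec
open K181.BC K181.Good K181.Formal

section Alg

variable {A B : Type*} [CommRing A] [CommRing B] {σ : A →+* B} {N P : Type*} [AddCommGroup N] [Module A N]
  [AddCommGroup P] [Module B P] {f : N →ₛₗ[σ] P}

/-- The annihilator of an element. -/
def ann (A : Type*) {N : Type*} [CommRing A] [AddCommGroup N] [Module A N] (n : N) : Ideal A :=
  LinearMap.ker (LinearMap.toSpanSingleton A N n)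

/-- An element dying in a flat base change is killed by elements generating the unit ideal. -/
theorem one_mem_map_ann (hσ : σ.Flat) (hf : IsBC σ f) (n : N) (hn : f n = 0) :
    (1 : B) ∈ (ann A n).map σ := by
  letI := σ.toAlgebra
  letI : Module A P := Module.compHom P σ
  haveI : IsScalarTower A B P := IsScalarTower.of_algebraMap_smul fun _ _ => rfl
  haveI : Module.Flat A B := (RingHom.flat_algebraMap_iff (R := A) (S := B)).1 hσ
  have hex : Function.Exact (LinearMap.ker (LinearMap.toSpanSingleton A N n)).subtype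
      (LinearMap.toSpanSingleton A N n) := fun x =>
    ⟨fun hx => ⟨⟨x, hx⟩, rfl⟩, by rintro ⟨y, rfl⟩; exact y.2⟩
  have hex' := Module.Flat.lTensor_exact B hex
  have h1 : (LinearMap.toSpanSingleton A N n).lTensor B ((1 : B) ⊗ₜ[A] (1 : A)) = 0 := by
    refine (hf.out rfl).1 ?_
    rw [map_zero, LinearMap.lTensor_tmul, bc_tmul, one_smul, LinearMap.toSpanSingleton_apply, one_smul]
    exact hn
  obtain ⟨y, hy⟩ := (hex' _).1 h1
  have h2 : ∀ y : B ⊗[A] (LinearMap.ker (LinearMap.toSpanSingleton A N n)),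
      TensorProduct.rid A B ((LinearMap.ker (LinearMap.toSpanSingleton A N n)).subtype.lTensor B y) ∈
        (ann A n).map σ := by
    intro y
    induction y using TensorProduct.induction_on with
    | zero => rw [map_zero, map_zero]; exact zero_mem _
    | tmul b c =>
      rw [LinearMap.lTensor_tmul, TensorProduct.rid_tmul, Submodule.subtype_apply, Algebra.smul_def, mul_comm]
      exact Ideal.mul_mem_left _ _ (Ideal.mem_map_of_mem _ c.2)
    | add x y hx hy => rw [map_add, map_add]; exact add_mem hx hy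
  have h3 := h2 y
  rw [hy, TensorProduct.rid_tmul, one_smul] at h3
  exact h3

/-- Elements of a flat base change killed by a finitely generated ideal come from elements killed by it. -/
theorem mem_span_torsion (hσ : σ.Flat) (hf : IsBC σ f) (I : Ideal A) (hI : I.FG) (p : P)
    (hp : ∀ a ∈ I, σ a • p = 0) : p ∈ Submodule.span B (f '' {n | ∀ a ∈ I, a • n = 0}) := by
  letI := σ.toAlgebra
  letI : Module A P := Module.compHom P σ
  haveI : IsScalarTower A B P := IsScalarTower.of_algebraMap_smul fun _ _ => rfl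
  haveI : Module.Flat A B := (RingHom.flat_algebraMap_iff (R := A) (S := B)).1 hσ
  obtain ⟨y, rfl⟩ := (hf.out rfl).2 p
  have h1 : ∀ a ∈ I, a • y = 0 := by
    intro a ha
    refine (hf.out rfl).1 ?_
    rw [map_smul, map_zero]
    exact hp a ha
  obtain ⟨z, rfl⟩ := Groth.Agent.Localalg.Frob.mem_range_lTensor_torsion I hI y h1
  clear h1 hp
  induction z using TensorProduct.induction_on with
  | zero => rw [map_zero, map_zero]; exact zero_mem _
  | tmul b c =>
    rw [LinearMap.lTensor_tmul, bc_tmul]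
    refine Submodule.smul_mem _ _ (Submodule.subset_span ⟨c.1, fun a ha => ?_, rfl⟩)
    exact (Submodule.mem_torsionBySet_iff _ _).1 c.2 ⟨a, ha⟩
  | add x y hx hy =>
    rw [map_add, map_add]
    exact add_mem hx hy

end Alg

section Geom

variable {𝔛 : FSch.Sys.{u}} (h𝔛 : 𝔛.IsLocNoethFormal) {M : FSch.ModF 𝔛 h𝔛.1}

/-- The inclusion of the torsion submodule on sections. -/
theorem app_gammaι (V : (𝔛.X 0).Opens) (s : Sec M V)
    (hs : FTors.IsTorsSect (FTors.openIdealFam 𝔛 h𝔛.1) M (U := V) s) :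
    app ((FTors.gammaTι 𝔛 h𝔛.1).app M) V (⟨s, hs⟩ : FTors.torsSub (FTors.openIdealFam 𝔛 h𝔛.1) M V) = s := rfl

theorem gammaι_injective (V : (𝔛.X 0).Opens) :
    Function.Injective (app ((FTors.gammaTι 𝔛 h𝔛.1).app M) V) := fun _ _ h => Subtype.ext h

variable {V : (𝔛.X 0).Opens} (hV : IsAffineOpen V) (hM : Cart (fcov h𝔛) M V) (a : O (𝔛.Osh h𝔛.1) V)

include hV

theorem flat_Do : (resO (R := 𝔛.Osh h𝔛.1) (Do_le h𝔛 a)).Flat :=
  (fcov h𝔛).flat (Do_le h𝔛 a) hV ((aff_iff h𝔛).1 (isAffineOpen_Do h𝔛 ((aff_iff h𝔛).2 hV) a))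

include hM

theorem isBC_Do : IsBC (resO (Do_le h𝔛 a)) (resS M (Do_le h𝔛 a)) :=
  Cart.isBC hM hM.mem le_rfl ((aff_iff h𝔛).1 (isAffineOpen_Do h𝔛 ((aff_iff h𝔛).2 hV) a)) (Do_le h𝔛 a)

/-- A section killed by an open ideal and vanishing on `D(a)` is killed by a power of `a`. -/
theorem kill {q : ℕ} {s : Sec M V} (hs : KB M q s) (h0 : res M (Do_le h𝔛 a) s = 0) : ∃ n : ℕ, a ^ n • s = 0 := by
  have hV' := (aff_iff h𝔛).2 hV
  have h1 := one_mem_map_ann (flat_Do h𝔛 hV a) (isBC_Do h𝔛 hV hM a) s h0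
  have h2 : ∀ b ∈ (ann (O (𝔛.Osh h𝔛.1) V) s).map (resO (R := 𝔛.Osh h𝔛.1) (Do_le h𝔛 a)),
      ∃ (m : ℕ) (g : O (𝔛.Osh h𝔛.1) V), g • s = 0 ∧
        prO q (Do h𝔛 a) (resO (Do_le h𝔛 a) a ^ m * b) = prO q (Do h𝔛 a) (resO (Do_le h𝔛 a) g) := by
    intro b hb
    induction hb using Submodule.span_induction with
    | mem x hx =>
      obtain ⟨c, hc, rfl⟩ := hx
      exact ⟨0, c, hc, by rw [pow_zero, one_mul]⟩
    | zero => exact ⟨0, 0, zero_smul _ _, by rw [mul_zero, map_zero, map_zero, map_zero]⟩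
    | add x y _ _ hx hy =>
      obtain ⟨m, g, hg, h⟩ := hx
      obtain ⟨m', g', hg', h'⟩ := hy
      refine ⟨m + m', a ^ m' * g + a ^ m * g', by rw [add_smul, mul_smul, mul_smul, hg, hg', smul_zero, smul_zero,
        add_zero], ?_⟩
      have e : resO (R := 𝔛.Osh h𝔛.1) (Do_le h𝔛 a) a ^ (m + m') * (x + y) =
        resO (Do_le h𝔛 a) (a ^ m') * (resO (Do_le h𝔛 a) a ^ m * x) +
          resO (Do_le h𝔛 a) (a ^ m) * (resO (Do_le h𝔛 a) a ^ m' * y) := by
        rw [map_pow, map_pow]; ring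
      have e1 : prO q (Do h𝔛 a) (resO (Do_le h𝔛 a) (a ^ m') * (resO (Do_le h𝔛 a) a ^ m * x)) =
          prO q (Do h𝔛 a) (resO (Do_le h𝔛 a) (a ^ m' * g)) := by
        rw [map_mul, h, ← map_mul, ← map_mul]
      have e2 : prO q (Do h𝔛 a) (resO (Do_le h𝔛 a) (a ^ m) * (resO (Do_le h𝔛 a) a ^ m' * y)) =
          prO q (Do h𝔛 a) (resO (Do_le h𝔛 a) (a ^ m * g')) := by
        rw [map_mul, h', ← map_mul, ← map_mul]
      rw [e, map_add, e1, e2, ← map_add, ← map_add]
    | smul b x _ hx =>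
      obtain ⟨m, g, hg, h⟩ := hx
      obtain ⟨m', g', h'⟩ := exists_lift h𝔛 hV' a q b
      refine ⟨m' + m, g' * g, by rw [mul_smul, hg, smul_zero], ?_⟩
      have e : resO (R := 𝔛.Osh h𝔛.1) (Do_le h𝔛 a) a ^ (m' + m) * (b • x) =
        (resO (Do_le h𝔛 a) a ^ m' * b) * (resO (Do_le h𝔛 a) a ^ m * x) := by
        rw [smul_eq_mul]; ring
      rw [e, map_mul, h, h', map_mul, map_mul]
  obtain ⟨m, g, hg, h⟩ := h2 _ h1
  have h3 : prO q (Do h𝔛 a) (resO (Do_le h𝔛 a) (a ^ m - g)) = 0 := by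
    rw [map_sub, map_sub, ← h, mul_one, map_pow, sub_self]
  obtain ⟨k, hk⟩ := exists_kill h𝔛 hV' a q _ h3
  refine ⟨k + m, ?_⟩
  have h4 := (kb_iff h𝔛 hV' M q s).1 hs _ hk
  rw [mul_sub, sub_smul, mul_smul, mul_smul, hg, smul_zero, sub_zero] at h4
  rw [pow_add, mul_smul, h4]

/-- A section over `D(a)` killed by an open ideal extends, up to a power of `a`, to a section killed by it. -/
theorem ext {q : ℕ} {t : Sec M (Do h𝔛 a)} (ht : KB M q t) :
    ∃ (n : ℕ) (s : Sec M V), KB M q s ∧ res M (Do_le h𝔛 a) s = resO (Do_le h𝔛 a) a ^ n • t := by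
  have hV' := (aff_iff h𝔛).2 hV
  have hN : IsNoetherianRing (O (𝔛.Osh h𝔛.1) V) := isNoetherianRing_O h𝔛 hV
  have h1 := mem_span_torsion (flat_Do h𝔛 hV a) (isBC_Do h𝔛 hV hM a) (RingHom.ker (prO (h := h𝔛.1) q V))
    (IsNoetherian.noetherian _) t (fun x hx => by
      have h := ht (Do h𝔛 a) le_rfl (resO (Do_le h𝔛 a) x) (by rw [prO_resO, (RingHom.mem_ker).1 hx, map_zero])
      rwa [res_self] at h)
  clear ht
  induction h1 using Submodule.span_induction with
  | mem x hx =>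
    obtain ⟨s, hs, rfl⟩ := hx
    refine ⟨0, s, (kb_iff h𝔛 hV' M q s).2 fun x hx => hs x hx, ?_⟩
    rw [pow_zero, one_smul]
    rfl
  | zero => exact ⟨0, 0, kb_zero M q V, by rw [map_zero, smul_zero]⟩
  | add x y _ _ hx hy =>
    obtain ⟨n, s, hs, h⟩ := hx
    obtain ⟨m, s', hs', h'⟩ := hy
    refine ⟨n + m, a ^ m • s + a ^ n • s', (hs.smul _).add (hs'.smul _), ?_⟩
    rw [map_add, res_smul, res_smul, h, h', smul_add, map_pow, map_pow, ← mul_smul, ← mul_smul, ← pow_add,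
      ← pow_add, add_comm m n]
  | smul b x _ hx =>
    obtain ⟨n, s, hs, h⟩ := hx
    obtain ⟨m, g, hg⟩ := exists_lift h𝔛 hV' a q b
    refine ⟨m + n, g • s, hs.smul _, ?_⟩
    have h2 := res_smul_eq h𝔛 (hs.res (Do_le h𝔛 a)) hg
    rw [res_smul, ← h2, h, pow_add, mul_smul, mul_smul, smul_comm b]

/-- The sections of `Γ' M` over an affine open on which `M` is cartesian, at `a`. -/
theorem locOn_gamma : LocOn ((FTors.gammaT 𝔛 h𝔛.1).obj M) a (Do h𝔛 a) (Do_le h𝔛 a) := by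
  have hV' := (aff_iff h𝔛).2 hV
  have hc : IsCompact (Do h𝔛 a : Set (𝔛.X 0)) := isCompact_Do h𝔛 hV' a
  constructor
  · intro s hs
    obtain ⟨q, hq⟩ := exists_kb hV.isCompact (app ((FTors.gammaTι 𝔛 h𝔛.1).app M) V s)
      (FTors.IsTorsSect.hom _ (K920.TorsMod.isTors_gamma _ M V s))
    have h0 : res M (Do_le h𝔛 a) (app ((FTors.gammaTι 𝔛 h𝔛.1).app M) V s) = 0 := by
      have := congrArg (app ((FTors.gammaTι 𝔛 h𝔛.1).app M) (Do h𝔛 a)) hs
      rw [app_res, map_zero] at this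
      exact this
    obtain ⟨n, hn⟩ := kill h𝔛 hV hM a hq h0
    refine ⟨n, gammaι_injective h𝔛 V ?_⟩
    rw [map_smul, map_zero]
    exact hn
  · intro t
    obtain ⟨q, hq⟩ := exists_kb hc (app ((FTors.gammaTι 𝔛 h𝔛.1).app M) _ t)
      (FTors.IsTorsSect.hom _ (K920.TorsMod.isTors_gamma _ M _ t))
    obtain ⟨n, s, hs, h⟩ := ext h𝔛 hV hM a hq
    have hs' : FTors.IsTorsSect (FTors.openIdealFam 𝔛 h𝔛.1) M (U := V) s :=
      FTors.IsTorsSect.of_killedBy ((kb_iff_killedBy M q s).1 hs)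
    refine ⟨n, (⟨s, hs'⟩ : FTors.torsSub (FTors.openIdealFam 𝔛 h𝔛.1) M V), gammaι_injective h𝔛 _ ?_⟩
    rw [app_res, map_smul]
    exact h

end Geom

section Main

variable {𝔛 : FSch.Sys.{u}} (h𝔛 : 𝔛.IsLocNoethFormal)

theorem isTorsF_gamma (M : FSch.ModF 𝔛 h𝔛.1) : FTors.IsTorsF 𝔛 h𝔛.1 ((FTors.gammaT 𝔛 h𝔛.1).obj M) :=
  K920.TorsMod.isTors_gamma _ M

theorem lc_gamma {M : FSch.ModF 𝔛 h𝔛.1} {U : (𝔛.X 0).Opens} (hM : Cart (fcov h𝔛) M U) :
    LC h𝔛 ((FTors.gammaT 𝔛 h𝔛.1).obj M) U := fun _ hV hVa a =>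
  locOn_gamma h𝔛 ((aff_iff h𝔛).1 hVa) (hM.mono ((aff_iff h𝔛).1 hVa) hV) a

/-- The torsion submodule of a quasi-coherent module is quasi-coherent torsion. -/
theorem qct_gamma {M : FSch.ModF 𝔛 h𝔛.1} (hM : SheafOfModules.IsQuasicoherent.{u} M) :
    FTors.IsQCT 𝔛 h𝔛.1 ((FTors.gammaT 𝔛 h𝔛.1).obj M) := by
  rw [isQCT_iff_local h𝔛]
  refine ⟨isTorsF_gamma h𝔛 M, fun x => ?_⟩
  obtain ⟨U, hxU, hU⟩ := (qc_iff (fcov h𝔛) M).1 hM x
  exact ⟨U, hxU, lc_gamma h𝔛 hU⟩

end Main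

end K919.Gam
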