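import Groth.Agent.FTors.K919.SerreTors

/-!
# Vanishing of `H¹` on affine opens for cartesian modules, elementwise
-/

set_option autoImplicit false

universe u v w

open CategoryTheory CategoryTheory.Limits AlgebraicGeometry TopologicalSpace Opposite
open scoped ZeroObject

namespace K919.H1

open K919.AffBasic K919.AffFlat K919.AffD K919.Kill K919.Loc K919.LocGen K919.QCT K29.RSec K29.RExact

variable {𝔛 : FSch.Sys.{u}} (h𝔛 : 𝔛.IsLocNoethFormal)

/-- Sections of a quotient by a cartesian module lift over affine opens. -/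
theorem surjective_app (S : ShortComplex (FSch.ModF 𝔛 h𝔛.1)) (hS : S.ShortExact)
    {U : (𝔛.X 0).Opens} (hU : IsAffineOpen (𝔛.lvU h𝔛.1 0 U)) (h1 : LC h𝔛 S.X₁ U) :
    Function.Surjective (app S.g U) := by
  classical
  have := hS.mono_f
  have := hS.epi_g
  have hinj := fun V => (mono_iff_app S.f).1 inferInstance V
  have hfg : ∀ (V : (𝔛.X 0).Opens) (m : Sec S.X₁ V), app S.g V (app S.f V m) = 0 := fun V m => by
    rw [← app_comp, S.zero]; rfl
  intro t
  -- local lifts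
  obtain ⟨k, b, hc, hb⟩ := exists_finite_cover h𝔛 (isCompact_of_affine h𝔛 hU)
    (fun b => ∃ s : Sec S.X₂ (Do h𝔛 b), app S.g _ s = res S.X₃ (Do_le h𝔛 b) t) (by
    intro x hx
    obtain ⟨W, hxW, hW, s, hs⟩ := (epi_iff_local S.g).1 inferInstance U t x hx
    obtain ⟨b, hxb, hb⟩ := exists_Do h𝔛 hU hW hxW
    exact ⟨b, hxb, res _ hb s, by rw [app_res, hs, res_res]⟩)
  choose s hs using hb
  let V : Fin k → (𝔛.X 0).Opens := fun i => Do h𝔛 (b i)
  have hV : ∀ i, V i ≤ U := fun i => Do_le h𝔛 (b i)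
  have hVa : ∀ i, IsAffineOpen (𝔛.lvU h𝔛.1 0 (V i)) := fun i => isAffineOpen_Do h𝔛 hU (b i)
  have hVVa : ∀ i j, IsAffineOpen (𝔛.lvU h𝔛.1 0 (V i ⊓ V j)) := fun i j => by
    have := isAffineOpen_Do h𝔛 hU (b i * b j)
    rwa [Do_mul] at this
  -- differences
  have h2 : ∀ i j, ∃ m : Sec S.X₁ (V i ⊓ V j), app S.f _ m =
      res S.X₂ (inf_le_left : V i ⊓ V j ≤ V i) (s i) - res S.X₂ (inf_le_right : V i ⊓ V j ≤ V j) (s j) := by
    intro i j
    apply exists_app_of_exact S hS.exact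
    rw [map_sub, app_res, app_res, hs, hs, res_res, res_res, sub_self]
  choose m hm using h2
  -- numerators
  have h3 : ∀ i l, ∃ (n : ℕ) (y : Sec S.X₁ (V i)), res S.X₁ (inf_le_left : V i ⊓ V l ≤ V i) y =
      resO (inf_le_left.trans (hV i) : V i ⊓ V l ≤ U) (b l) ^ n • m i l := by
    intro i l
    obtain ⟨n, y, hy⟩ := (locOn_congr h𝔛 (resO (hV i) (b l)) (Do_le h𝔛 _) (inf_le_left : V i ⊓ V l ≤ V i)
      (Do_resO h𝔛 (hV i) (b l)) (h1 (V i) (hV i) (hVa i) (resO (hV i) (b l)))).2 (m i l)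
    exact ⟨n, y, by rw [hy, resO_resO]⟩
  choose n0 y0 hy0 using h3
  obtain ⟨N, y, hy⟩ : ∃ (N : ℕ) (y : ∀ (i l : Fin k), Sec S.X₁ (V i)), ∀ i l,
      res S.X₁ (inf_le_left : V i ⊓ V l ≤ V i) (y i l) =
      resO (inf_le_left.trans (hV i) : V i ⊓ V l ≤ U) (b l) ^ N • m i l := by
    let L := Finset.univ.sup fun i => Finset.univ.sup (n0 i)
    have hL : ∀ i j, n0 i j ≤ L := fun i j => (Finset.le_sup (f := n0 i) (Finset.mem_univ j)).trans
      (Finset.le_sup (f := fun i => Finset.univ.sup (n0 i)) (Finset.mem_univ i))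
    refine ⟨L, fun i l => resO (hV i) (b l) ^ (L - n0 i l) • y0 i l, fun i l => ?_⟩
    rw [res_smul, hy0, map_pow, resO_resO, ← mul_smul, ← pow_add, Nat.sub_add_cancel (hL i l)]
  -- the cocycle relation up to powers
  have h4 : ∀ i j l, ∃ K : ℕ, resO (inf_le_left.trans (hV i) : V i ⊓ V j ≤ U) (b l) ^ K •
      (res S.X₁ (inf_le_left : V i ⊓ V j ≤ V i) (y i l) - res S.X₁ (inf_le_right : V i ⊓ V j ≤ V j) (y j l) -
        resO (inf_le_left.trans (hV i) : V i ⊓ V j ≤ U) (b l) ^ N • m i j) = 0 := by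
    intro i j l
    refine (locOn_congr h𝔛 (resO (inf_le_left.trans (hV i) : V i ⊓ V j ≤ U) (b l)) (Do_le h𝔛 _)
      (inf_le_left : V i ⊓ V j ⊓ V l ≤ V i ⊓ V j) (Do_resO h𝔛 _ (b l))
      (h1 (V i ⊓ V j) (inf_le_left.trans (hV i)) (hVVa i j) _)).1 _ ?_
    apply hinj
    have e1 := congrArg (fun z => app S.f _ (res S.X₁ (le_inf (inf_le_left.trans inf_le_left) inf_le_right :
      V i ⊓ V j ⊓ V l ≤ V i ⊓ V l) z)) (hy i l)
    have e2 := congrArg (fun z => app S.f _ (res S.X₁ (le_inf (inf_le_left.trans inf_le_right) inf_le_right :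
      V i ⊓ V j ⊓ V l ≤ V j ⊓ V l) z)) (hy j l)
    simp only [res_res, res_smul, map_pow, resO_resO, map_smul, app_res, hm, map_sub] at e1 e2
    simp only [map_sub, res_res, res_smul, map_pow, resO_resO, app_res, map_smul, hm, map_zero, smul_sub]
    rw [e1, e2, smul_sub, smul_sub]
    abel
  choose K0 hK0 using h4
  obtain ⟨N', y', hy'⟩ : ∃ (N' : ℕ) (y' : ∀ (i l : Fin k), Sec S.X₁ (V i)), ∀ i j l,
      res S.X₁ (inf_le_left : V i ⊓ V j ≤ V i) (y' i l) - res S.X₁ (inf_le_right : V i ⊓ V j ≤ V j) (y' j l) =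
        resO (inf_le_left.trans (hV i) : V i ⊓ V j ≤ U) (b l) ^ N' • m i j := by
    let L := Finset.univ.sup fun i => Finset.univ.sup fun j => Finset.univ.sup (K0 i j)
    have hL : ∀ i j l, K0 i j l ≤ L := fun i j l => ((Finset.le_sup (f := K0 i j) (Finset.mem_univ l)).trans
      (Finset.le_sup (f := fun j => Finset.univ.sup (K0 i j)) (Finset.mem_univ j))).trans
      (Finset.le_sup (f := fun i => Finset.univ.sup fun j => Finset.univ.sup (K0 i j)) (Finset.mem_univ i))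
    refine ⟨L + N, fun i l => resO (hV i) (b l) ^ L • y i l, fun i j l => ?_⟩
    have e := pow_smul_eq_zero_of_le (hL i j l) (hK0 i j l)
    rw [smul_sub, smul_sub, sub_eq_zero] at e
    rw [res_smul, res_smul, map_pow, map_pow, resO_resO, resO_resO, e, ← mul_smul, pow_add]
  -- partition of unity
  have h5 : (1 : O (𝔛.Osh h𝔛.1) U) ∈ Ideal.span (Set.range fun i => b i ^ N') := by
    rw [span_eq_top h𝔛 hU (fun i => b i ^ N') (fun x hx => by
      obtain ⟨i, hi⟩ := Opens.mem_iSup.1 (hc hx)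
      exact Opens.mem_iSup.2 ⟨i, le_Do_pow h𝔛 _ _ hi⟩)]
    exact Submodule.mem_top
  rw [Ideal.mem_span_range_iff_exists_fun] at h5
  obtain ⟨c, hc'⟩ := h5
  let z : ∀ i, Sec S.X₁ (V i) := fun i => ∑ l, resO (hV i) (c l) • y' i l
  have hz : ∀ i j, res S.X₁ (inf_le_left : V i ⊓ V j ≤ V i) (z i) -
      res S.X₁ (inf_le_right : V i ⊓ V j ≤ V j) (z j) = m i j := by
    intro i j
    change res S.X₁ _ (∑ l, resO (hV i) (c l) • y' i l) - res S.X₁ _ (∑ l, resO (hV j) (c l) • y' j l) = _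
    rw [map_sum, map_sum, ← Finset.sum_sub_distrib]
    have e : ∀ l, res S.X₁ (inf_le_left : V i ⊓ V j ≤ V i) (resO (hV i) (c l) • y' i l) -
        res S.X₁ (inf_le_right : V i ⊓ V j ≤ V j) (resO (hV j) (c l) • y' j l) =
        resO (inf_le_left.trans (hV i) : V i ⊓ V j ≤ U) (c l * b l ^ N') • m i j := by
      intro l
      rw [res_smul, res_smul, resO_resO, resO_resO, ← smul_sub, hy' i j l, ← mul_smul, map_mul, map_pow]
    rw [Finset.sum_congr rfl fun l _ => e l, ← Finset.sum_smul, ← map_sum, hc', map_one, one_smul]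
  obtain ⟨u, hu⟩ := exists_glue S.X₂ V U hc hV (fun i => s i - app S.f _ (z i)) (by
    intro i j W hi hj
    have e := congrArg (fun z => res S.X₂ (le_inf hi hj) (app S.f _ z)) (hz i j)
    simp only [map_sub, hm, app_res, res_res] at e
    rw [map_sub, map_sub, sub_eq_sub_iff_sub_eq_sub]
    exact e.symm)
  refine ⟨u, eq_of_locally S.X₃ V U hc hV _ _ fun i => ?_⟩
  rw [← app_res, hu, map_sub, hfg, sub_zero, hs]

end K919.H1
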