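import Groth.Prelude.Def_FTors2
import Groth.Agent.FTors.K919.AffD

/-!
# Sections killed by open ideals

`KB M n s`: the section `s` is killed by the `n`-th open ideal.
-/

set_option autoImplicit false

universe u

open CategoryTheory CategoryTheory.Limits AlgebraicGeometry TopologicalSpace Opposite

namespace K919.Kill

open K919.AffBasic K919.AffFlat K919.AffD K29.RSec

variable {𝔛 : FSch.Sys.{u}} {h : 𝔛.IsFormal}

/-- The projection to the `n`-th level, on `K29.RSec.O`. -/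
noncomputable def prO (n : ℕ) (V : (𝔛.X 0).Opens) : O (𝔛.Osh h) V →+* LU 𝔛 h n V := pr 𝔛 h n V

theorem prO_resO (n : ℕ) {U V : (𝔛.X 0).Opens} (i : V ≤ U) (x : O (𝔛.Osh h) U) :
    prO n V (resO i x) = rsL 𝔛 h n i (prO n U x) := pr_rs 𝔛 h n i x

/-- `s` is killed by the `n`-th open ideal. -/
def KB (M : FSch.ModF 𝔛 h) (n : ℕ) {V : (𝔛.X 0).Opens} (s : Sec M V) : Prop :=
  ∀ (W : (𝔛.X 0).Opens) (hW : W ≤ V) (a : O (𝔛.Osh h) W), prO n W a = 0 → a • res M hW s = 0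

theorem kb_iff_killedBy (M : FSch.ModF 𝔛 h) (n : ℕ) {V : (𝔛.X 0).Opens} (s : Sec M V) :
    KB M n s ↔ FTors.KilledBy (FTors.openIdealFam 𝔛 h) M n (V := V) s :=
  ⟨fun hs _ g a ha => hs _ (leOfHom g) a ha, fun hs _ hW a ha => hs (homOfLE hW) a ha⟩

theorem KB.res {M : FSch.ModF 𝔛 h} {n : ℕ} {V W : (𝔛.X 0).Opens} {s : Sec M V} (hs : KB M n s)
    (hW : W ≤ V) : KB M n (res M hW s) := by
  intro W' hW' a ha
  rw [res_res]
  exact hs _ _ a ha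

theorem prO_tr (n : ℕ) {V : (𝔛.X 0).Opens} (a : O (𝔛.Osh h) V) :
    tr 𝔛 h n V (prO (n + 1) V a) = prO n V a := tr_pr 𝔛 h n V a

theorem prO_zero_of_le {n m : ℕ} (hnm : n ≤ m) {V : (𝔛.X 0).Opens} {a : O (𝔛.Osh h) V}
    (ha : prO m V a = 0) : prO n V a = 0 := by
  induction m, hnm using Nat.le_induction with
  | base => exact ha
  | succ m _ ih => exact ih (by rw [← prO_tr, ha, map_zero])

theorem KB.mono {M : FSch.ModF 𝔛 h} {n m : ℕ} (hnm : n ≤ m) {V : (𝔛.X 0).Opens} {s : Sec M V}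
    (hs : KB M n s) : KB M m s :=
  fun W hW a ha => hs W hW a (prO_zero_of_le hnm ha)

theorem kb_zero (M : FSch.ModF 𝔛 h) (n : ℕ) (V : (𝔛.X 0).Opens) : KB M n (0 : Sec M V) :=
  fun W hW a _ => by rw [map_zero, smul_zero]

theorem KB.add {M : FSch.ModF 𝔛 h} {n : ℕ} {V : (𝔛.X 0).Opens} {s t : Sec M V}
    (hs : KB M n s) (ht : KB M n t) : KB M n (s + t) := fun W hW a ha => by
  rw [map_add, smul_add, hs W hW a ha, ht W hW a ha, add_zero]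

theorem KB.smul {M : FSch.ModF 𝔛 h} {n : ℕ} {V : (𝔛.X 0).Opens} {s : Sec M V}
    (hs : KB M n s) (r : O (𝔛.Osh h) V) : KB M n (r • s) := fun W hW a ha => by
  rw [res_smul, ← mul_smul, mul_comm, mul_smul, hs W hW a ha, smul_zero]

theorem KB.neg {M : FSch.ModF 𝔛 h} {n : ℕ} {V : (𝔛.X 0).Opens} {s : Sec M V}
    (hs : KB M n s) : KB M n (-s) := fun W hW a ha => by
  rw [map_neg, smul_neg, hs W hW a ha, neg_zero]

theorem KB.sub {M : FSch.ModF 𝔛 h} {n : ℕ} {V : (𝔛.X 0).Opens} {s t : Sec M V}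
    (hs : KB M n s) (ht : KB M n t) : KB M n (s - t) := by
  rw [sub_eq_add_neg]; exact hs.add ht.neg

theorem KB.app {M N : FSch.ModF 𝔛 h} (φ : M ⟶ N) {n : ℕ} {V : (𝔛.X 0).Opens} {s : Sec M V}
    (hs : KB M n s) : KB N n (app φ V s) := fun W hW a ha => by
  rw [← app_res, ← map_smul, hs W hW a ha, map_zero]

/-- Being killed by the `n`-th open ideal is local. -/
theorem kb_of_local {M : FSch.ModF 𝔛 h} {n : ℕ} {V : (𝔛.X 0).Opens} {s : Sec M V}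
    (hs : ∀ x ∈ V, ∃ (W : (𝔛.X 0).Opens) (_ : x ∈ W) (hW : W ≤ V), KB M n (res M hW s)) : KB M n s := by
  intro W hW a ha
  refine eq_of_forall_nhds M _ _ fun x hx => ?_
  obtain ⟨V', hxV', hV', hk⟩ := hs x (hW hx)
  refine ⟨V' ⊓ W, ⟨hxV', hx⟩, inf_le_right, ?_⟩
  have h1 := hk (V' ⊓ W) inf_le_left (resO inf_le_right a) (by rw [prO_resO, ha, map_zero])
  rw [res_res] at h1
  rw [res_smul, res_res, map_zero, h1]

/-- A torsion section over a quasi-compact open is killed by an open ideal. -/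
theorem exists_kb {M : FSch.ModF 𝔛 h} {V : (𝔛.X 0).Opens} (hV : IsCompact (V : Set (𝔛.X 0)))
    (s : Sec M V) (hs : FTors.IsTorsSect (FTors.openIdealFam 𝔛 h) M (U := V) s) : ∃ n, KB M n s := by
  have h1 : ∀ x ∈ V, ∃ (W : (𝔛.X 0).Opens) (_ : x ∈ W) (hW : W ≤ V) (n : ℕ), KB M n (res M hW s) := by
    intro x hx
    obtain ⟨W, f, ⟨n, hn⟩, hxW⟩ := hs x hx
    exact ⟨W, hxW, leOfHom f, n, (kb_iff_killedBy M n _).2 hn⟩
  choose W hx hW n hn using h1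
  obtain ⟨t, ht⟩ := hV.elim_finite_subcover (fun x : V => ((W x.1 x.2 : (𝔛.X 0).Opens) : Set (𝔛.X 0)))
    (fun x => (W x.1 x.2).isOpen) (fun x hxV => Set.mem_iUnion.2 ⟨⟨x, hxV⟩, hx x hxV⟩)
  refine ⟨t.sup fun x => n x.1 x.2, kb_of_local fun x hxV => ?_⟩
  obtain ⟨y, hy⟩ := Set.mem_iUnion.1 (ht hxV)
  obtain ⟨hy1, hy2⟩ := Set.mem_iUnion.1 hy
  exact ⟨W y.1 y.2, hy2, hW y.1 y.2, (hn y.1 y.2).mono (Finset.le_sup (f := fun x : V => n x.1 x.2) hy1)⟩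

theorem isTorsSect_of_local {M : FSch.ModF 𝔛 h} {V : (𝔛.X 0).Opens} (s : Sec M V)
    (hs : ∀ x ∈ V, ∃ (W : (𝔛.X 0).Opens) (_ : x ∈ W) (hW : W ≤ V) (n : ℕ), KB M n (res M hW s)) :
    FTors.IsTorsSect (FTors.openIdealFam 𝔛 h) M (U := V) s := by
  intro x hx
  obtain ⟨W, hxW, hW, n, hn⟩ := hs x hx
  exact ⟨W, homOfLE hW, ⟨n, (kb_iff_killedBy M n _).1 hn⟩, hxW⟩

theorem isTorsF_iff (M : FSch.ModF 𝔛 h) : FTors.IsTorsF 𝔛 h M ↔
    ∀ (V : (𝔛.X 0).Opens) (s : Sec M V), ∀ x ∈ V, ∃ (W : (𝔛.X 0).Opens) (_ : x ∈ W) (hW : W ≤ V) (n : ℕ),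
      KB M n (res M hW s) := by
  refine ⟨fun hM V s x hx => ?_, fun hM V s => isTorsSect_of_local s (hM V s)⟩
  obtain ⟨W, f, ⟨n, hn⟩, hxW⟩ := hM V s x hx
  exact ⟨W, hxW, leOfHom f, n, (kb_iff_killedBy M n _).2 hn⟩

section Affine

variable (h𝔛 : 𝔛.IsLocNoethFormal) {U : (𝔛.X 0).Opens} (hU : IsAffineOpen (𝔛.lvU h𝔛.1 0 U))

include hU

theorem ker_prO (n : ℕ) : RingHom.ker (prO (h := h𝔛.1) n U) = II 𝔛 h𝔛.1 U ^ (n + 1) := ker_pr h𝔛 hU n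

/-- On an affine open, being killed is tested on global elements of the ideal. -/
theorem kb_iff (M : FSch.ModF 𝔛 h𝔛.1) (n : ℕ) (s : Sec M U) :
    KB M n s ↔ ∀ a : O (𝔛.Osh h𝔛.1) U, prO n U a = 0 → a • s = 0 := by
  refine ⟨fun hs a ha => by simpa [res_self] using hs U le_rfl a ha, fun hs W hW a ha => ?_⟩
  refine eq_of_forall_nhds M _ _ fun x hx => ?_
  obtain ⟨b, hxb, hb⟩ := exists_D h𝔛 hU hW hx
  refine ⟨D 𝔛 h𝔛.1 b, hxb, hb, ?_⟩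
  rw [res_smul, res_res, map_zero]
  have h1 : resO (R := 𝔛.Osh h𝔛.1) hb a ∈ RingHom.ker (prO (h := h𝔛.1) n (D 𝔛 h𝔛.1 b)) := by
    rw [RingHom.mem_ker, prO_resO, ha, map_zero]
  rw [ker_prO h𝔛 (isAffineOpen_D h𝔛 hU b), ← map_II h𝔛 hU (isAffineOpen_D h𝔛 hU b) (D_le 𝔛 h𝔛.1 b),
    ← Ideal.map_pow, ← ker_pr h𝔛 hU n] at h1
  have h2 : Ideal.map (rs 𝔛 h𝔛.1 (D_le 𝔛 h𝔛.1 b)) (RingHom.ker (pr 𝔛 h𝔛.1 n U)) ≤
      (show Ideal (OU 𝔛 h𝔛.1 (D 𝔛 h𝔛.1 b)) from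
        LinearMap.ker (LinearMap.toSpanSingleton (O (𝔛.Osh h𝔛.1) (D 𝔛 h𝔛.1 b)) (Sec M (D 𝔛 h𝔛.1 b))
          (res M (D_le 𝔛 h𝔛.1 b) s))) := by
    rw [Ideal.map_le_iff_le_comap]
    intro y hy
    have h3 : (resO (D_le 𝔛 h𝔛.1 b) y : O (𝔛.Osh h𝔛.1) (D 𝔛 h𝔛.1 b)) • res M (D_le 𝔛 h𝔛.1 b) s = 0 := by
      rw [← res_smul, hs y hy, map_zero]
    exact h3
  exact h2 h1

end Affine

end K919.Kill
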