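import Groth.Agent.FTors.K919.Gam
import Groth.Agent.FTors.K920.Kap2

/-!
# The levels `u_n : X n → 𝔛` and the modules killed by the `n`-th open ideal

* `KL h𝔛 n M`: every section of `M` is killed by the `n`-th open ideal;
* `isIso_unit`: the unit `M → (u_n)_* (u_n)^* M` is an isomorphism for such `M`;
* `kl_push`: `(u_n)_* N` is such a module;
* `isIso_counit`: the counit `(u_n)^* (u_n)_* N → N` is an isomorphism.
-/

set_option autoImplicit false
set_option linter.style.haveILetI false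

universe u

open CategoryTheory CategoryTheory.Limits AlgebraicGeometry TopologicalSpace Opposite

noncomputable section

namespace K919.Level

open K919.AffBasic K919.AffFlat K919.Kill K919.QCTCart K29.RSec K29.RPull K920.Kap

variable {𝔛 : FSch.Sys.{u}} (h𝔛 : 𝔛.IsLocNoethFormal) (n : ℕ)

/-- The morphism of ringed spaces of the level. -/
abbrev um : ModSite.RMor (𝔛.X n).sheaf (𝔛.Osh h𝔛.1) := FSch.levelMor 𝔛 h𝔛.1 n

/-- The underlying map of spaces. -/
abbrev bs : (𝔛.X n).carrier ⟶ (𝔛.X 0).carrier := 𝔛.gInv h𝔛.1 n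

/-- The map of sheaves of rings. -/
abbrev phi : ringSheaf (𝔛.Osh h𝔛.1) ⟶ ((Opens.map (bs h𝔛 n)).sheafPushforwardContinuous RingCat.{u}
    (Opens.grothendieckTopology (𝔛.X 0).carrier)
    (Opens.grothendieckTopology (𝔛.X n).carrier)).obj (ringSheaf (𝔛.X n).sheaf) :=
  (um h𝔛 n).sharpR

/-- The constant family of ideals `J_n`. -/
def cI : FTors.IdealFam (𝔛.Osh h𝔛.1) where
  ideal _ U := (FTors.openIdealFam 𝔛 h𝔛.1).ideal n U
  antitone' _ _ := le_rfl
  map_mem' _ _ _ g _ ha := (FTors.openIdealFam 𝔛 h𝔛.1).map_mem' n g _ ha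

/-- The zero family of ideals. -/
def cI0 (X : Scheme.{u}) : FTors.IdealFam X.sheaf where
  ideal _ _ := ⊥
  antitone' _ _ := le_rfl
  map_mem' _ _ _ g a ha := by
    rw [Ideal.mem_bot] at ha ⊢
    rw [ha, map_zero]

/-- Every section is killed by the `n`-th open ideal. -/
def KL (M : FSch.ModF 𝔛 h𝔛.1) : Prop := ∀ (V : (𝔛.X 0).Opens) (s : Sec M V), KB M n s

theorem killedBy_cI (M : FSch.ModF 𝔛 h𝔛.1) (k : ℕ) {V : (𝔛.X 0).Opens} (s : Sec M V) :
    FTors.KilledBy (cI h𝔛 n) M k (V := V) s ↔ KB M n s :=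
  ⟨fun hs _ hW a ha => hs (homOfLE hW) a ha, fun hs _ g a ha => hs _ (leOfHom g) a ha⟩

theorem isTors_cI_iff (M : FSch.ModF 𝔛 h𝔛.1) : FTors.IsTors (cI h𝔛 n) M ↔ KL h𝔛 n M := by
  constructor
  · intro h V s
    refine kb_of_local fun x hx => ?_
    obtain ⟨W, g, ⟨k, hk⟩, hxW⟩ := h V s x hx
    exact ⟨W, hxW, leOfHom g, (killedBy_cI h𝔛 n M k _).1 hk⟩
  · intro h V s
    exact FTors.IsTorsSect.of_killedBy ((killedBy_cI h𝔛 n M 0 s).2 (h V s))

theorem isTors_cI0 {X : Scheme.{u}} (N : X.Modules) : FTors.IsTors (cI0 X) N := by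
  intro V s
  refine FTors.IsTorsSect.of_killedBy (n := 0) fun W g a ha => ?_
  have : a = 0 := ha
  rw [this, zero_smul]

theorem isHomeomorph_bs : IsHomeomorph (bs h𝔛 n) := (𝔛.levelHomeo h𝔛.1 n).symm.isHomeomorph

/-- The comparison data of the level. -/
theorem kData : KData (f := bs h𝔛 n) (phi h𝔛 n) (cI h𝔛 n) (cI0 (𝔛.X n)) {V | IsAffineOpen V} where
  emb := (isHomeomorph_bs h𝔛 n).isClosedEmbedding
  basis W x hx := by
    obtain ⟨V, hV, hxV, hle⟩ := Opens.isBasis_iff_nbhd.mp (𝔛.X 0).isBasis_affineOpens hx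
    exact ⟨V, hV, hxV, hle⟩
  cm_mem _ V a ha := ha
  surj _ V hV b := by
    obtain ⟨a, ha⟩ := pr_surjective h𝔛 ((aff_iff h𝔛).2 hV) n b
    refine ⟨a, ?_⟩
    have h1 : cm (phi h𝔛 n) V a = b := ha
    rw [h1, sub_self]
    exact zero_mem _
  gen _ V _ := bot_le
  inj _ V _ a ha := ha
  off y hy := absurd ((isHomeomorph_bs h𝔛 n).surjective y) hy

/-- `(u_n)_* N` is killed by the `n`-th open ideal. -/
theorem kl_push (N : (𝔛.X n).Modules) : KL h𝔛 n ((um h𝔛 n).push.obj N) :=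
  (isTors_cI_iff h𝔛 n _).1 (isTors_push (kData h𝔛 n) (isTors_cI0 N))

/-- The unit is an isomorphism on modules killed by the `n`-th open ideal. -/
theorem isIso_unit {M : FSch.ModF 𝔛 h𝔛.1} (hM : KL h𝔛 n M) : IsIso ((um h𝔛 n).adj.unit.app M) :=
  K920.Kap.isIso_unit (kData h𝔛 n) (um h𝔛 n).adj ((isTors_cI_iff h𝔛 n M).2 hM)

/-- The counit is an isomorphism. -/
theorem isIso_counit (N : (𝔛.X n).Modules) : IsIso ((um h𝔛 n).adj.counit.app N) :=
  K920.Kap.isIso_counit (kData h𝔛 n) (um h𝔛 n).adj (isTors_cI0 N)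

/-- `M ≅ (u_n)_* (u_n)^* M`. -/
def isoPush {M : FSch.ModF 𝔛 h𝔛.1} (hM : KL h𝔛 n M) : M ≅ (um h𝔛 n).push.obj ((um h𝔛 n).pull.obj M) :=
  haveI := isIso_unit h𝔛 n hM
  asIso ((um h𝔛 n).adj.unit.app M)

end K919.Level
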