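import Groth.Agent.FTors.K919.KSub
import Groth.Agent.FTors.K919.SerreQCT
import Groth.Agent.Ega1.SubExtMain

/-!
# Quasi-coherent modules on the levels and quasi-coherent torsion modules

* `loc_iff`: sections of `(u_n)_* N` over an affine open and its basic opens;
* `qct_push`: `(u_n)_* N` is quasi-coherent torsion for `N` quasi-coherent;
* `isQuasicoherent_pull`: `(u_n)^* M` is quasi-coherent for `M` quasi-coherent torsion killed by the `n`-th open ideal;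
* `isCohF_push`: `(u_n)_* N` is coherent for `N` quasi-coherent of finite type.
-/

set_option autoImplicit false
set_option linter.style.haveILetI false

universe u

open CategoryTheory CategoryTheory.Limits AlgebraicGeometry TopologicalSpace Opposite

noncomputable section

namespace K919.LevelQC

open K919.AffBasic K919.AffFlat K919.AffD K919.Kill K919.Loc K919.LocGen K919.QCT K919.QCTCart K919.SubSh K919.Level
open K919.KSub K29.RSec K29.RExact K29.RPull K181.Good K181.Formal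
open Groth.Agent.Ega1.LocMod (Loc)

variable {𝔛 : FSch.Sys.{u}} (h𝔛 : 𝔛.IsLocNoethFormal) (n : ℕ)

theorem loc_iff_locOn {X : Scheme.{u}} (N : X.Modules) (U : X.Opens) : Loc N U ↔ 
    ∀ f : O X.sheaf U, LocOn (R := X.sheaf) N f (X.basicOpen f) (X.basicOpen_le f) :=
  ⟨fun h f => ⟨fun t ht => h.inj f t ht, fun s => h.surj f s⟩,
    fun h => ⟨fun f s => (h f).2 s, fun f t ht => (h f).1 t ht⟩⟩

theorem locOn_push_iff (N : (𝔛.X n).Modules) {V W : (𝔛.X 0).Opens} (hW : W ≤ V) (a : O (𝔛.Osh h𝔛.1) V) :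
    LocOn ((um h𝔛 n).push.obj N) a W hW ↔
      LocOn (R := (𝔛.X n).sheaf) N (V := pre (bs h𝔛 n) V) (cm (phi h𝔛 n) V a) (pre (bs h𝔛 n) W)
        (pre_mono _ hW) := by
  constructor
  · rintro ⟨h1, h2⟩
    refine ⟨fun s hs => ?_, fun t => ?_⟩
    · obtain ⟨k, hk⟩ := h1 (toPush (phi h𝔛 n) s) hs
      refine ⟨k, ?_⟩
      rw [← map_pow]
      exact hk
    · obtain ⟨k, s, hs⟩ := h2 (toPush (phi h𝔛 n) t)
      refine ⟨k, ofPush (phi h𝔛 n) s, ?_⟩
      rw [← cm_resO, ← map_pow]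
      exact hs
  · rintro ⟨h1, h2⟩
    refine ⟨fun s hs => ?_, fun t => ?_⟩
    · obtain ⟨k, hk⟩ := h1 (ofPush (phi h𝔛 n) s) hs
      refine ⟨k, ?_⟩
      rw [← map_pow] at hk
      exact hk
    · obtain ⟨k, s, hs⟩ := h2 (ofPush (phi h𝔛 n) t)
      refine ⟨k, toPush (phi h𝔛 n) s, ?_⟩
      rw [← cm_resO, ← map_pow] at hs
      exact hs

theorem pre_Do {V : (𝔛.X 0).Opens} (a : O (𝔛.Osh h𝔛.1) V) : pre (bs h𝔛 n) (Do h𝔛 a) =
    (𝔛.X n).basicOpen (U := pre (bs h𝔛 n) V) (cm (phi h𝔛 n) V a) := lvU_D 𝔛 h𝔛.1 n a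

theorem locOn_congr' {T : TopCat.{u}} {R : Sheaf (Opens.grothendieckTopology T) CommRingCat.{u}} {M : Mod R}
    {V W W' : Opens T} (a : O R V) (hW : W ≤ V) (hW' : W' ≤ V) (e : W = W') (h : LocOn M a W hW) :
    LocOn M a W' hW' := by
  subst e
  exact h

theorem loc_iff (N : (𝔛.X n).Modules) {V : (𝔛.X 0).Opens} (hV : IsAffineOpen V) :
    (∀ a : O (𝔛.Osh h𝔛.1) V, LocOn ((um h𝔛 n).push.obj N) a (Do h𝔛 a) (Do_le h𝔛 a)) ↔
      Loc N (𝔛.lvU h𝔛.1 n V) := by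
  rw [loc_iff_locOn]
  constructor
  · intro h f
    obtain ⟨a, ha⟩ := pr_surjective h𝔛 ((aff_iff h𝔛).2 hV) n f
    have ha' : cm (phi h𝔛 n) V a = f := ha
    subst ha'
    exact locOn_congr' _ _ _ (pre_Do h𝔛 n a) ((locOn_push_iff h𝔛 n N (Do_le h𝔛 a) a).1 (h a))
  · intro h a
    rw [locOn_push_iff]
    exact locOn_congr' _ _ _ (pre_Do h𝔛 n a).symm (h (cm (phi h𝔛 n) V a))

/-- `(u_n)_* N` is quasi-coherent torsion for `N` quasi-coherent. -/
theorem qct_push {N : (𝔛.X n).Modules} (hN : SheafOfModules.IsQuasicoherent.{u} (R := (𝔛.X n).ringCatSheaf) N) :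
    FTors.IsQCT 𝔛 h𝔛.1 ((um h𝔛 n).push.obj N) := by
  rw [isQCT_iff_local h𝔛]
  refine ⟨isTorsF_of_kl h𝔛 n (kl_push h𝔛 n N), fun x => ⟨⊤, trivial, fun V _ hVa => ?_⟩⟩
  refine (loc_iff h𝔛 n N ((aff_iff h𝔛).1 hVa)).2 ?_
  exact Groth.Agent.Ega1.LocMod.loc_of_isQuasicoherent N (isAffineOpen_lvU 𝔛 h𝔛.1 hVa n)

theorem exists_affine_lvU (x : 𝔛.X n) : ∃ V : (𝔛.X 0).Opens, IsAffineOpen V ∧ x ∈ 𝔛.lvU h𝔛.1 n V := by
  obtain ⟨V, hV, hxV, -⟩ := Opens.isBasis_iff_nbhd.mp (𝔛.X 0).isBasis_affineOpens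
    (show (bs h𝔛 n x) ∈ (⊤ : (𝔛.X 0).Opens) from trivial)
  exact ⟨V, hV, hxV⟩

/-- A module on a level is quasi-coherent as soon as its direct image is quasi-coherent torsion. -/
theorem isQuasicoherent_of_push {N : (𝔛.X n).Modules} (hN : FTors.IsQCT 𝔛 h𝔛.1 ((um h𝔛 n).push.obj N)) :
    SheafOfModules.IsQuasicoherent.{u} (R := (𝔛.X n).ringCatSheaf) N := by
  refine Groth.Agent.Ega1.QCohOfLoc.isQuasicoherent_of_loc N fun x => ?_
  obtain ⟨V, hV, hxV⟩ := exists_affine_lvU h𝔛 n x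
  refine ⟨_, hxV, isAffineOpen_lvU 𝔛 h𝔛.1 ((aff_iff h𝔛).2 hV) n, (loc_iff h𝔛 n N hV).1 fun a => ?_⟩
  exact ((isQCT_iff h𝔛 _).1 hN).2 V hV.isCompact a

/-- `(u_n)^* M` is quasi-coherent for `M` quasi-coherent torsion killed by the `n`-th open ideal. -/
theorem isQuasicoherent_pull {M : FSch.ModF 𝔛 h𝔛.1} (hM : FTors.IsQCT 𝔛 h𝔛.1 M) (hk : KL h𝔛 n M) :
    SheafOfModules.IsQuasicoherent.{u} (R := (𝔛.X n).ringCatSheaf) ((um h𝔛 n).pull.obj M) := by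
  refine isQuasicoherent_of_push h𝔛 n ?_
  have := K919.SerreQCT.isClosedUnderIso h𝔛
  exact (FTors.IsQCT 𝔛 h𝔛.1).prop_of_iso (isoPush h𝔛 n hk) hM

end K919.LevelQC
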