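import Groth.Agent.FTors.K919.Kill

/-!
# Sections over basic opens as localizations, elementwise

* `LocOn M a W`: restriction `M(V) → M(W)` is, elementwise, a localization at `a`.
* `locOn_of_cover`: gluing.
* `exists_lift`, `exists_kill`, `exists_unit`: the structure sheaf modulo open ideals.
-/

set_option autoImplicit false

universe u

open CategoryTheory CategoryTheory.Limits AlgebraicGeometry TopologicalSpace Opposite

namespace K919.Loc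

open K919.AffBasic K919.AffFlat K919.AffD K919.Kill K29.RSec

section Gen

variable {T : TopCat.{u}} {R : Sheaf (Opens.grothendieckTopology T) CommRingCat.{u}}

/-- `M(V) → M(W)` is elementwise a localization at `a ∈ O(V)`. -/
def LocOn (M : Mod R) {V : Opens T} (a : O R V) (W : Opens T) (hW : W ≤ V) : Prop :=
  (∀ s : Sec M V, res M hW s = 0 → ∃ n : ℕ, a ^ n • s = 0) ∧
  ∀ t : Sec M W, ∃ (n : ℕ) (s : Sec M V), res M hW s = resO hW a ^ n • t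

theorem pow_smul_eq_zero_of_le {A N : Type*} [CommRing A] [AddCommGroup N] [Module A N] {a : A} {s : N}
    {n m : ℕ} (hnm : n ≤ m) (h : a ^ n • s = 0) : a ^ m • s = 0 := by
  obtain ⟨k, rfl⟩ := Nat.exists_eq_add_of_le hnm
  rw [add_comm, pow_add, mul_smul, h, smul_zero]

/-- Gluing of `LocOn` along a finite cover. -/
theorem locOn_of_cover (M : Mod R) {V W : Opens T} (hW : W ≤ V) (a : O R V) {ι : Type*} [Finite ι]
    (V' : ι → Opens T) (hV' : ∀ i, V' i ≤ V) (hc : V ≤ ⨆ i, V' i)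
    (h1 : ∀ i, LocOn M (resO (hV' i) a) (V' i ⊓ W) inf_le_left)
    (h2 : ∀ i j (s : Sec M (V' i ⊓ V' j)), res M (inf_le_left : V' i ⊓ V' j ⊓ W ≤ V' i ⊓ V' j) s = 0 →
      ∃ n : ℕ, resO (inf_le_left.trans (hV' i) : V' i ⊓ V' j ≤ V) a ^ n • s = 0) :
    LocOn M a W hW := by
  classical
  cases nonempty_fintype ι
  constructor
  · intro s hs
    have h3 : ∀ i, ∃ n : ℕ, resO (hV' i) a ^ n • res M (hV' i) s = 0 := fun i =>
      (h1 i).1 (res M (hV' i) s) (by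
        rw [res_res, ← res_res M hW inf_le_right, hs, map_zero])
    choose n hn using h3
    refine ⟨Finset.univ.sup n, eq_of_locally M V' V hc hV' _ _ fun i => ?_⟩
    rw [map_zero, res_smul, map_pow]
    exact pow_smul_eq_zero_of_le (Finset.le_sup (Finset.mem_univ i)) (hn i)
  · intro t
    choose n s hs using fun i => (h1 i).2 (res M inf_le_right t)
    -- uniform exponent
    let N := Finset.univ.sup n
    have hN : ∀ i, n i ≤ N := fun i => Finset.le_sup (Finset.mem_univ i)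
    obtain ⟨s', hs'⟩ : ∃ s' : ∀ i, Sec M (V' i), ∀ i, res M (inf_le_left : V' i ⊓ W ≤ V' i) (s' i) =
        resO (inf_le_right.trans hW : V' i ⊓ W ≤ V) a ^ N • res M (inf_le_right : V' i ⊓ W ≤ W) t := by
      refine ⟨fun i => resO (hV' i) a ^ (N - n i) • s i, fun i => ?_⟩
      rw [res_smul, hs i, map_pow, resO_resO, ← mul_smul, ← pow_add, Nat.sub_add_cancel (hN i)]
    have h3 : ∀ i j, ∃ m : ℕ, resO (inf_le_left.trans (hV' i) : V' i ⊓ V' j ≤ V) a ^ m •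
        (res M (inf_le_left : V' i ⊓ V' j ≤ V' i) (s' i) - res M inf_le_right (s' j)) = 0 := by
      intro i j
      apply h2 i j
      rw [map_sub, res_res, res_res]
      have e1 := congrArg (res M (le_inf (inf_le_left.trans inf_le_left) inf_le_right :
        V' i ⊓ V' j ⊓ W ≤ V' i ⊓ W)) (hs' i)
      have e2 := congrArg (res M (le_inf (inf_le_left.trans inf_le_right) inf_le_right :
        V' i ⊓ V' j ⊓ W ≤ V' j ⊓ W)) (hs' j)
      rw [res_res, res_smul, res_res, map_pow, resO_resO] at e1 e2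
      rw [e1, e2, sub_self]
    choose m hm using h3
    let K := Finset.univ.sup fun i => Finset.univ.sup (m i)
    have hK : ∀ i j, m i j ≤ K := fun i j => (Finset.le_sup (f := m i) (Finset.mem_univ j)).trans
      (Finset.le_sup (f := fun i => Finset.univ.sup (m i)) (Finset.mem_univ i))
    obtain ⟨S, hS⟩ := exists_glue M V' V hc hV' (fun i => resO (hV' i) a ^ K • s' i) (by
      intro i j Z hi hj
      have e := congrArg (res M (le_inf hi hj)) (pow_smul_eq_zero_of_le (hK i j) (hm i j))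
      rw [res_smul, map_zero, map_sub, res_res, res_res, map_pow, resO_resO, smul_sub, sub_eq_zero] at e
      rw [res_smul, res_smul, map_pow, map_pow, resO_resO, resO_resO]
      exact e)
    refine ⟨K + N, S, ?_⟩
    refine eq_of_locally M (fun i => V' i ⊓ W) W ?_ (fun i => inf_le_right) _ _ fun i => ?_
    · intro x hx
      obtain ⟨i, hi⟩ := Opens.mem_iSup.1 (hc (hW hx))
      exact Opens.mem_iSup.2 ⟨i, hi, hx⟩
    · rw [res_res, ← res_res M (hV' i) inf_le_left, hS i, res_smul, hs', res_smul, map_pow, map_pow,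
        resO_resO, resO_resO, pow_add, mul_smul]

end Gen

section Aff

variable {𝔛 : FSch.Sys.{u}} (h𝔛 : 𝔛.IsLocNoethFormal) {U : (𝔛.X 0).Opens}
  (hU : IsAffineOpen (𝔛.lvU h𝔛.1 0 U))

/-- The basic open as an open of the space, for sections in the sense of `K29.RSec`. -/
noncomputable def Do {V : (𝔛.X 0).Opens} (a : O (𝔛.Osh h𝔛.1) V) : (𝔛.X 0).Opens := D 𝔛 h𝔛.1 (V := V) a

theorem Do_le {V : (𝔛.X 0).Opens} (a : O (𝔛.Osh h𝔛.1) V) : Do h𝔛 a ≤ V := D_le 𝔛 h𝔛.1 a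

theorem Do_resO {V W : (𝔛.X 0).Opens} (i : W ≤ V) (a : O (𝔛.Osh h𝔛.1) V) :
    Do h𝔛 (resO i a) = W ⊓ Do h𝔛 a := D_rs 𝔛 h𝔛.1 i a

theorem Do_mul {V : (𝔛.X 0).Opens} (a b : O (𝔛.Osh h𝔛.1) V) : Do h𝔛 (a * b) = Do h𝔛 a ⊓ Do h𝔛 b :=
  D_mul 𝔛 h𝔛.1 a b

theorem Do_one (V : (𝔛.X 0).Opens) : Do h𝔛 (1 : O (𝔛.Osh h𝔛.1) V) = V := D_one 𝔛 h𝔛.1 V

theorem le_Do_iff {V W : (𝔛.X 0).Opens} (i : W ≤ V) (a : O (𝔛.Osh h𝔛.1) V) :
    IsUnit (resO i a) ↔ W ≤ Do h𝔛 a := isUnit_rs_iff 𝔛 h𝔛.1 a i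

theorem isUnit_Do {V : (𝔛.X 0).Opens} (a : O (𝔛.Osh h𝔛.1) V) : IsUnit (resO (Do_le h𝔛 a) a) :=
  (le_Do_iff h𝔛 _ a).2 le_rfl

theorem Do_pow {V : (𝔛.X 0).Opens} (a : O (𝔛.Osh h𝔛.1) V) (n : ℕ) : Do h𝔛 (a ^ (n + 1)) = Do h𝔛 a := by
  induction n with
  | zero => rw [zero_add, pow_one]
  | succ n ih => rw [pow_succ, Do_mul, ih, inf_idem]

theorem le_Do_pow {V : (𝔛.X 0).Opens} (a : O (𝔛.Osh h𝔛.1) V) (n : ℕ) : Do h𝔛 a ≤ Do h𝔛 (a ^ n) := by
  cases n with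
  | zero => rw [pow_zero, Do_one]; exact Do_le h𝔛 a
  | succ n => rw [Do_pow]

include hU

theorem isAffineOpen_Do (a : O (𝔛.Osh h𝔛.1) U) : IsAffineOpen (𝔛.lvU h𝔛.1 0 (Do h𝔛 a)) :=
  isAffineOpen_D h𝔛 hU a

theorem exists_Do {V : (𝔛.X 0).Opens} (hV : V ≤ U) {x : 𝔛.X 0} (hx : x ∈ V) :
    ∃ a : O (𝔛.Osh h𝔛.1) U, x ∈ Do h𝔛 a ∧ Do h𝔛 a ≤ V := exists_D h𝔛 hU hV hx

theorem prO_surjective (n : ℕ) : Function.Surjective (prO (h := h𝔛.1) n U) := pr_surjective h𝔛 hU n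

/-- Sections over `D(a)` are, modulo open ideals, fractions. -/
theorem exists_lift (a : O (𝔛.Osh h𝔛.1) U) (n : ℕ) (c : O (𝔛.Osh h𝔛.1) (Do h𝔛 a)) :
    ∃ (m : ℕ) (g : O (𝔛.Osh h𝔛.1) U),
      prO n (Do h𝔛 a) (resO (Do_le h𝔛 a) a ^ m * c) = prO n (Do h𝔛 a) (resO (Do_le h𝔛 a) g) := by
  let _ := (rsL 𝔛 h𝔛.1 n (Do_le h𝔛 a)).toAlgebra
  have h1 : IsLocalization.Away (prO n U a) (LU 𝔛 h𝔛.1 n (Do h𝔛 a)) := isLocalization_D h𝔛 hU a n
  obtain ⟨m, g, hg⟩ := IsLocalization.Away.surj (prO n U a) (prO n (Do h𝔛 a) c)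
  obtain ⟨g', hg'⟩ := prO_surjective h𝔛 hU n g
  refine ⟨m, g', ?_⟩
  rw [map_mul, map_pow, prO_resO, prO_resO, hg', mul_comm]
  exact hg

/-- Sections over `U` vanishing on `D(a)` modulo an open ideal are killed by powers of `a` modulo the ideal. -/
theorem exists_kill (a : O (𝔛.Osh h𝔛.1) U) (n : ℕ) (f : O (𝔛.Osh h𝔛.1) U)
    (hf : prO n (Do h𝔛 a) (resO (Do_le h𝔛 a) f) = 0) : ∃ m : ℕ, prO n U (a ^ m * f) = 0 := by
  let _ := (rsL 𝔛 h𝔛.1 n (Do_le h𝔛 a)).toAlgebra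
  have h1 : IsLocalization.Away (prO n U a) (LU 𝔛 h𝔛.1 n (Do h𝔛 a)) := isLocalization_D h𝔛 hU a n
  rw [prO_resO] at hf
  have hf' : algebraMap (LU 𝔛 h𝔛.1 n U) (LU 𝔛 h𝔛.1 n (Do h𝔛 a)) (prO n U f) =
    algebraMap (LU 𝔛 h𝔛.1 n U) (LU 𝔛 h𝔛.1 n (Do h𝔛 a)) 0 := hf.trans (map_zero _).symm
  obtain ⟨m, hm⟩ := IsLocalization.Away.exists_of_eq (prO n U a) hf'
  refine ⟨m, ?_⟩
  rw [map_mul, map_pow]
  rw [mul_zero] at hm
  exact hm

/-- Elements generating locally the unit ideal generate it. -/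
theorem span_eq_top {ι : Type*} (b : ι → O (𝔛.Osh h𝔛.1) U) (hc : U ≤ ⨆ i, Do h𝔛 (b i)) :
    Ideal.span (Set.range b) = ⊤ := span_eq_top_of_cover h𝔛 hU b hc

/-- If `D(a)` is covered by the `D(b i)` then a power of `a` is, modulo an open ideal, a combination of given powers of
the `b i`. -/
theorem exists_unit (a : O (𝔛.Osh h𝔛.1) U) {ι : Type*} [Fintype ι] (b : ι → O (𝔛.Osh h𝔛.1) U)
    (hc : Do h𝔛 a ≤ ⨆ i, Do h𝔛 (b i)) (n m : ℕ) :
    ∃ (N : ℕ) (g : ι → O (𝔛.Osh h𝔛.1) U), prO n U (a ^ N) = prO n U (∑ i, g i * b i ^ m) := by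
  classical
  have h1 : Ideal.span (Set.range fun i =>
      (resO (Do_le h𝔛 a) (b i ^ m) : O (𝔛.Osh h𝔛.1) (Do h𝔛 a))) = ⊤ := by
    refine span_eq_top h𝔛 (isAffineOpen_Do h𝔛 hU a) _ ?_
    intro x hx
    obtain ⟨i, hi⟩ := Opens.mem_iSup.1 (hc hx)
    refine Opens.mem_iSup.2 ⟨i, ?_⟩
    rw [Do_resO]
    exact ⟨hx, le_Do_pow h𝔛 _ _ hi⟩
  have h3 : (1 : O (𝔛.Osh h𝔛.1) (Do h𝔛 a)) ∈ Ideal.span (Set.range fun i =>
      (resO (Do_le h𝔛 a) (b i ^ m) : O (𝔛.Osh h𝔛.1) (Do h𝔛 a))) := h1 ▸ Submodule.mem_top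
  rw [Ideal.mem_span_range_iff_exists_fun] at h3
  obtain ⟨c, hc'⟩ := h3
  choose k g hg using fun i => exists_lift h𝔛 hU a n (c i)
  let K := Finset.univ.sup k
  have hK : ∀ i, k i ≤ K := fun i => Finset.le_sup (Finset.mem_univ i)
  have h4 : prO n (Do h𝔛 a) (resO (Do_le h𝔛 a) (a ^ K - ∑ i, (a ^ (K - k i) * g i) * b i ^ m)) = 0 := by
    have h5 : prO n (Do h𝔛 a) (resO (Do_le h𝔛 a) (a ^ K)) =
        prO n (Do h𝔛 a) (resO (Do_le h𝔛 a) (a ^ K) * ∑ i, c i * resO (Do_le h𝔛 a) (b i ^ m)) := by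
      rw [hc', mul_one]
    rw [map_sub, map_sub, h5, sub_eq_zero, Finset.mul_sum, map_sum, map_sum, map_sum]
    refine Finset.sum_congr rfl fun i _ => ?_
    have h7 : resO (Do_le h𝔛 a) (a ^ K) * (c i * resO (Do_le h𝔛 a) (b i ^ m)) =
        resO (Do_le h𝔛 a) (a ^ (K - k i)) * (resO (Do_le h𝔛 a) a ^ k i * c i) *
          resO (Do_le h𝔛 a) (b i ^ m) := by
      rw [← map_pow (resO (Do_le h𝔛 a)) a (k i)]
      rw [← mul_assoc (resO (Do_le h𝔛 a) (a ^ (K - k i))), ← map_mul, ← pow_add,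
        Nat.sub_add_cancel (hK i)]
      rw [← mul_assoc]
    rw [h7, map_mul, map_mul, hg i, ← map_mul, ← map_mul, ← map_mul, ← map_mul]
  obtain ⟨M, hM⟩ := exists_kill h𝔛 hU a n _ h4
  refine ⟨M + K, fun i => a ^ M * (a ^ (K - k i) * g i), ?_⟩
  rw [mul_sub, map_sub, sub_eq_zero, ← pow_add] at hM
  rw [hM, Finset.mul_sum]
  refine congrArg _ (Finset.sum_congr rfl fun i _ => ?_)
  ring

end Aff

end K919.Loc
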