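import Groth.Agent.FTors.K919.Loc

/-!
# Recognition of the sections of a torsion module over an affine open

`locGen`: a linear map `φ : N → M(U)` from a torsion `O(U)`-module which is locally surjective and locally injective up to
localization is bijective, and `M(D(a)) = N_a`.
-/

set_option autoImplicit false

universe u

open CategoryTheory CategoryTheory.Limits AlgebraicGeometry TopologicalSpace Opposite

namespace K919.LocGen

open K919.AffBasic K919.AffFlat K919.AffD K919.Kill K919.Loc K29.RSec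

variable {𝔛 : FSch.Sys.{u}} (h𝔛 : 𝔛.IsLocNoethFormal) {U : (𝔛.X 0).Opens}
  (hU : IsAffineOpen (𝔛.lvU h𝔛.1 0 U))

theorem exists_finite_cover {V : (𝔛.X 0).Opens} (hV : IsCompact (V : Set (𝔛.X 0)))
    (P : O (𝔛.Osh h𝔛.1) U → Prop) (hP : ∀ x ∈ V, ∃ b, x ∈ Do h𝔛 b ∧ P b) :
    ∃ (k : ℕ) (b : Fin k → O (𝔛.Osh h𝔛.1) U), V ≤ ⨆ i, Do h𝔛 (b i) ∧ ∀ i, P (b i) := by
  choose b hb hPb using hP
  obtain ⟨t, ht⟩ := hV.elim_finite_subcover (fun x : V => ((Do h𝔛 (b x.1 x.2) : (𝔛.X 0).Opens) : Set (𝔛.X 0)))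
    (fun x => (Do h𝔛 (b x.1 x.2)).isOpen) (fun x hxV => Set.mem_iUnion.2 ⟨⟨x, hxV⟩, hb x hxV⟩)
  refine ⟨t.card, fun i => b (t.equivFin.symm i).1.1 (t.equivFin.symm i).1.2, ?_, fun i => hPb _ _⟩
  intro x hx
  obtain ⟨y, hy⟩ := Set.mem_iUnion.1 (ht hx)
  obtain ⟨hy1, hy2⟩ := Set.mem_iUnion.1 hy
  refine Opens.mem_iSup.2 ⟨t.equivFin ⟨y, hy1⟩, ?_⟩
  simp only [Equiv.symm_apply_apply]
  exact hy2

theorem smul_eq_of_prO {N : Type*} [AddCommGroup N] [Module (O (𝔛.Osh h𝔛.1) U) N] {q : ℕ} {n : N}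
    (hn : ∀ x : O (𝔛.Osh h𝔛.1) U, prO q U x = 0 → x • n = 0) {x y : O (𝔛.Osh h𝔛.1) U}
    (h : prO q U x = prO q U y) : x • n = y • n := by
  rw [← sub_eq_zero, ← sub_smul]
  exact hn _ (by rw [map_sub, h, sub_self])

/-- A section killed by an open ideal over an open of `U`, versus elements of `O(U)`. -/
theorem res_smul_eq {M : FSch.ModF 𝔛 h𝔛.1} {q : ℕ} {V : (𝔛.X 0).Opens} {t : Sec M V} (ht : KB M q t)
    {x y : O (𝔛.Osh h𝔛.1) V} (h : prO q V x = prO q V y) : x • t = y • t := by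
  rw [← sub_eq_zero, ← sub_smul]
  have := ht V le_rfl (x - y) (by rw [map_sub, h, sub_self])
  rwa [res_self] at this

include hU

theorem isCompact_of_affine : IsCompact (U : Set (𝔛.X 0)) := by
  have h1 := hU.isCompact
  rwa [lvU_zero] at h1

theorem isCompact_Do (a : O (𝔛.Osh h𝔛.1) U) : IsCompact (Do h𝔛 a : Set (𝔛.X 0)) :=
  isCompact_of_affine h𝔛 (isAffineOpen_Do h𝔛 hU a)

/-- An element of a torsion `O(U)`-module killed locally by powers is killed by powers. -/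
theorem pow_smul_eq_zero {N : Type*} [AddCommGroup N] [Module (O (𝔛.Osh h𝔛.1) U) N] (n : N)
    (hn : ∃ q : ℕ, ∀ x : O (𝔛.Osh h𝔛.1) U, prO q U x = 0 → x • n = 0) (a : O (𝔛.Osh h𝔛.1) U)
    (hi : ∀ x ∈ Do h𝔛 a, ∃ b : O (𝔛.Osh h𝔛.1) U, x ∈ Do h𝔛 b ∧ ∃ m : ℕ, b ^ m • n = 0) :
    ∃ m : ℕ, a ^ m • n = 0 := by
  obtain ⟨q, hq⟩ := hn
  obtain ⟨k, b, hc, hb⟩ := exists_finite_cover h𝔛 (isCompact_Do h𝔛 hU a) _ hi
  choose m hm using hb
  obtain ⟨N', g, hg⟩ := exists_unit h𝔛 hU a b hc q (Finset.univ.sup m)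
  refine ⟨N', ?_⟩
  rw [smul_eq_of_prO h𝔛 hq hg, Finset.sum_smul]
  refine Finset.sum_eq_zero fun i _ => ?_
  rw [mul_smul, pow_smul_eq_zero_of_le (Finset.le_sup (Finset.mem_univ i)) (hm i), smul_zero]

theorem locGen {M : FSch.ModF 𝔛 h𝔛.1}
    (hM : ∀ (a : O (𝔛.Osh h𝔛.1) U) (t : Sec M (Do h𝔛 a)), ∃ q, KB M q t)
    {N : Type*} [AddCommGroup N] [Module (O (𝔛.Osh h𝔛.1) U) N] (φ : N →ₗ[O (𝔛.Osh h𝔛.1) U] Sec M U)
    (hN : ∀ n : N, ∃ q : ℕ, ∀ x : O (𝔛.Osh h𝔛.1) U, prO q U x = 0 → x • n = 0)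
    (hs : ∀ (a : O (𝔛.Osh h𝔛.1) U) (t : Sec M (Do h𝔛 a)), ∀ x ∈ Do h𝔛 a, ∃ b : O (𝔛.Osh h𝔛.1) U,
      x ∈ Do h𝔛 b ∧ ∃ (hb : Do h𝔛 b ≤ Do h𝔛 a) (m : ℕ) (n : N),
        res M (Do_le h𝔛 b) (φ n) = resO (Do_le h𝔛 b) b ^ m • res M hb t)
    (hi : ∀ (n : N) (a : O (𝔛.Osh h𝔛.1) U), res M (Do_le h𝔛 a) (φ n) = 0 → ∀ x ∈ Do h𝔛 a,
      ∃ b : O (𝔛.Osh h𝔛.1) U, x ∈ Do h𝔛 b ∧ ∃ m : ℕ, b ^ m • n = 0)
    (a : O (𝔛.Osh h𝔛.1) U) :
    (∀ n : N, res M (Do_le h𝔛 a) (φ n) = 0 → ∃ m : ℕ, a ^ m • n = 0) ∧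
    ∀ t : Sec M (Do h𝔛 a), ∃ (m : ℕ) (n : N), res M (Do_le h𝔛 a) (φ n) = resO (Do_le h𝔛 a) a ^ m • t := by
  classical
  have inj : ∀ (a : O (𝔛.Osh h𝔛.1) U) (n : N), res M (Do_le h𝔛 a) (φ n) = 0 → ∃ m : ℕ, a ^ m • n = 0 :=
    fun a n hn => pow_smul_eq_zero h𝔛 hU n (hN n) a (hi n a hn)
  refine ⟨inj a, fun t => ?_⟩
  obtain ⟨k, b, hc, hb⟩ := exists_finite_cover h𝔛 (isCompact_Do h𝔛 hU a)
    (fun b => ∃ (hb : Do h𝔛 b ≤ Do h𝔛 a) (m : ℕ) (n : N),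
      res M (Do_le h𝔛 b) (φ n) = resO (Do_le h𝔛 b) b ^ m • res M hb t) (hs a t)
  choose hba m0 n0 hn0 using hb
  -- uniform exponent
  obtain ⟨m, n, hn⟩ : ∃ (m : ℕ) (n : Fin k → N), ∀ i,
      res M (Do_le h𝔛 (b i)) (φ (n i)) = resO (Do_le h𝔛 (b i)) (b i) ^ m • res M (hba i) t := by
    refine ⟨Finset.univ.sup m0, fun i => b i ^ (Finset.univ.sup m0 - m0 i) • n0 i, fun i => ?_⟩
    rw [φ.map_smul, res_smul, hn0, ← mul_smul, map_pow, ← pow_add,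
      Nat.sub_add_cancel (Finset.le_sup (Finset.mem_univ i))]
  -- agreement on overlaps up to powers
  have h1 : ∀ i j, ∃ K : ℕ, (b i * b j) ^ K • (b j ^ m • n i - b i ^ m • n j) = 0 := by
    intro i j
    apply inj
    have e1 : Do h𝔛 (b i * b j) ≤ Do h𝔛 (b i) := (Do_mul h𝔛 _ _).le.trans inf_le_left
    have e2 : Do h𝔛 (b i * b j) ≤ Do h𝔛 (b j) := (Do_mul h𝔛 _ _).le.trans inf_le_right
    have f1 := congrArg (res M e1) (hn i)
    have f2 := congrArg (res M e2) (hn j)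
    rw [res_res, res_smul, res_res, map_pow, resO_resO] at f1 f2
    rw [map_sub, map_sub, φ.map_smul, φ.map_smul, res_smul, res_smul, f1, f2, map_pow, map_pow]
    exact sub_eq_zero.2 (smul_comm _ _ _)
  choose K hK using h1
  obtain ⟨m', n', hn', hc'⟩ : ∃ (m : ℕ) (n : Fin k → N), (∀ i,
      res M (Do_le h𝔛 (b i)) (φ (n i)) = resO (Do_le h𝔛 (b i)) (b i) ^ m • res M (hba i) t) ∧
      ∀ i j, b j ^ m • n i = b i ^ m • n j := by
    let L := Finset.univ.sup fun i => Finset.univ.sup (K i)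
    have hL : ∀ i j, K i j ≤ L := fun i j => (Finset.le_sup (f := K i) (Finset.mem_univ j)).trans
      (Finset.le_sup (f := fun i => Finset.univ.sup (K i)) (Finset.mem_univ i))
    refine ⟨m + L, fun i => b i ^ L • n i, fun i => ?_, fun i j => ?_⟩
    · rw [φ.map_smul, res_smul, hn, ← mul_smul, map_pow, ← pow_add, add_comm]
    · have e := pow_smul_eq_zero_of_le (hL i j) (hK i j)
      rw [smul_sub, sub_eq_zero] at e
      have e1 : b j ^ (m + L) • b i ^ L • n i = (b i * b j) ^ L • b j ^ m • n i := by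
        rw [← mul_smul, ← mul_smul]
        congr 1
        ring
      have e2 : b i ^ (m + L) • b j ^ L • n j = (b i * b j) ^ L • b i ^ m • n j := by
        rw [← mul_smul, ← mul_smul]
        congr 1
        ring
      rw [e1, e2, e]
  obtain ⟨q0, hq0⟩ := hM a t
  choose q1 hq1 using fun i => hN (n' i)
  let q := max q0 (Finset.univ.sup q1)
  have hq0' : KB M q t := hq0.mono (le_max_left _ _)
  have hq1' : ∀ i, ∀ x : O (𝔛.Osh h𝔛.1) U, prO q U x = 0 → x • n' i = 0 := fun i x hx =>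
    hq1 i x (prO_zero_of_le ((Finset.le_sup (Finset.mem_univ i)).trans (le_max_right _ _)) hx)
  obtain ⟨N', g, hg⟩ := exists_unit h𝔛 hU a b hc q m'
  refine ⟨N', ∑ i, g i • n' i, ?_⟩
  refine eq_of_locally M (fun i => Do h𝔛 (b i)) (Do h𝔛 a) hc hba _ _ fun i => ?_
  rw [res_res]
  have hu := (isUnit_Do h𝔛 (b i)).pow m'
  have key : b i ^ m' • ∑ j, g j • n' j = a ^ N' • n' i := by
    rw [Finset.smul_sum, smul_eq_of_prO h𝔛 (hq1' i) hg, Finset.sum_smul]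
    refine Finset.sum_congr rfl fun j _ => ?_
    rw [smul_comm, hc' j i, mul_smul]
  have key2 := congrArg (fun z => res M (Do_le h𝔛 (b i)) (φ z)) key
  simp only [φ.map_smul, res_smul] at key2
  rw [hn' i] at key2
  rw [map_pow, map_pow] at key2
  rw [res_smul, map_pow, resO_resO]
  have key3 : resO (Do_le h𝔛 (b i)) (b i) ^ m' • res M (Do_le h𝔛 (b i)) (φ (∑ j, g j • n' j)) =
      resO (Do_le h𝔛 (b i)) (b i) ^ m' • (resO (Do_le h𝔛 (b i)) a ^ N' • res M (hba i) t) := by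
    rw [key2, smul_comm]
  exact (IsUnit.smul_left_cancel hu).1 key3

end K919.LocGen
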