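import Groth.Agent.FTors.K919.QCElem
import Groth.Agent.FCompl.K29.RSec

/-!
# `QCElem` in the notation of `K29.RSec` (sheaves of commutative rings)
-/

set_option autoImplicit false

universe u

open CategoryTheory CategoryTheory.Limits Opposite TopologicalSpace

namespace K919.QCK29

open K29.RSec

variable {T : TopCat.{u}} {R : Sheaf (Opens.grothendieckTopology T) CommRingCat.{u}}

/-- The sections `s i` over `W` generate `M` over `W`. -/
def LG (M : Mod R) (W : Opens T) {I : Type u} (s : I → Sec M W) : Prop :=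
  ∀ (V : Opens T) (hV : V ≤ W) (t : Sec M V) (x : T), x ∈ V →
    ∃ (V' : Opens T) (h' : V' ≤ V), x ∈ V' ∧ ∃ c : I →₀ O R V',
      res M h' t = c.sum fun j a => a • res M (h'.trans hV) (s j)

/-- The `r k` are relations between the sections `s i` over `W` and generate all relations. -/
def LR (M : Mod R) (W : Opens T) {I K : Type u} (s : I → Sec M W) (r : K → I →₀ O R W) : Prop :=
  (∀ k, ((r k).sum fun j a => a • s j) = 0) ∧
  ∀ (V : Opens T) (hV : V ≤ W) (c : I →₀ O R V),
    (c.sum fun j a => a • res M hV (s j)) = 0 → ∀ x ∈ V, ∃ (V' : Opens T) (h' : V' ≤ V), x ∈ V' ∧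
      ∃ d : K →₀ O R V', ∀ j, resO h' (c j) = d.sum fun k a => a * resO (h'.trans hV) (r k j)

theorem lg_iff (M : Mod R) (W : Opens T) {I : Type u} (s : I → Sec M W) :
    LG M W s ↔ QCElem.LGenI M W s := Iff.rfl

theorem lr_iff (M : Mod R) (W : Opens T) {I K : Type u} (s : I → Sec M W) (r : K → I →₀ O R W) :
    LR M W s r ↔ QCElem.LRelI (K := K) M W s r := by
  refine and_congr (forall_congr' fun k => ?_) Iff.rfl
  have h1 : ((r k).sum fun j a => a • s j) = QCElem.lcr M le_rfl s (r k) := by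
    rw [QCElem.lcr_eq]
    refine Finset.sum_congr rfl fun j _ => ?_
    exact congrArg (fun z : Sec M W => (r k) j • z) (res_self M le_rfl (s j)).symm
  rw [h1]
  exact Iff.rfl

theorem exists_of_isQuasicoherent (M : Mod R) (h : SheafOfModules.IsQuasicoherent.{u} M)
    (x : T) : ∃ (W : Opens T) (_ : x ∈ W), ∀ (V : Opens T), V ≤ W → IsCompact (V : Set T) →
      ∃ (I K : Type u) (s : I → Sec M V) (r : K → I →₀ O R V), LG M V s ∧ LR M V s r := by
  obtain ⟨W, hx, hW⟩ := QCElem.exists_of_isQuasicoherent M h x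
  refine ⟨W, hx, fun V hV hc => ?_⟩
  obtain ⟨I, K, s, r, hs, hr⟩ := hW V hV hc
  exact ⟨I, K, s, r, hs, (lr_iff M V s r).2 hr⟩

theorem isQuasicoherent_of (M : Mod R)
    (h : ∀ x : T, ∃ (W : Opens T) (_ : x ∈ W) (I K : Type u) (s : I → Sec M W)
      (r : K → I →₀ O R W), LG M W s ∧ LR M W s r) :
    SheafOfModules.IsQuasicoherent.{u} M := by
  apply QCElem.isQuasicoherent_of
  intro x
  obtain ⟨W, hx, I, K, s, r, hs, hr⟩ := h x
  exact ⟨W, hx, I, K, s, r, hs, (lr_iff M W s r).1 hr⟩

end K919.QCK29
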