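import Groth.Agent.FTors.K919.LocGen
import Groth.Agent.FTors.K919.QCK29

/-!
# Quasi-coherent torsion modules on a locally Noetherian formal system, by sections

`locOn_of_gen_rel`: a torsion module with generators and relations over an affine `U` satisfies `M(D(a)) = M(U)_a`.
`gen_rel_of_locOn`: the converse.
-/

set_option autoImplicit false

universe u

open CategoryTheory CategoryTheory.Limits AlgebraicGeometry TopologicalSpace Opposite

namespace K919.QCLoc

open K919.AffBasic K919.AffFlat K919.AffD K919.Kill K919.Loc K919.LocGen K919.QCK29 K29.RSec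

variable {𝔛 : FSch.Sys.{u}} (h𝔛 : 𝔛.IsLocNoethFormal) {U : (𝔛.X 0).Opens}
  (hU : IsAffineOpen (𝔛.lvU h𝔛.1 0 U))

/-- The relations, including those killing each generator by an open ideal. -/
noncomputable def relSub {I K : Type u} (n : I → ℕ) (r : K → I →₀ O (𝔛.Osh h𝔛.1) U) :
    Submodule (O (𝔛.Osh h𝔛.1) U) (I →₀ O (𝔛.Osh h𝔛.1) U) :=
  Submodule.span _ (Set.range r ∪ {f | ∃ (j : I) (x : O (𝔛.Osh h𝔛.1) U), prO (n j) U x = 0 ∧ f = Finsupp.single j x})

theorem rel_mem {I K : Type u} (n : I → ℕ) (r : K → I →₀ O (𝔛.Osh h𝔛.1) U) (k : K) :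
    r k ∈ relSub h𝔛 n r := Submodule.subset_span (Or.inl ⟨k, rfl⟩)

theorem single_mem {I K : Type u} (n : I → ℕ) (r : K → I →₀ O (𝔛.Osh h𝔛.1) U) {j : I}
    {x : O (𝔛.Osh h𝔛.1) U} (hx : prO (n j) U x = 0) :
    Finsupp.single j x ∈ relSub h𝔛 n r := Submodule.subset_span (Or.inr ⟨j, x, hx, rfl⟩)

theorem sum_mem {I K : Type u} (n : I → ℕ) (r : K → I →₀ O (𝔛.Osh h𝔛.1) U)
    (f : I →₀ O (𝔛.Osh h𝔛.1) U) (hf : ∀ j, prO (n j) U (f j) = 0) : f ∈ relSub h𝔛 n r := by
  rw [← Finsupp.sum_single f]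
  exact Submodule.sum_mem _ fun j _ => single_mem h𝔛 n r (hf j)

/-- restriction of coefficients -/
noncomputable def rF {I : Type u} {V W : (𝔛.X 0).Opens} (i : W ≤ V) (c : I →₀ O (𝔛.Osh h𝔛.1) V) :
    I →₀ O (𝔛.Osh h𝔛.1) W := c.mapRange (resO i) (map_zero _)

theorem res_sum {M : FSch.ModF 𝔛 h𝔛.1} {I : Type u} {V W W' : (𝔛.X 0).Opens} (hV : V ≤ W) (i : W' ≤ V)
    (e : I → Sec M W) (c : I →₀ O (𝔛.Osh h𝔛.1) V) :
    res M i (c.sum fun j a => a • res M hV (e j)) =
      (rF h𝔛 i c).sum fun j a => a • res M (i.trans hV) (e j) := by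
  refine Eq.trans ?_ (Finsupp.sum_mapRange_index (fun j => zero_smul _ (res M (i.trans hV) (e j)))).symm
  rw [Finsupp.sum, Finsupp.sum, map_sum]
  refine Finset.sum_congr rfl fun j _ => ?_
  rw [res_smul, res_res]

include hU

theorem locOn_of_gen_rel {M : FSch.ModF 𝔛 h𝔛.1} (hM : FTors.IsTorsF 𝔛 h𝔛.1 M) {I K : Type u}
    (e : I → Sec M U) (r : K → I →₀ O (𝔛.Osh h𝔛.1) U) (hg : LG M U e) (hr : LR M U e r)
    (a : O (𝔛.Osh h𝔛.1) U) : LocOn M a (Do h𝔛 a) (Do_le h𝔛 a) := by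
  classical
  choose n hn using fun j => exists_kb (isCompact_of_affine h𝔛 hU) (e j) (hM U (e j))
  have hS : relSub h𝔛 n r ≤ LinearMap.ker (Finsupp.linearCombination (O (𝔛.Osh h𝔛.1) U) e) := by
    refine Submodule.span_le.2 ?_
    rintro f (⟨k, rfl⟩ | ⟨j, x, hx, rfl⟩)
    · exact hr.1 k
    · change Finsupp.linearCombination (O (𝔛.Osh h𝔛.1) U) e (Finsupp.single j x) = 0
      rw [Finsupp.linearCombination_single]
      exact (kb_iff h𝔛 hU M (n j) (e j)).1 (hn j) x hx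
  let φ : ((I →₀ O (𝔛.Osh h𝔛.1) U) ⧸ relSub h𝔛 n r) →ₗ[O (𝔛.Osh h𝔛.1) U] Sec M U :=
    (relSub h𝔛 n r).liftQ _ hS
  have hφ : ∀ f : I →₀ O (𝔛.Osh h𝔛.1) U, φ ((relSub h𝔛 n r).mkQ f) = f.sum fun j x => x • e j := fun f => rfl
  have hN : ∀ f : (I →₀ O (𝔛.Osh h𝔛.1) U) ⧸ relSub h𝔛 n r, ∃ q : ℕ, ∀ x : O (𝔛.Osh h𝔛.1) U,
      prO q U x = 0 → x • f = 0 := by
    intro f
    obtain ⟨f, rfl⟩ := (relSub h𝔛 n r).mkQ_surjective f
    refine ⟨f.support.sup n, fun x hx => ?_⟩
    rw [← map_smul, Submodule.mkQ_apply, Submodule.Quotient.mk_eq_zero]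
    apply sum_mem
    intro j
    rw [Finsupp.smul_apply, smul_eq_mul, map_mul]
    by_cases hj : j ∈ f.support
    · rw [prO_zero_of_le (Finset.le_sup hj) hx, zero_mul]
    · rw [Finsupp.notMem_support_iff.1 hj, map_zero, mul_zero]
  have key := locGen h𝔛 hU (M := M) (fun a t => exists_kb (isCompact_Do h𝔛 hU a) t (hM _ t)) φ hN ?_ ?_
  · -- conclusion
    have h1 := key 1
    have h2 := key a
    have hsurj : ∀ s : Sec M U, ∃ f, φ f = s := by
      intro s
      obtain ⟨m, f, hf⟩ := h1.2 (res M (Do_le h𝔛 1) s)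
      refine ⟨f, ?_⟩
      rw [map_one, one_pow, one_smul] at hf
      have h3 := congrArg (res M (Do_one h𝔛 U).ge) hf
      rw [res_res, res_res, res_self, res_self] at h3
      exact h3
    refine ⟨fun s hs => ?_, fun t => ?_⟩
    · obtain ⟨f, rfl⟩ := hsurj s
      obtain ⟨m, hm⟩ := h2.1 f hs
      exact ⟨m, by rw [← φ.map_smul, hm, map_zero]⟩
    · obtain ⟨m, f, hf⟩ := h2.2 t
      exact ⟨m, φ f, hf⟩
  · -- local surjectivity
    intro a t x hx
    obtain ⟨V', h', hxV', c, hc⟩ := hg (Do h𝔛 a) (Do_le h𝔛 a) t x hx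
    obtain ⟨b, hxb, hb⟩ := exists_Do h𝔛 hU (h'.trans (Do_le h𝔛 a)) hxV'
    refine ⟨b, hxb, hb.trans h', ?_⟩
    choose k g hg' using fun j => exists_lift h𝔛 hU b (n j) (resO hb (c j))
    let m := c.support.sup k
    have hm : ∀ j ∈ c.support, k j ≤ m := fun j hj => Finset.le_sup hj
    refine ⟨m, (relSub h𝔛 n r).mkQ (∑ j ∈ c.support, Finsupp.single j (b ^ (m - k j) * g j)), ?_⟩
    have h1 : res M (hb.trans h') t = ∑ j ∈ c.support, resO hb (c j) • res M (Do_le h𝔛 b) (e j) := by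
      have := congrArg (res M hb) hc
      rw [res_res, Finsupp.sum, map_sum] at this
      rw [this]
      exact Finset.sum_congr rfl fun j _ => by rw [res_smul, res_res]
    have h2 : φ ((relSub h𝔛 n r).mkQ (∑ j ∈ c.support, Finsupp.single j (b ^ (m - k j) * g j))) =
        ∑ j ∈ c.support, (b ^ (m - k j) * g j) • e j := by
      rw [map_sum, map_sum]
      refine Finset.sum_congr rfl fun j _ => ?_
      rw [hφ]
      exact Finsupp.sum_single_index (zero_smul _ (e j))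
    rw [h2, h1, map_sum, Finset.smul_sum]
    refine Finset.sum_congr rfl fun j hj => ?_
    rw [res_smul, ← mul_smul]
    apply res_smul_eq h𝔛 ((hn j).res (Do_le h𝔛 b))
    rw [map_mul, map_mul, ← hg' j, ← map_mul, ← mul_assoc, map_pow, ← pow_add, Nat.sub_add_cancel (hm j hj)]
  · -- local injectivity
    intro f a hf x hx
    obtain ⟨f, rfl⟩ := (relSub h𝔛 n r).mkQ_surjective f
    have hf1 : ((rF h𝔛 (Do_le h𝔛 a) f).sum fun j x => x • res M (Do_le h𝔛 a) (e j)) = 0 := by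
      rw [hφ] at hf
      have := res_sum h𝔛 (M := M) (le_refl U) (Do_le h𝔛 a) e f
      simp only [res_self] at this
      rw [← this]
      exact hf
    obtain ⟨V', h', hxV', d, hd⟩ := hr.2 _ (Do_le h𝔛 a) _ hf1 x hx
    obtain ⟨b, hxb, hb⟩ := exists_Do h𝔛 hU (h'.trans (Do_le h𝔛 a)) hxV'
    refine ⟨b, hxb, ?_⟩
    let F : Finset I := f.support ∪ d.support.biUnion fun k => (r k).support
    let q := F.sup n
    choose κ δ hδ using fun k => exists_lift h𝔛 hU b q (resO hb (d k))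
    let m := d.support.sup κ
    have hm : ∀ k ∈ d.support, κ k ≤ m := fun j hj => Finset.le_sup hj
    let z : I → O (𝔛.Osh h𝔛.1) U := fun j => b ^ m * f j - ∑ k ∈ d.support, (b ^ (m - κ k) * δ k) * r k j
    have hz : ∀ j, prO q (Do h𝔛 b) (resO (Do_le h𝔛 b) (z j)) = 0 := by
      intro j
      have h3 : resO (Do_le h𝔛 b) (f j) = ∑ k ∈ d.support, resO hb (d k) * resO (Do_le h𝔛 b) (r k j) := by
        have h4 := congrArg (resO hb) (hd j)
        rw [Finsupp.sum, map_sum] at h4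
        have h5 : resO h' (rF h𝔛 (Do_le h𝔛 a) f j) = resO (h'.trans (Do_le h𝔛 a)) (f j) := resO_resO _ _ _
        rw [h5, resO_resO] at h4
        rw [h4]
        exact Finset.sum_congr rfl fun k _ => by rw [map_mul, resO_resO]
      change prO q (Do h𝔛 b) (resO (Do_le h𝔛 b) (b ^ m * f j - ∑ k ∈ d.support, _)) = 0
      rw [map_sub, map_sub, sub_eq_zero, map_mul, h3, Finset.mul_sum, map_sum, map_sum, map_sum]
      refine Finset.sum_congr rfl fun k hk => ?_
      have h6 : resO (Do_le h𝔛 b) (b ^ m) * (resO hb (d k) * resO (Do_le h𝔛 b) (r k j)) =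
          resO (Do_le h𝔛 b) (b ^ (m - κ k)) * (resO (Do_le h𝔛 b) b ^ κ k * resO hb (d k)) *
            resO (Do_le h𝔛 b) (r k j) := by
        rw [← map_pow (resO (Do_le h𝔛 b)) b (κ k), ← mul_assoc (resO (Do_le h𝔛 b) (b ^ (m - κ k))), ← map_mul,
          ← pow_add, Nat.sub_add_cancel (hm k hk), mul_assoc]
      rw [h6, map_mul, map_mul, hδ k, ← map_mul, ← map_mul, ← map_mul, ← map_mul]
    choose p hp using fun j => exists_kill h𝔛 hU b q (z j) (hz j)
    let P := F.sup p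
    refine ⟨P + m, ?_⟩
    rw [← map_smul, Submodule.mkQ_apply, Submodule.Quotient.mk_eq_zero]
    have hF : ∀ j, j ∉ F → f j = 0 ∧ ∀ k ∈ d.support, r k j = 0 := by
      intro j hj
      rw [Finset.mem_union, not_or] at hj
      refine ⟨Finsupp.notMem_support_iff.1 hj.1, fun k hk => ?_⟩
      by_contra h7
      exact hj.2 (Finset.mem_biUnion.2 ⟨k, hk, Finsupp.mem_support_iff.2 h7⟩)
    have h8 : b ^ (P + m) • f = ∑ k ∈ d.support, (b ^ P * (b ^ (m - κ k) * δ k)) • r k +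
        ∑ j ∈ F, Finsupp.single j (b ^ P * z j) := by
      ext j
      rw [Finsupp.add_apply, Finsupp.finsetSum_apply, Finsupp.finsetSum_apply, Finsupp.smul_apply, smul_eq_mul]
      simp only [Finsupp.smul_apply, smul_eq_mul, Finsupp.single_apply]
      by_cases hj : j ∈ F
      · rw [Finset.sum_ite_eq' F j, if_pos hj]
        change _ = _ + b ^ P * (b ^ m * f j - ∑ k ∈ d.support, (b ^ (m - κ k) * δ k) * r k j)
        rw [mul_sub, Finset.mul_sum]
        have h9 : ∑ k ∈ d.support, b ^ P * (b ^ (m - κ k) * δ k) * (r k) j =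
            ∑ k ∈ d.support, b ^ P * ((b ^ (m - κ k) * δ k) * r k j) :=
          Finset.sum_congr rfl fun k _ => mul_assoc _ _ _
        rw [h9, pow_add]
        ring
      · rw [Finset.sum_ite_eq' F j, if_neg hj, (hF j hj).1, mul_zero, add_zero]
        exact (Finset.sum_eq_zero fun k hk => by rw [(hF j hj).2 k hk, mul_zero]).symm
    rw [h8]
    refine Submodule.add_mem _ (Submodule.sum_mem _ fun k _ => Submodule.smul_mem _ _ (rel_mem h𝔛 n r k))
      (Submodule.sum_mem _ fun j hj => single_mem h𝔛 n r ?_)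
    have h11 : prO q U (b ^ P * z j) = 0 := by
      have h12 : b ^ P * z j = b ^ (P - p j) * (b ^ p j * z j) := by
        rw [← mul_assoc, ← pow_add, Nat.sub_add_cancel (Finset.le_sup (f := p) hj)]
      rw [h12, map_mul, hp j, mul_zero]
    exact prO_zero_of_le (Finset.le_sup hj) h11

theorem ker_prO_D (b : O (𝔛.Osh h𝔛.1) U) (q : ℕ) :
    RingHom.ker (prO (h := h𝔛.1) q (Do h𝔛 b)) =
      (RingHom.ker (prO (h := h𝔛.1) q U)).map (resO (Do_le h𝔛 b)) := by
  have h1 := ker_prO h𝔛 (isAffineOpen_Do h𝔛 hU b) q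
  have h2 := ker_prO h𝔛 hU q
  have h3 := map_II h𝔛 hU (isAffineOpen_Do h𝔛 hU b) (Do_le h𝔛 b)
  rw [h1, h2]
  exact (congrArg (· ^ (q + 1)) h3).symm.trans (Ideal.map_pow _ _ _).symm

theorem gen_rel_of_locOn {M : FSch.ModF 𝔛 h𝔛.1} (hM : FTors.IsTorsF 𝔛 h𝔛.1 M)
    (hl : ∀ a : O (𝔛.Osh h𝔛.1) U, LocOn M a (Do h𝔛 a) (Do_le h𝔛 a)) :
    ∃ (I K : Type u) (e : I → Sec M U) (r : K → I →₀ O (𝔛.Osh h𝔛.1) U), LG M U e ∧ LR M U e r := by
  classical
  refine ⟨Sec M U, {r : Sec M U →₀ O (𝔛.Osh h𝔛.1) U // (r.sum fun s a => a • s) = 0}, fun s => s,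
    fun r => r.1, ?_, fun k => k.2, ?_⟩
  · intro V hV t x hx
    obtain ⟨b, hxb, hb⟩ := exists_Do h𝔛 hU hV hx
    obtain ⟨N, s, hs⟩ := (hl b).2 (res M hb t)
    obtain ⟨w, hw⟩ := ((isUnit_Do h𝔛 b).pow N).exists_left_inv
    refine ⟨Do h𝔛 b, hb, hxb, Finsupp.single s w, ?_⟩
    refine Eq.trans ?_ (Finsupp.sum_single_index (zero_smul _ (res M (hb.trans hV) s))).symm
    rw [hs, ← mul_smul, hw, one_smul]
  · intro V hV c hc x hx
    obtain ⟨b, hxb, hb⟩ := exists_Do h𝔛 hU hV hx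
    refine ⟨Do h𝔛 b, hb, hxb, ?_⟩
    choose n hn using fun s : Sec M U => exists_kb (isCompact_of_affine h𝔛 hU) s (hM U s)
    let q := c.support.sup n
    choose κ γ hγ using fun s => exists_lift h𝔛 hU b q (resO hb (c s))
    let m := c.support.sup κ
    have hm : ∀ k ∈ c.support, κ k ≤ m := fun j hj => Finset.le_sup hj
    have hγ' : ∀ s ∈ c.support, prO q (Do h𝔛 b) (resO (Do_le h𝔛 b) b ^ m * resO hb (c s)) =
        prO q (Do h𝔛 b) (resO (Do_le h𝔛 b) (b ^ (m - κ s) * γ s)) := by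
      intro s hs
      have e1 : resO (Do_le h𝔛 b) b ^ m * resO hb (c s) =
          resO (Do_le h𝔛 b) (b ^ (m - κ s)) * (resO (Do_le h𝔛 b) b ^ κ s * resO hb (c s)) := by
        rw [map_pow, ← mul_assoc, ← pow_add, Nat.sub_add_cancel (hm s hs)]
      rw [e1, map_mul, hγ s, ← map_mul, ← map_mul]
    let f : Sec M U →₀ O (𝔛.Osh h𝔛.1) U :=
      ∑ s ∈ c.support, Finsupp.single s (b ^ (m - κ s) * γ s)
    have hf : ∀ s, f s = if s ∈ c.support then b ^ (m - κ s) * γ s else 0 := by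
      intro s
      change (∑ s ∈ c.support, Finsupp.single s (b ^ (m - κ s) * γ s)) s = _
      rw [Finsupp.finsetSum_apply]
      simp only [Finsupp.single_apply]
      rw [Finset.sum_ite_eq' c.support s]
    have hfs : (f.sum fun s a => a • s) = ∑ s ∈ c.support, (b ^ (m - κ s) * γ s) • s := by
      change Finsupp.linearCombination (O (𝔛.Osh h𝔛.1) U) (fun s : Sec M U => s)
        (∑ s ∈ c.support, Finsupp.single s (b ^ (m - κ s) * γ s)) = _
      rw [map_sum]
      exact Finset.sum_congr rfl fun s _ => Finsupp.linearCombination_single _ _ _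
    have hres : res M (Do_le h𝔛 b) (f.sum fun s a => a • s) = 0 := by
      rw [hfs, map_sum]
      have h1 := congrArg (fun z => resO (Do_le h𝔛 b) b ^ m • res M hb z) hc
      simp only [map_zero, smul_zero] at h1
      rw [← h1, Finsupp.sum, map_sum, Finset.smul_sum]
      refine Finset.sum_congr rfl fun s hs => ?_
      rw [res_smul, res_smul, res_res, ← mul_smul]
      apply res_smul_eq h𝔛 (((hn s).mono (Finset.le_sup hs)).res (Do_le h𝔛 b))
      exact (hγ' s hs).symm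
    obtain ⟨N, hN⟩ := (hl b).1 _ hres
    let K := {r : Sec M U →₀ O (𝔛.Osh h𝔛.1) U // (r.sum fun s a => a • s) = 0}
    let S := Submodule.span (O (𝔛.Osh h𝔛.1) (Do h𝔛 b)) (Set.range fun k : K => rF h𝔛 (Do_le h𝔛 b) k.1)
    have hmem : ∀ k : K, rF h𝔛 (Do_le h𝔛 b) k.1 ∈ S := fun k => Submodule.subset_span ⟨k, rfl⟩
    have h2 : rF h𝔛 (Do_le h𝔛 b) (b ^ N • f) ∈ S := by
      refine hmem ⟨b ^ N • f, ?_⟩
      have h3 := (Finsupp.linearCombination (O (𝔛.Osh h𝔛.1) U) (fun s : Sec M U => s)).map_smul (b ^ N) f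
      exact h3.trans hN
    have h3 : ∀ s ∈ c.support, ∀ z, prO q (Do h𝔛 b) z = 0 → Finsupp.single s z ∈ S := by
      intro s hs
      have h4 : RingHom.ker (prO (h := h𝔛.1) q (Do h𝔛 b)) ≤
          S.comap (Finsupp.lsingle (R := O (𝔛.Osh h𝔛.1) (Do h𝔛 b)) s) := by
        rw [ker_prO_D h𝔛 hU, Ideal.map, Ideal.span_le]
        rintro _ ⟨x, hx, rfl⟩
        have h5 := hmem ⟨Finsupp.single s x, (Finsupp.sum_single_index (zero_smul _ s)).trans
          ((kb_iff h𝔛 hU M _ s).1 ((hn s).mono (Finset.le_sup hs)) x hx)⟩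
        have h6 : rF h𝔛 (Do_le h𝔛 b) (Finsupp.single s x) = Finsupp.single s (resO (Do_le h𝔛 b) x) :=
          Finsupp.mapRange_single
        have h7 : Finsupp.single s (resO (Do_le h𝔛 b) x) ∈ S := by
          rw [← h6]
          exact h5
        exact h7
      intro z hz
      exact h4 hz
    have h4 : resO (Do_le h𝔛 b) b ^ (N + m) • rF h𝔛 hb c ∈ S := by
      have h5 : resO (Do_le h𝔛 b) b ^ (N + m) • rF h𝔛 hb c = rF h𝔛 (Do_le h𝔛 b) (b ^ N • f) +
          ∑ s ∈ c.support, Finsupp.single s (resO (Do_le h𝔛 b) b ^ N *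
            (resO (Do_le h𝔛 b) b ^ m * resO hb (c s) - resO (Do_le h𝔛 b) (b ^ (m - κ s) * γ s))) := by
        ext s
        rw [Finsupp.add_apply, Finsupp.finsetSum_apply, Finsupp.smul_apply, smul_eq_mul]
        simp only [Finsupp.single_apply]
        rw [Finset.sum_ite_eq' c.support s]
        have h6 : rF h𝔛 (Do_le h𝔛 b) (b ^ N • f) s = resO (Do_le h𝔛 b) (b ^ N * f s) := rfl
        have h7 : rF h𝔛 hb c s = resO hb (c s) := rfl
        rw [h6, h7, hf s]
        split_ifs with hs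
        · rw [map_mul, map_pow, pow_add]
          ring
        · rw [Finsupp.notMem_support_iff.1 hs, map_zero, mul_zero, mul_zero, map_zero, add_zero]
      rw [h5]
      refine Submodule.add_mem _ h2 (Submodule.sum_mem _ fun s hs => h3 s hs _ ?_)
      rw [map_mul, map_sub, hγ' s hs, sub_self, mul_zero]
    have h5 : rF h𝔛 hb c ∈ S := by
      obtain ⟨w, hw⟩ := ((isUnit_Do h𝔛 b).pow (N + m)).exists_left_inv
      have := S.smul_mem w h4
      rwa [← mul_smul, hw, one_smul] at this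
    obtain ⟨d, hd⟩ := (Finsupp.mem_span_range_iff_exists_finsupp).1 h5
    refine ⟨d, fun s => ?_⟩
    have h6 : (d.sum fun k a => a • rF h𝔛 (Do_le h𝔛 b) k.1) s = rF h𝔛 hb c s := by rw [hd]
    rw [Finsupp.sum, Finsupp.finsetSum_apply] at h6
    exact h6.symm

end K919.QCLoc
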