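import Groth.Agent.Gaga.H976.TM2

/-!
# Presentations of sheaves of modules on a site with arbitrary index sets, elementwise

* `Gen s`: the sections `s i` (`i : I`, `I` arbitrary) generate locally;
* `gen_free`: the sections `freeSection i` generate the free sheaf of modules `R^(I)` locally;
* `epi_iff_gen`;
* `rel_of_presentation`, `presentation_of_gen_rel`.
-/

set_option autoImplicit false

universe u

open CategoryTheory CategoryTheory.Limits Opposite

namespace K919.QCSite

open Groth.Agent.Gaga.H976.TM0 Groth.Agent.Gaga.H976.TM1 Groth.Agent.Gaga.H976.TM2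

variable {C : Type u} [SmallCategory C] {J : GrothendieckTopology C} {R : Sheaf J RingCat.{u}}

/-- linear combinations of the values of a family of sections -/
noncomputable def lc {M : SheafOfModules.{u} R} {I : Type u} (s : I → M.sections) (X : C)
    (c : I →₀ R.obj.obj (op X)) : M.val.obj (op X) :=
  Finsupp.linearCombination (R.obj.obj (op X)) (fun j => sec (s j) (op X)) c

lemma lc_eq {M : SheafOfModules.{u} R} {I : Type u} (s : I → M.sections) (X : C)
    (c : I →₀ R.obj.obj (op X)) : lc s X c = c.sum fun j a => a • sec (s j) (op X) := rfl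

/-- The sections `s i` generate `M` locally. -/
def Gen {M : SheafOfModules.{u} R} {I : Type u} (s : I → M.sections) : Prop :=
  ∀ (X : C) (t : M.val.obj (op X)), ∃ S : Sieve X, S ∈ J X ∧
    ∀ ⦃Y : C⦄ (g : Y ⟶ X), S.arrows g →
      ∃ c : I →₀ R.obj.obj (op Y), M.val.restrictₛₗ g.op t = lc s Y c

/-- Restriction of coefficients. -/
noncomputable def rc {I : Type u} {X Y : C} (g : Y ⟶ X) (c : I →₀ R.obj.obj (op X)) :
    I →₀ R.obj.obj (op Y) := c.mapRange (R.obj.map g.op).hom (map_zero _)

lemma rc_apply {I : Type u} {X Y : C} (g : Y ⟶ X) (c : I →₀ R.obj.obj (op X)) (i : I) :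
    rc g c i = R.obj.map g.op (c i) := rfl

lemma lc_rc {M : SheafOfModules.{u} R} {I : Type u} (s : I → M.sections) {X Y : C} (g : Y ⟶ X)
    (c : I →₀ R.obj.obj (op X)) : lc s Y (rc g c) = M.val.restrictₛₗ g.op (lc s X c) := by
  rw [lc_eq, lc_eq, rc]
  refine (Finsupp.sum_mapRange_index (fun j => zero_smul _ (sec (s j) (op Y)))).trans ?_
  rw [Finsupp.sum, Finsupp.sum, map_sum]
  refine Finset.sum_congr rfl fun j _ => ?_
  rw [map_smulₛₗ, sec_map]

section Sub

variable {M : SheafOfModules.{u} R} {I : Type u} (s : I → M.sections)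

/-- The sections which are locally linear combinations of the `s i`. -/
def genSub : M.val.Submodule where
  obj X :=
    { carrier := {t | ∃ S : Sieve X.unop, S ∈ J X.unop ∧ ∀ ⦃Y : C⦄ (g : Y ⟶ X.unop), S.arrows g →
        ∃ c : I →₀ R.obj.obj (op Y), M.val.restrictₛₗ g.op t = lc s Y c}
      zero_mem' := ⟨⊤, J.top_mem _, fun Y g _ => ⟨0, by
        rw [map_zero]; exact (Finsupp.linearCombination (R.obj.obj (op Y)) _).map_zero.symm⟩⟩
      add_mem' := by
        rintro a b ⟨S, hS, h⟩ ⟨S', hS', h'⟩
        refine ⟨S ⊓ S', J.intersection_covering hS hS', fun Y g hg => ?_⟩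
        obtain ⟨c, hc⟩ := h g hg.1
        obtain ⟨c', hc'⟩ := h' g hg.2
        refine ⟨c + c', ?_⟩
        rw [map_add, hc, hc']
        exact ((Finsupp.linearCombination (R.obj.obj (op Y)) _).map_add c c').symm
      smul_mem' := by
        rintro r a ⟨S, hS, h⟩
        refine ⟨S, hS, fun Y g hg => ?_⟩
        obtain ⟨c, hc⟩ := h g hg
        refine ⟨(R.obj.map g.op).hom r • c, ?_⟩
        rw [map_smulₛₗ, hc]
        exact ((Finsupp.linearCombination (R.obj.obj (op Y)) _).map_smul _ c).symm }
  map {X Y} f := by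
    rintro t ⟨S, hS, h⟩
    refine ⟨S.pullback f.unop, J.pullback_stable f.unop hS, fun Z g hg => ?_⟩
    obtain ⟨c, hc⟩ := h (g ≫ f.unop) hg
    refine ⟨c, ?_⟩
    rw [← hc]
    exact (M.val.map_comp_apply f g.op t).symm

lemma mem_genSub {X : Cᵒᵖ} (t : M.val.obj X) : t ∈ (genSub s).obj X ↔
    ∃ S : Sieve X.unop, S ∈ J X.unop ∧ ∀ ⦃Y : C⦄ (g : Y ⟶ X.unop), S.arrows g →
        ∃ c : I →₀ R.obj.obj (op Y), M.val.restrictₛₗ g.op t = lc s Y c := Iff.rfl

lemma genSub_local {X : Cᵒᵖ} (t : M.val.obj X) (S : Sieve X.unop) (hS : S ∈ J X.unop)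
    (h : ∀ ⦃Y : C⦄ (g : Y ⟶ X.unop), S.arrows g → M.val.restrictₛₗ g.op t ∈ (genSub s).obj (op Y)) :
    t ∈ (genSub s).obj X := by
  rw [mem_genSub]
  choose! S' hS' hc using h
  refine ⟨Sieve.bind S.arrows (fun Y g _ => S' g), J.bind_covering hS (fun Y g hg => hS' g hg), ?_⟩
  rintro Z f ⟨Y, g, k, hk, hg, rfl⟩
  obtain ⟨c, hc⟩ := hc k hk g hg
  refine ⟨c, ?_⟩
  rw [← hc]
  exact M.val.map_comp_apply k.op g.op t

/-- The subsheaf of modules generated by the `s i`. -/
noncomputable def genSheaf : SheafOfModules.{u} R where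
  val := (genSub s).toPresheafOfModules
  isSheaf := by
    have hM : Presieve.IsSheaf J (M.val.presheaf ⋙ forget Ab.{u}) :=
      (isSheaf_iff_isSheaf_of_type J _).1
        ((Presheaf.isSheaf_iff_isSheaf_forget J M.val.presheaf (forget Ab.{u})).1 M.isSheaf)
    let G : Subfunctor (M.val.presheaf ⋙ forget Ab.{u}) :=
      { obj := fun X => {t | t ∈ (genSub s).obj X}
        map := fun f _ ht => (genSub s).map f ht }
    let e : (genSub s).toPresheafOfModules.presheaf ⋙ forget Ab.{u} ≅ G.toFunctor :=
      NatIso.ofComponents (fun X => Equiv.toIso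
        { toFun := fun s => ⟨s.1, s.2⟩
          invFun := fun s => ⟨s.1, s.2⟩
          left_inv := fun _ => rfl
          right_inv := fun _ => rfl }) (fun _ => rfl)
    rw [Presheaf.isSheaf_iff_isSheaf_forget J _ (forget Ab.{u}), isSheaf_iff_isSheaf_of_type]
    refine Presieve.isSheaf_iso J e.symm ((G.isSheaf_iff hM).2 ?_)
    intro X t ht
    exact genSub_local s t _ ht fun Y g hg => hg

/-- The inclusion of the subsheaf generated. -/
noncomputable def genι : genSheaf s ⟶ M := ⟨(genSub s).ι⟩

lemma genι_apply {X : Cᵒᵖ} (t : (genSheaf s).val.obj X) :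
    (genι s).val.app X t = (show (genSub s).obj X from t).1 := rfl

lemma sec_mem (j : I) (X : Cᵒᵖ) : sec (s j) X ∈ (genSub s).obj X := by
  rw [mem_genSub]
  refine ⟨⊤, J.top_mem _, fun Y g _ => ⟨Finsupp.single j 1, ?_⟩⟩
  rw [sec_map]
  refine Eq.symm ((Finsupp.linearCombination_single _ _ _).trans ?_)
  exact one_smul _ _

/-- The `s i` as sections of the subsheaf. -/
noncomputable def genSec (j : I) : (genSheaf s).sections :=
  ⟨fun X => ⟨sec (s j) X, sec_mem s j X⟩, fun {_ _} f => Subtype.ext (sec_map (s j) f)⟩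

end Sub

/-- The standard sections generate the free sheaf of modules. -/
theorem gen_free (I : Type u) : Gen (fun j : I => SheafOfModules.freeSection (R := R) j) := by
  intro X t
  let s : I → (SheafOfModules.free (R := R) I).sections := fun j => SheafOfModules.freeSection j
  let r : SheafOfModules.free (R := R) I ⟶ genSheaf s := (genSheaf s).freeHomEquiv.symm (genSec s)
  have h : r ≫ genι s = 𝟙 _ := by
    apply (SheafOfModules.free (R := R) I).freeHomEquiv.injective
    funext j
    rw [SheafOfModules.freeHomEquiv_comp_apply]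
    simp only [r, Equiv.apply_symm_apply]
    rfl
  have h2 : (genι s).val.app (op X) (r.val.app (op X) t) = t :=
    congrArg (fun φ : SheafOfModules.free (R := R) I ⟶ _ => φ.val.app (op X) t) h
  rw [← h2]
  exact (mem_genSub s _).1 (show (genSub s).obj (op X) from r.val.app (op X) t).2

lemma map_lc {M N : SheafOfModules.{u} R} (f : M ⟶ N) {I : Type u} (s : I → M.sections) (X : C)
    (c : I →₀ R.obj.obj (op X)) :
    f.val.app (op X) (lc s X c) = lc (fun j => SheafOfModules.sectionsMap f (s j)) X c := by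
  rw [lc_eq, lc_eq, Finsupp.sum, map_sum]
  refine Finset.sum_congr rfl fun j _ => ?_
  exact (f.val.app (op X)).hom.map_smul _ _

lemma map_lc_free {M : SheafOfModules.{u} R} {I : Type u} (s : I → M.sections) (X : C)
    (c : I →₀ R.obj.obj (op X)) :
    (M.freeHomEquiv.symm s).val.app (op X) (lc (fun j : I => SheafOfModules.freeSection (R := R) j) X c) =
      lc s X c := by
  rw [map_lc]
  congr 1
  funext j
  exact congrFun (M.freeHomEquiv.apply_symm_apply s) j

theorem epi_iff_gen {M : SheafOfModules.{u} R} {I : Type u} (s : I → M.sections) :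
    Epi (M.freeHomEquiv.symm s) ↔ Gen s := by
  rw [epi_iff]
  constructor
  · intro h X t
    obtain ⟨S, hS, h⟩ := h X t
    have h' : ∀ ⦃Y : C⦄ (g : Y ⟶ X), S.arrows g → ∃ S' : Sieve Y, S' ∈ J Y ∧
        ∀ ⦃Z : C⦄ (k : Z ⟶ Y), S'.arrows k →
          ∃ c : I →₀ R.obj.obj (op Z), M.val.restrictₛₗ (k ≫ g).op t = lc s Z c := by
      intro Y g hg
      obtain ⟨a, ha⟩ := h g hg
      obtain ⟨S', hS', hc⟩ := gen_free (R := R) I Y a
      refine ⟨S', hS', fun Z k hk => ?_⟩
      obtain ⟨c, hc⟩ := hc k hk
      refine ⟨c, ?_⟩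
      rw [← map_lc_free, ← hc, app_res, ha]
      exact M.val.map_comp_apply g.op k.op t
    choose! S' hS' hc using h'
    refine ⟨Sieve.bind S.arrows (fun Y g _ => S' g), J.bind_covering hS (fun Y g hg => hS' g hg), ?_⟩
    rintro Z f ⟨Y, g, k, hk, hg, rfl⟩
    exact hc k hk g hg
  · intro h X t
    obtain ⟨S, hS, h⟩ := h X t
    refine ⟨S, hS, fun Y g hg => ?_⟩
    obtain ⟨c, hc⟩ := h g hg
    exact ⟨_, (map_lc_free s Y c).trans hc.symm⟩

section Co

open Classical in
lemma co_lc {I : Type u} (X : C) (c : I →₀ R.obj.obj (op X)) (i : I) :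
    co (lc (fun j : I => SheafOfModules.freeSection (R := R) j) X c) i = c i := by
  unfold co
  rw [map_lc, lc_eq, Finsupp.sum]
  have h : ∀ j : I, c j • sec (SheafOfModules.sectionsMap (coord R i) (SheafOfModules.freeSection j)) (op X) =
      if j = i then (show (SheafOfModules.unit R).val.obj (op X) from c j) else 0 := by
    intro j
    have h2 : SheafOfModules.sectionsMap (coord R i) (SheafOfModules.freeSection j) =
      (SheafOfModules.unit R).unitHomEquiv (SheafOfModules.ιFree j ≫ coord R i) := rfl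
    rw [h2, ιFree_coord]
    split_ifs with hj
    · exact mul_one (c j)
    · exact mul_zero (c j)
  refine (Finset.sum_congr rfl fun j _ => h j).trans ?_
  refine (Finset.sum_ite_eq' c.support i _).trans ?_
  split_ifs with hi
  · rfl
  · exact (Finsupp.notMem_support_iff.1 hi).symm

open Classical in
/-- An element of `R^(I)(X)` is determined by its coordinates. -/
lemma ext_co {I : Type u} {X : C} (t t' : (SheafOfModules.free (R := R) I).val.obj (op X))
    (h : ∀ i, co t i = co t' i) : t = t' := by
  have hM := (isSheaf_iff_isSheaf_of_type J _).1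
    ((Presheaf.isSheaf_iff_isSheaf_forget J (SheafOfModules.free (R := R) I).val.presheaf (forget Ab.{u})).1
      (SheafOfModules.free (R := R) I).isSheaf)
  obtain ⟨S, hS, h1⟩ := gen_free (R := R) I X (t - t')
  refine (hM.isSeparated S hS).ext fun Y g hg => ?_
  obtain ⟨c, hc⟩ := h1 g hg
  have hc0 : c = 0 := by
    ext i
    rw [← co_lc Y c i, ← hc, co_map]
    have h3 : co (t - t') i = 0 := by
      have := ((coord R i).val.app (op X)).hom.map_sub t t'
      refine this.trans ?_
      exact sub_eq_zero.2 (h i)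
    rw [h3, map_zero]
    rfl
  rw [hc0] at hc
  have h4 : (SheafOfModules.free (R := R) I).val.restrictₛₗ g.op (t - t') = 0 :=
    hc.trans (Finsupp.linearCombination (R.obj.obj (op Y)) _).map_zero
  rw [map_sub, sub_eq_zero] at h4
  exact h4

end Co

/-- The sections `q k` of `R^(I)` are relations between the `s i` and generate all relations locally. -/
def Rel {M : SheafOfModules.{u} R} {I K : Type u} (s : I → M.sections)
    (q : K → (SheafOfModules.free (R := R) I).sections) : Prop :=
  (∀ (k : K) (X : Cᵒᵖ), (M.freeHomEquiv.symm s).val.app X (sec (q k) X) = 0) ∧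
  ∀ (X : C) (c : I →₀ R.obj.obj (op X)), lc s X c = 0 →
    ∃ S : Sieve X, S ∈ J X ∧ ∀ ⦃Y : C⦄ (g : Y ⟶ X), S.arrows g →
      ∃ d : K →₀ R.obj.obj (op Y),
        lc (fun j : I => SheafOfModules.freeSection (R := R) j) Y (rc g c) = lc q Y d

theorem exists_rel {M : SheafOfModules.{u} R} (P : M.Presentation) :
    ∃ q : P.relations.I → (SheafOfModules.free (R := R) P.generators.I).sections, Rel P.generators.s q := by
  refine ⟨fun k => SheafOfModules.sectionsMap (kernel.ι P.generators.π) (P.relations.s k), ?_, ?_⟩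
  · intro k X
    have h2 : P.generators.π.val.app X (sec (SheafOfModules.sectionsMap (kernel.ι P.generators.π)
        (P.relations.s k)) X) =
        (kernel.ι P.generators.π ≫ P.generators.π).val.app X (sec (P.relations.s k) X) := rfl
    refine h2.trans ?_
    rw [kernel.condition]
    rfl
  · intro X c hc
    obtain ⟨k0, hk0⟩ := exists_kernel P.generators.π (op X)
      (lc (fun j => SheafOfModules.freeSection (R := R) j) X c) ((map_lc_free _ _ _).trans hc)
    obtain ⟨S, hS, h⟩ := (epi_iff_gen _).1 P.relations.epi X k0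
    refine ⟨S, hS, fun Y g hg => ?_⟩
    obtain ⟨d, hd⟩ := h g hg
    refine ⟨d, ?_⟩
    rw [lc_rc, ← hk0, ← app_res, hd]
    exact map_lc _ _ _ _

/-- A morphism from the free module is determined by, and maps sections according to, its values. -/
theorem presentation_of_gen_rel {M : SheafOfModules.{u} R} {I K : Type u}
    (s : I → M.sections) (q : K → (SheafOfModules.free (R := R) I).sections) (hs : Gen s) (hr : Rel s q) :
    Nonempty M.Presentation := by
  have hepi : Epi (M.freeHomEquiv.symm s) := (epi_iff_gen s).2 hs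
  let σ : M.GeneratingSections := ⟨I, s, hepi⟩
  have hπ : ∀ k, (SheafOfModules.free (R := R) I).unitHomEquiv.symm (q k) ≫ σ.π = 0 := by
    intro k
    apply M.unitHomEquiv.injective
    apply Subtype.ext
    funext X
    have h1 : (M.unitHomEquiv ((SheafOfModules.free (R := R) I).unitHomEquiv.symm (q k) ≫ σ.π)) =
      SheafOfModules.sectionsMap σ.π (q k) := by
      rw [SheafOfModules.unitHomEquiv_comp_apply, Equiv.apply_symm_apply]
    rw [h1]
    exact hr.1 k X
  let q' : K → (kernel σ.π).sections :=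
    fun k => (kernel σ.π).unitHomEquiv (kernel.lift σ.π _ (hπ k))
  have hq : ∀ k, SheafOfModules.sectionsMap (kernel.ι σ.π) (q' k) = q k := by
    intro k
    have h : kernel.lift σ.π _ (hπ k) ≫ kernel.ι σ.π =
      (SheafOfModules.free (R := R) I).unitHomEquiv.symm (q k) := kernel.lift_ι _ _ _
    rw [← SheafOfModules.unitHomEquiv_comp_apply, h, Equiv.apply_symm_apply]
  have hgen : Gen q' := by
    intro X t
    obtain ⟨S, hS, h⟩ := gen_free (R := R) I X ((kernel.ι σ.π).val.app (op X) t)
    have h' : ∀ ⦃Y : C⦄ (g : Y ⟶ X), S.arrows g → ∃ S' : Sieve Y, S' ∈ J Y ∧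
        ∀ ⦃Z : C⦄ (k : Z ⟶ Y), S'.arrows k →
          ∃ d : K →₀ R.obj.obj (op Z), (kernel σ.π).val.restrictₛₗ (k ≫ g).op t = lc q' Z d := by
      intro Y g hg
      obtain ⟨c, hc⟩ := h g hg
      have h0 : lc s Y c = 0 := by
        rw [← map_lc_free, ← hc, app_res]
        have h2 : σ.π.val.app (op X) ((kernel.ι σ.π).val.app (op X) t) =
          (kernel.ι σ.π ≫ σ.π).val.app (op X) t := rfl
        have h3 : (M.freeHomEquiv.symm s).val.app (op X) ((kernel.ι σ.π).val.app (op X) t) = 0 := by
          refine h2.trans ?_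
          rw [kernel.condition]
          rfl
        rw [h3, map_zero]
      obtain ⟨S', hS', hd⟩ := hr.2 Y c h0
      refine ⟨S', hS', fun Z k hk => ?_⟩
      obtain ⟨d, hd⟩ := hd k hk
      refine ⟨d, ?_⟩
      have hmono : Function.Injective ((kernel.ι σ.π).val.app (op Z)) :=
        (mono_iff (kernel.ι σ.π)).1 inferInstance (op Z)
      apply hmono
      rw [app_res, map_lc]
      have h4 : (SheafOfModules.free (R := R) I).val.restrictₛₗ (k ≫ g).op
          ((kernel.ι σ.π).val.app (op X) t) = (SheafOfModules.free (R := R) I).val.restrictₛₗ k.op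
          ((SheafOfModules.free (R := R) I).val.restrictₛₗ g.op ((kernel.ι σ.π).val.app (op X) t)) :=
        (SheafOfModules.free (R := R) I).val.map_comp_apply g.op k.op _
      refine h4.trans ?_
      rw [hc, ← lc_rc, hd]
      congr 1
      funext k
      exact (hq k).symm
    choose! S' hS' hc using h'
    refine ⟨Sieve.bind S.arrows (fun Y g _ => S' g), J.bind_covering hS (fun Y g hg => hS' g hg), ?_⟩
    rintro Z f ⟨Y, g, k, hk, hg, rfl⟩
    exact hc k hk g hg
  exact ⟨⟨σ, ⟨K, q', (epi_iff_gen q').2 hgen⟩⟩⟩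

end K919.QCSite
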