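import Groth.Agent.FTors.K919.QCLoc
import Mathlib.AlgebraicGeometry.Noetherian

/-!
# Quasi-coherent torsion modules: `M(D(a)) = M(V)_a` for every quasi-compact open `V`

`isQCT_iff`: a module is quasi-coherent torsion iff it is torsion and, for every quasi-compact open `V` and
`a ∈ O(V)`, `M(V) → M(D(a))` is a localization at `a`.
-/

set_option autoImplicit false

universe u

open CategoryTheory CategoryTheory.Limits AlgebraicGeometry TopologicalSpace Opposite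

namespace K919.QCT

open K919.AffBasic K919.AffFlat K919.AffD K919.Kill K919.Loc K919.LocGen K919.QCK29 K919.QCLoc K29.RSec

variable {𝔛 : FSch.Sys.{u}} (h𝔛 : 𝔛.IsLocNoethFormal)

/-- Affine opens form a basis. -/
theorem exists_affine {U : (𝔛.X 0).Opens} {x : 𝔛.X 0} (hx : x ∈ U) :
    ∃ V : (𝔛.X 0).Opens, x ∈ V ∧ V ≤ U ∧ IsAffineOpen (𝔛.lvU h𝔛.1 0 V) := by
  obtain ⟨V, hV, hxV, hVU⟩ := exists_isAffineOpen_mem_and_subset hx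
  exact ⟨V, hxV, hVU, by rw [lvU_zero]; exact hV⟩

include h𝔛 in
/-- Opens of a quasi-compact open are quasi-compact. -/
theorem isCompact_of_le {V W : (𝔛.X 0).Opens} (hV : IsCompact (V : Set (𝔛.X 0))) (h : W ≤ V) :
    IsCompact (W : Set (𝔛.X 0)) := by
  have hn := h𝔛.2.2 0
  have h1 : ∀ x ∈ V, ∃ U : (𝔛.X 0).Opens, x ∈ U ∧ IsAffineOpen U := fun x hx => by
    obtain ⟨U, hU, hxU, -⟩ := exists_isAffineOpen_mem_and_subset hx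
    exact ⟨U, hxU, hU⟩
  choose U hxU hU using h1
  obtain ⟨t, ht⟩ := hV.elim_finite_subcover (fun x : V => ((U x.1 x.2 : (𝔛.X 0).Opens) : Set (𝔛.X 0)))
    (fun x => (U x.1 x.2).isOpen) (fun x hxV => Set.mem_iUnion.2 ⟨⟨x, hxV⟩, hxU x hxV⟩)
  have h2 : (W : Set (𝔛.X 0)) = ⋃ x ∈ t, ((W ⊓ U x.1 x.2 : (𝔛.X 0).Opens) : Set (𝔛.X 0)) := by
    ext y
    constructor
    · intro hy
      obtain ⟨z, hz⟩ := Set.mem_iUnion.1 (ht (h hy))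
      obtain ⟨hz1, hz2⟩ := Set.mem_iUnion.1 hz
      exact Set.mem_iUnion.2 ⟨z, Set.mem_iUnion.2 ⟨hz1, hy, hz2⟩⟩
    · intro hy
      obtain ⟨z, hz⟩ := Set.mem_iUnion.1 hy
      obtain ⟨hz1, hz2⟩ := Set.mem_iUnion.1 hz
      exact hz2.1
  rw [h2]
  refine t.finite_toSet.isCompact_biUnion fun x _ => ?_
  have h3 : IsNoetherianRing Γ(𝔛.X 0, U x.1 x.2) := IsLocallyNoetherian.component_noetherian ⟨_, hU x.1 x.2⟩
  have h4 : NoetherianSpace ((U x.1 x.2 : (𝔛.X 0).Opens) : Set (𝔛.X 0)) :=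
    noetherianSpace_of_isAffineOpen _ (hU x.1 x.2)
  exact (noetherianSpace_set_iff _).1 h4 _ (fun y hy => hy.2)

/-- `M` is cartesian on the affine opens of `U`. -/
def LC (M : FSch.ModF 𝔛 h𝔛.1) (U : (𝔛.X 0).Opens) : Prop :=
  ∀ V ≤ U, IsAffineOpen (𝔛.lvU h𝔛.1 0 V) → ∀ a : O (𝔛.Osh h𝔛.1) V, LocOn M a (Do h𝔛 a) (Do_le h𝔛 a)

/-- A finite cover by affine opens with a local property. -/
theorem exists_affine_cover {V : (𝔛.X 0).Opens} (hV : IsCompact (V : Set (𝔛.X 0)))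
    (P : (𝔛.X 0).Opens → Prop) (hP : ∀ x ∈ V, ∃ U : (𝔛.X 0).Opens, x ∈ U ∧ P U)
    (hmono : ∀ U U', U' ≤ U → P U → P U') :
    ∃ (k : ℕ) (V' : Fin k → (𝔛.X 0).Opens), (∀ i, V' i ≤ V) ∧ V ≤ ⨆ i, V' i ∧
      ∀ i, IsAffineOpen (𝔛.lvU h𝔛.1 0 (V' i)) ∧ P (V' i) := by
  have h1 : ∀ x ∈ V, ∃ U : (𝔛.X 0).Opens, x ∈ U ∧ U ≤ V ∧ IsAffineOpen (𝔛.lvU h𝔛.1 0 U) ∧ P U := by
    intro x hx
    obtain ⟨U, hxU, hPU⟩ := hP x hx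
    obtain ⟨W, hxW, hW, hWa⟩ := exists_affine h𝔛 (U := U ⊓ V) ⟨hxU, hx⟩
    exact ⟨W, hxW, hW.trans inf_le_right, hWa, hmono _ _ (hW.trans inf_le_left) hPU⟩
  choose U hxU hUV hUa hPU using h1
  obtain ⟨t, ht⟩ := hV.elim_finite_subcover (fun x : V => ((U x.1 x.2 : (𝔛.X 0).Opens) : Set (𝔛.X 0)))
    (fun x => (U x.1 x.2).isOpen) (fun x hxV => Set.mem_iUnion.2 ⟨⟨x, hxV⟩, hxU x hxV⟩)
  refine ⟨t.card, fun i => U (t.equivFin.symm i).1.1 (t.equivFin.symm i).1.2, fun i => hUV _ _, ?_,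
    fun i => ⟨hUa _ _, hPU _ _⟩⟩
  intro x hx
  obtain ⟨y, hy⟩ := Set.mem_iUnion.1 (ht hx)
  obtain ⟨hy1, hy2⟩ := Set.mem_iUnion.1 hy
  refine Opens.mem_iSup.2 ⟨t.equivFin ⟨y, hy1⟩, ?_⟩
  simp only [Equiv.symm_apply_apply]
  exact hy2

theorem LC.mono {M : FSch.ModF 𝔛 h𝔛.1} {U U' : (𝔛.X 0).Opens} (h : U' ≤ U) (hU : LC h𝔛 M U) :
    LC h𝔛 M U' := fun V hV => hU V (hV.trans h)

theorem loc1 {M : FSch.ModF 𝔛 h𝔛.1} {V : (𝔛.X 0).Opens} (hV : IsCompact (V : Set (𝔛.X 0)))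
    (hl : ∀ x ∈ V, ∃ U : (𝔛.X 0).Opens, x ∈ U ∧ LC h𝔛 M U) (a : O (𝔛.Osh h𝔛.1) V)
    (W : (𝔛.X 0).Opens) (hW : W ≤ V) (hWa : W = Do h𝔛 a)
    (s : Sec M V) (hs : res M hW s = 0) : ∃ n : ℕ, a ^ n • s = 0 := by
  classical
  subst hWa
  obtain ⟨k, V', hV', hc, h1⟩ := exists_affine_cover h𝔛 hV (LC h𝔛 M) hl (fun U U' h => LC.mono h𝔛 h)
  have h2 : ∀ i, ∃ n : ℕ, resO (hV' i) a ^ n • res M (hV' i) s = 0 := by
    intro i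
    refine ((h1 i).2 (V' i) le_rfl (h1 i).1 (resO (hV' i) a)).1 (res M (hV' i) s) ?_
    rw [res_res, ← res_res M (Do_le h𝔛 a) ((Do_resO h𝔛 _ a).le.trans inf_le_right), hs, map_zero]
  choose n hn using h2
  refine ⟨Finset.univ.sup n, eq_of_locally M V' V hc hV' _ _ fun i => ?_⟩
  rw [map_zero, res_smul, map_pow]
  exact pow_smul_eq_zero_of_le (Finset.le_sup (Finset.mem_univ i)) (hn i)

theorem locOn_congr {M : FSch.ModF 𝔛 h𝔛.1} {V W W' : (𝔛.X 0).Opens} (a : O (𝔛.Osh h𝔛.1) V) (hW : W ≤ V)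
    (hW' : W' ≤ V) (e : W = W') (h : LocOn M a W hW) : LocOn M a W' hW' := by
  subst e
  exact h

theorem locOn_of_local {M : FSch.ModF 𝔛 h𝔛.1} {V : (𝔛.X 0).Opens} (hV : IsCompact (V : Set (𝔛.X 0)))
    (hl : ∀ x ∈ V, ∃ U : (𝔛.X 0).Opens, x ∈ U ∧ LC h𝔛 M U) (a : O (𝔛.Osh h𝔛.1) V) :
    LocOn M a (Do h𝔛 a) (Do_le h𝔛 a) := by
  obtain ⟨k, V', hV', hc, h1⟩ := exists_affine_cover h𝔛 hV (LC h𝔛 M) hl (fun U U' h => LC.mono h𝔛 h)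
  refine locOn_of_cover M (Do_le h𝔛 a) a V' hV' hc (fun i => ?_) (fun i j s hs => ?_)
  · exact locOn_congr h𝔛 _ _ _ (Do_resO h𝔛 _ a) ((h1 i).2 (V' i) le_rfl (h1 i).1 (resO (hV' i) a))
  · refine loc1 h𝔛 (isCompact_of_le h𝔛 hV (inf_le_left.trans (hV' i))) (fun x hx => ?_)
      (resO (inf_le_left.trans (hV' i) : V' i ⊓ V' j ≤ V) a) _ _ (Do_resO h𝔛 _ a).symm s hs
    exact hl x (hV' i hx.1)

theorem isQCT_iff_local (M : FSch.ModF 𝔛 h𝔛.1) : FTors.IsQCT 𝔛 h𝔛.1 M ↔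
    FTors.IsTorsF 𝔛 h𝔛.1 M ∧ ∀ x : 𝔛.X 0, ∃ U : (𝔛.X 0).Opens, x ∈ U ∧ LC h𝔛 M U := by
  refine and_congr_right fun hM => ⟨fun h x => ?_, fun h => ?_⟩
  · obtain ⟨W, hxW, hW⟩ := exists_of_isQuasicoherent M h x
    refine ⟨W, hxW, fun V hV hVa a => ?_⟩
    obtain ⟨I, K, e, r, hg, hr⟩ := hW V hV (isCompact_of_affine h𝔛 hVa)
    exact locOn_of_gen_rel h𝔛 hVa hM e r hg hr a
  · apply isQuasicoherent_of
    intro x
    obtain ⟨U, hxU, hU⟩ := h x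
    obtain ⟨V, hxV, hVU, hVa⟩ := exists_affine h𝔛 hxU
    exact ⟨V, hxV, gen_rel_of_locOn h𝔛 hVa hM (hU V hVU hVa)⟩

theorem isQCT_iff (M : FSch.ModF 𝔛 h𝔛.1) : FTors.IsQCT 𝔛 h𝔛.1 M ↔
    FTors.IsTorsF 𝔛 h𝔛.1 M ∧ ∀ (V : (𝔛.X 0).Opens), IsCompact (V : Set (𝔛.X 0)) →
      ∀ a : O (𝔛.Osh h𝔛.1) V, LocOn M a (Do h𝔛 a) (Do_le h𝔛 a) := by
  rw [isQCT_iff_local h𝔛]
  refine and_congr_right fun hM => ⟨fun h V hV a => locOn_of_local h𝔛 hV (fun x _ => h x) a, fun h x => ?_⟩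
  obtain ⟨V, hxV, -, hVa⟩ := exists_affine h𝔛 (U := ⊤) (x := x) trivial
  exact ⟨V, hxV, fun W _ hWa a => h W (isCompact_of_affine h𝔛 hWa) a⟩

end K919.QCT
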