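import Groth.Agent.FTors.K919.IndCoh
import Groth.Agent.FTors.K919.QCTColim
import Groth.Agent.FSch.K180.IndGroth

/-!
# The category of quasi-coherent torsion modules

* `cq h𝔛`: coherent torsion modules, an essentially small separating class;
* `isGrothendieckAbelian_qct`: `A_qct` is a Grothendieck abelian category;
* `isLeftAdjoint_qct`: the inclusion of `A_qct` has a right adjoint.
-/

set_option autoImplicit false
set_option linter.style.haveILetI false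

universe u

open CategoryTheory CategoryTheory.Limits AlgebraicGeometry TopologicalSpace Opposite

noncomputable section

namespace K919.QCTAdj

open K919.QCT K919.QCTCart K919.IndCoh K29.RSec K29.RExact K181.Good K181.Formal

variable {𝔛 : FSch.Sys.{u}} (h𝔛 : 𝔛.IsLocNoethFormal)

/-- Coherent torsion modules. -/
def cq : ObjectProperty (FSch.ModF 𝔛 h𝔛.1) := fun M => FTors.IsQCT 𝔛 h𝔛.1 M ∧ FSch.IsCohF 𝔛 h𝔛.1 M

theorem cq_le : cq h𝔛 ≤ FTors.IsQCT 𝔛 h𝔛.1 := fun _ h => h.1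

theorem essentiallySmall_cq : ObjectProperty.EssentiallySmall.{u} (cq h𝔛) :=
  ObjectProperty.EssentiallySmall.of_le
    (Q := fun F : FSch.ModF 𝔛 h𝔛.1 => SheafOfModules.IsFinitePresentation (R := ModSite.ringSh (𝔛.Osh h𝔛.1)) F)
    fun _ h => h.2

/-- Coherent submodules of torsion modules are torsion. -/
theorem qct_of_mono {G M : FSch.ModF 𝔛 h𝔛.1} (i : G ⟶ M) [Mono i] (hG : FSch.IsCohF 𝔛 h𝔛.1 G)
    (hM : FTors.IsTorsF 𝔛 h𝔛.1 M) : FTors.IsQCT 𝔛 h𝔛.1 G :=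
  ⟨K920.TorsMod.isTors_of_mono i hM, K180.FSchCls.isQuasicoherent_of_isCohF h𝔛.1 hG⟩

theorem sep_cq {X Y : FSch.ModF 𝔛 h𝔛.1} (f g : X ⟶ Y) (hX : FTors.IsQCT 𝔛 h𝔛.1 X)
    (h : ∀ (A : FSch.ModF 𝔛 h𝔛.1) (h : A ⟶ X), cq h𝔛 A → h ≫ f = h ≫ g) : f = g := by
  refine hom_ext fun V s => eq_of_forall_nhds Y _ _ fun x hx => ?_
  obtain ⟨G, i, hi, hG, W, hxW, hW, t, ht⟩ := exists_coh_sub h𝔛 hX s hx
  refine ⟨W, hxW, hW, ?_⟩
  have h1 := h G i ⟨qct_of_mono h𝔛 i hG hX.1, hG⟩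
  rw [← app_res, ← app_res, ← ht, ← app_comp, ← app_comp, h1]

theorem isGrothendieckAbelian_qct [(FTors.IsQCT 𝔛 h𝔛.1).ContainsZero] [(FTors.IsQCT 𝔛 h𝔛.1).IsClosedUnderKernels]
    [(FTors.IsQCT 𝔛 h𝔛.1).IsClosedUnderCokernels] [(FTors.IsQCT 𝔛 h𝔛.1).IsClosedUnderFiniteProducts]
    [PreservesFiniteLimits (FTors.IsQCT 𝔛 h𝔛.1).ι] :
    IsGrothendieckAbelian.{u} (FTors.IsQCT 𝔛 h𝔛.1).FullSubcategory := by
  have := essentiallySmall_cq h𝔛
  exact K180.IndGroth.isGrothendieckAbelian _ (fun J _ => K919.QCTColim.isClosedUnderColimits_QCT h𝔛 J)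
    (cq h𝔛) (cq_le h𝔛) (fun f g hX _ h => sep_cq h𝔛 f g hX h)

theorem isLeftAdjoint_qct : (FTors.IsQCT 𝔛 h𝔛.1).ι.IsLeftAdjoint := by
  have := essentiallySmall_cq h𝔛
  have := K919.SerreQCT.isWeakSerre_QCT h𝔛
  exact K180.IndGroth.isLeftAdjoint_ι _ (fun J _ => K919.QCTColim.isClosedUnderColimits_QCT h𝔛 J)
    (cq h𝔛) (cq_le h𝔛) (fun f g hX _ h => sep_cq h𝔛 f g hX h)

end K919.QCTAdj
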