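import Groth.Agent.FTors.K919.QCT
import Groth.Agent.FSch.K181.FCls

/-!
# Quasi-coherent torsion modules are cartesian on every affine open

* `cart_of_qct`: `IsBC (O(U) → O(V)) (M(U) → M(V))` for `V ≤ U` affine, `M` quasi-coherent torsion;
* `subsingleton_HU_of_qct`: `H^{q+1}(U, M) = 0` for `U` affine;
* `surjective_app_of_qct`: sections over affine opens are right exact.
-/

set_option autoImplicit false

universe u

open CategoryTheory CategoryTheory.Limits AlgebraicGeometry TopologicalSpace Opposite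

namespace K919.QCTCart

open K919.AffBasic K919.AffFlat K919.AffD K919.Kill K919.Loc K919.LocGen K919.QCK29 K919.QCLoc K919.QCT K29.RSec
open K181.Good K181.Formal

variable {𝔛 : FSch.Sys.{u}} (h𝔛 : 𝔛.IsLocNoethFormal)

theorem aff_iff {U : (𝔛.X 0).Opens} : IsAffineOpen (𝔛.lvU h𝔛.1 0 U) ↔ IsAffineOpen U := by
  rw [lvU_zero]

/-- A torsion module with localized sections on the basic opens of an affine open is cartesian. -/
theorem cart_of_locOn {M : FSch.ModF 𝔛 h𝔛.1} (hM : FTors.IsTorsF 𝔛 h𝔛.1 M) {U : (𝔛.X 0).Opens}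
    (hU : IsAffineOpen U) (hl : ∀ a : O (𝔛.Osh h𝔛.1) U, LocOn M a (Do h𝔛 a) (Do_le h𝔛 a)) :
    Cart (fcov h𝔛) M U := by
  obtain ⟨I, K, e, r, hg, hr⟩ := gen_rel_of_locOn h𝔛 ((aff_iff h𝔛).2 hU) hM hl
  exact cart_of_pres ((mem_fcov h𝔛).2 hU) ((genI_iff M U e).2 ((lg_iff M U e).1 hg))
    ((relI_iff M U e r).2 ((lr_iff M U e r).1 hr))

theorem cart_of_qct {M : FSch.ModF 𝔛 h𝔛.1} (hM : FTors.IsQCT 𝔛 h𝔛.1 M) {U : (𝔛.X 0).Opens}
    (hU : IsAffineOpen U) : Cart (fcov h𝔛) M U :=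
  cart_of_locOn h𝔛 hM.1 hU fun a => ((isQCT_iff h𝔛 M).1 hM).2 U hU.isCompact a

theorem subsingleton_HU_of_qct {M : FSch.ModF 𝔛 h𝔛.1} (hM : FTors.IsQCT 𝔛 h𝔛.1 M) {U : (𝔛.X 0).Opens}
    (hU : IsAffineOpen U) (q : ℕ) : Subsingleton (ModSite.HU (𝔛.Osh h𝔛.1) M (q + 1) U) :=
  subsingleton_HU_of_cart h𝔛 (cart_of_qct h𝔛 hM hU) q

end K919.QCTCart
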